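import Cfsg.Agent.Lib.Spor.Loc.CentralThreeGens
import Cfsg.Agent.Lib.Spor.McLUnitary.Data

/-!
Certificates for the action of the generators on the 112 sets of classes and for the scalar.
-/

set_option autoImplicit false
set_option maxRecDepth 100000
set_option maxHeartbeats 4000000

namespace CfsgLib.Spor.Loc.Central3

/-- the mask of a list -/
def maskOf : List ℕ → ℕ
  | [] => 0
  | x :: r => (1 <<< x) ||| maskOf r

theorem mem_of_maskOf : ∀ (L : List ℕ) (i : ℕ), (maskOf L).testBit i = true → i ∈ L
  | [], i, h => by simp [maskOf] at h
  | e :: r, i, h => by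
    rw [maskOf, Nat.testBit_or, Bool.or_eq_true, Nat.one_shiftLeft, Nat.testBit_two_pow,
      decide_eq_true_eq] at h
    rcases h with h | h
    · simp [h]
    · exact List.mem_cons_of_mem _ (mem_of_maskOf r i h)

theorem sets_chk : ((List.range 112).all fun i =>
    Nat.beq (maskOf (sets.getD i [])) (masks.getD i 0) && Nat.beq (sets.getD i []).length 135 &&
      (sets.getD i []).all (fun x => Nat.blt x (2 ^ 12))) = true := by decide +kernel

/-- strictly increasing -/
def ascB : List ℕ → Bool
  | [] => true
  | [_] => true
  | a :: b :: r => Nat.blt a b && ascB (b :: r)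

theorem sets_asc : ((List.range 112).all fun i => ascB (sets.getD i [])) = true := by decide +kernel

theorem sets_diff : ((List.range 112).all fun i => (List.range 112).all fun j => Nat.beq i j ||
    (sets.getD i []).any (fun x => !(masks.getD j 0).testBit x)) = true := by decide +kernel

/-- a generator moves the sets as listed -/
def setChk (k : ℕ) : Bool :=
  (List.range 112).all fun i => Nat.blt ((perms.getD k []).getD i 0) 112 &&
    (sets.getD i []).all fun x =>
      (masks.getD ((perms.getD k []).getD i 0) 0).testBit (lext 12 (imgs.getD k []) x)

theorem sets_a : ((List.range 5).all setChk) = true := by decide +kernel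

theorem sets_b : ((List.range 4).all fun k => setChk (k + 5)) = true := by decide +kernel

theorem sets_get {k : ℕ} (hk : k < 9) : setChk k = true := by
  rcases Nat.lt_or_ge k 5 with h | h
  · exact List.all_eq_true.1 sets_a k (List.mem_range.2 h)
  · have := List.all_eq_true.1 sets_b (k - 5) (List.mem_range.2 (by omega))
    simpa [Nat.sub_add_cancel h] using this

/-- the permutation of the sets of a word -/
def wPerm : List ℕ → List ℕ
  | [] => List.range 112
  | k :: r => HSUnitary.compL 112 (perms.getD k []) (wPerm r)

/-- the images of the basis under a word -/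
def wImg : List ℕ → List ℕ
  | [] => (List.range 12).map fun j => 2 ^ j
  | k :: r => (List.range 12).map fun j => lext 12 (imgs.getD k []) ((wImg r).getD j 0)

/-- composite of two lists of images of the basis -/
def lcomp (a b : List ℕ) : List ℕ := (List.range 12).map fun j => lext 12 a (b.getD j 0)

theorem words_chk : wPerm wordA = McLUnitary.permA ∧ wPerm wordB = McLUnitary.permB ∧
    wPerm wordO = List.range 112 ∧ wImg wordO ≠ (List.range 12).map (fun j => 2 ^ j) ∧
    lcomp (wImg wordO) (lcomp (wImg wordO) (wImg wordO)) = (List.range 12).map (fun j => 2 ^ j) := by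
  decide +kernel

theorem words_lt : ((wordA ++ wordB ++ wordO).all fun k => Nat.blt k 9) = true := by decide +kernel

/-- the image of the scalar's conjugate under a generator -/
theorem conj_chk : ((List.range 9).all fun k =>
    (Nat.beq (conjExp.getD k 0) 1 &&
      lcomp (imgs.getD k []) (wImg wordO) == lcomp (wImg wordO) (imgs.getD k [])) ||
    (Nat.beq (conjExp.getD k 0) 2 &&
      lcomp (imgs.getD k []) (wImg wordO) ==
        lcomp (lcomp (wImg wordO) (wImg wordO)) (imgs.getD k []))) = true := by decide +kernel

theorem inverted_chk : lcomp (imgs.getD 5 []) (wImg wordO) ≠ lcomp (wImg wordO) (imgs.getD 5 []) := by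
  decide +kernel

end CfsgLib.Spor.Loc.Central3
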