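import Cfsg.Agent.Lib.Spor.Loc.CentralThreeLeaves

/-!
The search, part A.
-/

set_option autoImplicit false
set_option maxRecDepth 100000
set_option maxHeartbeats 4000000

namespace CfsgLib.Spor.Loc.Central3


theorem leaf_ok1 : leafOK 1 leaves1 = true := by decide +kernel

theorem leaf_ok2 : leafOK 2 leaves2 = true := by decide +kernel

theorem leaf_ok3 : leafOK 3 leaves3 = true := by decide +kernel

theorem leaf_ok4 : leafOK 4 leaves4 = true := by decide +kernel

theorem leaf_ok5 : leafOK 5 leaves5 = true := by decide +kernel

theorem leaf_ok6 : leafOK 6 leaves6 = true := by decide +kernel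

theorem leaf_ok0 : leafOK 0 [] = true := by decide +kernel

theorem leaf_ok10 : leafOK 10 [] = true := by decide +kernel

theorem leaf_ok13 : leafOK 13 [] = true := by decide +kernel

theorem leaf_ok14 : leafOK 14 [] = true := by decide +kernel

theorem leaf_ok20 : leafOK 20 [] = true := by decide +kernel

theorem leaf_ok23 : leafOK 23 [] = true := by decide +kernel

end CfsgLib.Spor.Loc.Central3
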