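import Cfsg.Agent.Lib.Spor.Loc.CentralThreeLeaves

/-!
The search, part B.
-/

set_option autoImplicit false
set_option maxRecDepth 100000
set_option maxHeartbeats 4000000

namespace CfsgLib.Spor.Loc.Central3


theorem leaf_ok7 : leafOK 7 leaves7 = true := by decide +kernel

theorem leaf_ok8 : leafOK 8 leaves8 = true := by decide +kernel

theorem leaf_ok9 : leafOK 9 leaves9 = true := by decide +kernel

theorem leaf_ok11 : leafOK 11 leaves11 = true := by decide +kernel

theorem leaf_ok12 : leafOK 12 leaves12 = true := by decide +kernel

theorem leaf_ok15 : leafOK 15 leaves15 = true := by decide +kernel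

end CfsgLib.Spor.Loc.Central3
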