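import Cfsg.Agent.Lib.Spor.Loc.CentralThreeLeaves

/-!
The search, part C.
-/

set_option autoImplicit false
set_option maxRecDepth 100000
set_option maxHeartbeats 4000000

namespace CfsgLib.Spor.Loc.Central3


theorem leaf_ok16 : leafOK 16 leaves16 = true := by decide +kernel

theorem leaf_ok17 : leafOK 17 leaves17 = true := by decide +kernel

theorem leaf_ok18 : leafOK 18 leaves18 = true := by decide +kernel

theorem leaf_ok19 : leafOK 19 leaves19 = true := by decide +kernel

theorem leaf_ok21 : leafOK 21 leaves21 = true := by decide +kernel

theorem leaf_ok22 : leafOK 22 leaves22 = true := by decide +kernel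

end CfsgLib.Spor.Loc.Central3
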