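import Cfsg.Agent.Lib.Spor.Co1Simple
import Cfsg.Agent.Lib.Spor.CentralFree
import Cfsg.Agent.Lib.Spor.Classes

/-!
The elements of order three of the stabiliser of the standard cross: each is conjugate to a
coordinate permutation, which either is one fixed element without fixed points or centralises a
subgroup of order 27.
-/

set_option autoImplicit false
set_option maxRecDepth 100000

namespace CfsgLib.Spor.Loc

open Cfsg
open CfsgLib.Spor CfsgLib.Spor.CentralFree
open scoped Pointwise symmDiff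

/-- the packed fixed-point-free element -/
def t3Code : ℕ := 418350257037002393130034496246561425

/-- its inverse -/
def t3InvCode : ℕ := 351130836658203105710664382146664587

/-- a central element of the listed Sylow subgroup -/
def z3Code : ℕ := 975204300247616724136936238779337952

/-- conjugator of the first representative to the central element -/
def z3Conj : ℕ := 880794819691692429761487557624343988

/-- conjugator of the second representative to the fixed-point-free element -/
def t3Conj : ℕ := 153871681488858068412370924766649615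

theorem three_codes : (isM24P t3Code && isM24P z3Code && isM24P z3Conj && isM24P t3Conj &&
    Nat.beq (compP t3Code (compP t3Code t3Code)) idP && Nat.beq (compP t3Code t3InvCode) idP &&
    Nat.beq (compP z3Conj syl3Rep0) (compP z3Code z3Conj) &&
    Nat.beq (compP t3Conj syl3Rep1) (compP t3Code t3Conj) &&
    syl3Gens.all fun g => Nat.beq (compP g z3Code) (compP z3Code g)) = true := by decide +kernel

theorem t3_isM24 : isM24P t3Code = true := by
  have h := three_codes
  simp only [Bool.and_eq_true] at h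
  exact h.1.1.1.1.1.1.1.1

/-- the fixed-point-free element of order three -/
noncomputable def t3El : ↥M24 :=
  ⟨(exists_rep_M24 t3_isM24).choose, (exists_rep_M24 t3_isM24).choose_spec.1⟩

theorem rep_t3El : Rep (t3El : Equiv.Perm GolayPt) 418350257037002393130034496246561425 :=
  (exists_rep_M24 t3_isM24).choose_spec.2

theorem t3_checks : Nat.beq (compP t3Code (compP t3Code t3Code)) idP = true ∧
    Nat.beq (compP t3Code t3Code) t3InvCode = true := by decide +kernel

theorem t3El_cube : t3El ^ 3 = 1 := by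
  have hc : Rep ((t3El : Equiv.Perm GolayPt) * ((t3El : Equiv.Perm GolayPt) * t3El))
      (compP t3Code (compP t3Code t3Code)) := Rep.mul rep_t3El (Rep.mul rep_t3El rep_t3El)
  rw [Nat.eq_of_beq_eq_true t3_checks.1] at hc
  refine Subtype.ext ?_
  rw [pow_succ', pow_two]
  exact hc.inj rep_one

theorem rep_t3El_inv : Rep ((t3El⁻¹ : ↥M24) : Equiv.Perm GolayPt) t3InvCode := by
  have hc : Rep ((t3El : Equiv.Perm GolayPt) * t3El) (compP t3Code t3Code) :=
    Rep.mul rep_t3El rep_t3El
  rw [Nat.eq_of_beq_eq_true t3_checks.2] at hc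
  have e : t3El⁻¹ = t3El * t3El :=
    inv_eq_of_mul_eq_one_right (by rw [← pow_two, ← pow_succ', t3El_cube])
  rw [e]
  exact hc

theorem monoEl_eq {σ τ : ↥M24} {c d : ↥(supports (golayCode : Set (GolayPt → ZMod 2)))}
    (h1 : σ = τ) (h2 : (c : Finset GolayPt) = d) : monoEl (σ, c) = monoEl (τ, d) := by
  rw [h1, Subtype.ext h2]

/-- an element of order three is conjugate to its permutation part -/
theorem exists_conj_permEl {g : Co0} (hg : g ∈ crossStab) (h3 : g ^ 3 = 1) :
    ∃ n ∈ crossStab, ∃ σ : ↥M24, σ ^ 3 = 1 ∧ g = n * permEl σ * n⁻¹ := by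
  obtain ⟨⟨σ, c, hcm⟩, rfl⟩ := exists_monoEl_of_mem hg
  rw [pow_succ', pow_two, monoEl_mul, monoEl_mul] at h3
  have h3' := monoEl_injective (h3.trans monoEl_one.symm)
  obtain ⟨hσ, hc⟩ := Prod.ext_iff.1 h3'
  have hc' : c ∆ ((σ : Equiv.Perm GolayPt) • (c ∆ ((σ : Equiv.Perm GolayPt) • c))) = (∅ : Finset GolayPt) :=
    congrArg Subtype.val hc
  refine ⟨epsEl ⟨(σ : Equiv.Perm GolayPt) • c, smul_supports σ.2 hcm⟩, monoEl_mem_crossStab _, σ,
    by rw [pow_succ', pow_two]; exact hσ, ?_⟩
  rw [eq_mul_inv_iff_mul_eq, epsEl, permEl, monoEl_mul, monoEl_mul]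
  refine monoEl_eq (by simp) ?_
  simp only [OneMemClass.coe_one, one_smul]
  have key : (σ : Equiv.Perm GolayPt) • (c ∆ ((σ : Equiv.Perm GolayPt) • c)) = c := by
    rw [← Finset.bot_eq_empty, symmDiff_eq_bot] at hc'
    exact hc'.symm
  have key' : ∀ p, p ∈ c ↔ p ∈ (σ : Equiv.Perm GolayPt) • c ∆ ((σ : Equiv.Perm GolayPt) • c) := by
    intro p; rw [key]
  ext p
  have h := key' p
  simp only [← Finset.inv_smul_mem_iff, Finset.mem_symmDiff, Finset.notMem_empty] at h ⊢
  tauto

/-- every element of order three of the stabiliser of the cross -/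
theorem cross_three (g : Co0) (hg : g ∈ crossStab) (h3 : g ^ 3 = 1) (hne : g ≠ 1) :
    (∃ n ∈ crossStab, n * g * n⁻¹ = permEl t3El ∨ n * g * n⁻¹ = (permEl t3El) ^ 2) ∨
      27 ∣ Nat.card ↥(crossStab ⊓ Subgroup.centralizer ({g} : Set Co0)) := by
  obtain ⟨n, hn, σ, hσ3, rfl⟩ := exists_conj_permEl hg h3
  have hσ1 : σ ≠ 1 := by
    rintro rfl
    rw [permEl_one, mul_one, mul_inv_cancel] at hne
    exact hne rfl
  haveI : Fact (Nat.Prime 3) := ⟨Nat.prime_three⟩
  have ho : orderOf (σ : Equiv.Perm GolayPt) = 3 := by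
    rw [Subgroup.orderOf_coe]; exact orderOf_eq_prime hσ3 hσ1
  obtain ⟨a, ha, ρ, hρ, hr, b, hb, e⟩ := exists_census3 σ.2 ho
  have hcodes := three_codes
  simp only [Bool.and_eq_true, Nat.beq_eq, List.all_eq_true] at hcodes
  obtain ⟨⟨⟨⟨⟨⟨⟨⟨-, hz⟩, hkc⟩, hwc⟩, -⟩, -⟩, ek⟩, ew⟩, hcomm⟩ := hcodes
  simp only [List.mem_cons, List.not_mem_nil, or_false] at ha
  rcases ha with rfl | rfl
  · right
    obtain ⟨k, hk, hkr⟩ := exists_rep_M24 hkc
    obtain ⟨ζ, hζ, hζr⟩ := exists_rep_M24 hz
    have h1 := hkr.mul hr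
    rw [ek] at h1
    have e1 : k * ρ = ζ * k := h1.inj (hζr.mul hkr)
    let K : ↥M24 := ⟨b, hb⟩ * ⟨k, hk⟩⁻¹
    have e2 : σ = K * ⟨ζ, hζ⟩ * K⁻¹ := by
      refine Subtype.ext ?_
      rw [e]
      show b * ρ * b⁻¹ = b * k⁻¹ * ζ * (b * k⁻¹)⁻¹
      rw [mul_inv_rev, inv_inv, show ρ = k⁻¹ * ζ * k by rw [mul_assoc, ← e1, inv_mul_cancel_left]]
      group
    set P := (genGroup syl3Gens).subgroupOf M24
    have hP : Nat.card P = 27 := by
      rw [Nat.card_congr (Subgroup.subgroupOfEquivOfLe (genGroup_le syl3Gens)).toEquiv,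
        natCard_genGroup syl3_listed]
    have hcz : ∀ x ∈ P, x * ⟨ζ, hζ⟩ = ⟨ζ, hζ⟩ * x := by
      intro x hx
      refine Subtype.ext ?_
      show (x : Equiv.Perm GolayPt) * ζ = ζ * x
      have hx' : (x : Equiv.Perm GolayPt) ∈ Subgroup.centralizer ({ζ} : Set (Equiv.Perm GolayPt)) := by
        have hle : genGroup syl3Gens ≤ Subgroup.centralizer ({ζ} : Set (Equiv.Perm GolayPt)) := by
          rw [genGroup, Subgroup.closure_le]
          rintro y ⟨-, hy⟩
          obtain ⟨g', hg', hyr⟩ := hy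
          have h1 := hyr.mul hζr
          rw [hcomm g' hg'] at h1
          exact Subgroup.mem_centralizer_singleton_iff.2 (h1.inj (hζr.mul hyr))
        exact hle (Subgroup.mem_subgroupOf.1 hx)
      exact Subgroup.mem_centralizer_singleton_iff.1 hx'
    let f : ↥M24 →* Co0 := (MulAut.conj (n * permEl K)).toMonoidHom.comp (MonoidHom.mk' permEl permEl_mul)
    have hf : Function.Injective f := fun x y h =>
      permEl_injective ((MulAut.conj (n * permEl K)).injective h)
    have hz' : n * permEl σ * n⁻¹ = f ⟨ζ, hζ⟩ := by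
      show _ = n * permEl K * permEl _ * (n * permEl K)⁻¹
      rw [e2, permEl_mul, permEl_mul, permEl_inv]
      group
    have hle : P.map f ≤ crossStab ⊓ Subgroup.centralizer ({n * permEl σ * n⁻¹} : Set Co0) := by
      rintro _ ⟨x, hx, rfl⟩
      have hNK : n * permEl K ∈ crossStab := crossStab.mul_mem hn (monoEl_mem_crossStab _)
      refine ⟨crossStab.mul_mem (crossStab.mul_mem hNK (monoEl_mem_crossStab _))
        (crossStab.inv_mem hNK), Subgroup.mem_centralizer_singleton_iff.2 ?_⟩
      rw [hz', ← map_mul, ← map_mul, hcz x hx]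
    have h27 := Subgroup.card_dvd_of_le hle
    rwa [← Nat.card_congr (Subgroup.equivMapOfInjective P f hf).toEquiv, hP] at h27
  · left
    obtain ⟨w, hw, hwr⟩ := exists_rep_M24 hwc
    have h1 := hwr.mul hr
    rw [ew] at h1
    have e1 : w * ρ = (t3El : Equiv.Perm GolayPt) * w := h1.inj (Rep.mul rep_t3El hwr)
    let K : ↥M24 := ⟨b, hb⟩ * ⟨w, hw⟩⁻¹
    have e2 : σ = K * t3El * K⁻¹ := by
      refine Subtype.ext ?_
      rw [e]
      show b * ρ * b⁻¹ = b * w⁻¹ * (t3El : Equiv.Perm GolayPt) * (b * w⁻¹)⁻¹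
      rw [mul_inv_rev, inv_inv, show ρ = w⁻¹ * (t3El : Equiv.Perm GolayPt) * w by
        rw [mul_assoc, ← e1, inv_mul_cancel_left]]
      group
    refine ⟨(n * permEl K)⁻¹, crossStab.inv_mem (crossStab.mul_mem hn (monoEl_mem_crossStab _)), Or.inl ?_⟩
    clear_value K
    simp only [e2, permEl_mul, permEl_inv]
    group

end CfsgLib.Spor.Loc
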