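import Cfsg.Agent.Lib.Spor.Loc.Gens

/-!
Reading the certificates: monomial generators, fixed words, classes of norm 64, invariant families.
-/

set_option autoImplicit false
set_option linter.unusedSectionVars false

namespace CfsgLib.Spor.Loc

open Cfsg
open CfsgLib.MathieuOut (rep_idP)
open scoped Pointwise symmDiff

theorem actsAs_unique {g h : Co0} {P : List Stp} (hg : ActsAs g (runP P))
    (hh : ActsAs h (runP P)) : g = h :=
  co0_ext fun p => Subtype.ext (lOf_inj (by rw [hg, hh]))

theorem epsEl_mul' (c d : ↥(supports (golayCode : Set (GolayPt → ZMod 2)))) :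
    epsEl c * epsEl d = epsEl ⟨(c : Finset GolayPt) ∆ d, symmDiff_mem_supports c.2 d.2⟩ := by
  rw [epsEl, epsEl, monoEl_mul]
  congr 1
  refine Prod.ext (mul_one _) (Subtype.ext ?_)
  simp

theorem epsEl_empty : epsEl ⟨∅, empty_supports⟩ = 1 := monoEl_one

theorem actsAs_epsEl {m : ℕ} (hm : inCode m = true) (hlt : m < 2 ^ 24) :
    ActsAs (epsEl ⟨toSet m, toSet_supports_of_inCode hm hlt⟩)
      (runP [Stp.mono CfsgLib.MathieuOut.idP m]) :=
  Co1Out.actsAs_monoEl (by simpa using rep_idP) rfl

/-- the fixed words of `a` are the listed ones -/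
def fixedOK (a : ℕ) (W : List ℕ) : Bool :=
  codeList.all fun m => !Nat.beq (actP a m) m || W.any (Nat.beq m)

theorem fixed_word {a : ℕ} {W : List ℕ} {A : Equiv.Perm GolayPt} (hA : Rep A a)
    (h : fixedOK a W = true) {c : Finset GolayPt}
    (hc : c ∈ supports (golayCode : Set (GolayPt → ZMod 2))) (hfix : A • c = c) : mask c ∈ W := by
  have hin := mem_supports_iff.1 hc
  have h1 := List.all_eq_true.1 h (mask c) hin
  have e : actP a (mask c) = mask c := by
    rw [← mask_toSet (hA.actP_lt (mask c)), hA.toSet_actP, toSet_mask, hfix]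
  rw [e, Nat.beq_refl] at h1
  simp only [Bool.not_true, Bool.false_or, List.any_eq_true, Nat.beq_eq] at h1
  obtain ⟨x, hx, rfl⟩ := h1
  exact hx

variable {bh : Co0} {r : ℕ} {tb : List (List ℤ)}

/-- Sign changes on the span of listed words lie in a subgroup containing those of the words. -/
theorem eps_mem (S : Subgroup Co0) {l : List ℕ} (hl : l.all (fun m => inCode m && Nat.blt m 16777216) = true)
    (hS : ∀ m ∈ l, ∀ g : Co0, ActsAs g (runP [Stp.mono CfsgLib.MathieuOut.idP m]) → g ∈ S) :
    ∀ m ∈ spanList l, ∀ c : ↥(supports (golayCode : Set (GolayPt → ZMod 2))),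
      (c : Finset GolayPt) = toSet m → epsEl c ∈ S := by
  have hl' := List.all_eq_true.1 hl
  simp only [Bool.and_eq_true, Nat.blt_eq] at hl'
  have key : ∀ m ∈ spanList l, toSet m ∈ supports (golayCode : Set (GolayPt → ZMod 2)) ∧
      ∀ c : ↥(supports (golayCode : Set (GolayPt → ZMod 2))), (c : Finset GolayPt) = toSet m →
        epsEl c ∈ S := by
    refine spanList_induction (P := fun m => toSet m ∈ supports (golayCode : Set (GolayPt → ZMod 2)) ∧
      ∀ c : ↥(supports (golayCode : Set (GolayPt → ZMod 2))), (c : Finset GolayPt) = toSet m →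
        epsEl c ∈ S) ⟨toSet_zero.symm ▸ empty_supports, fun c hc => ?_⟩ (fun m hm => ?_) ?_
    · rw [show c = ⟨∅, empty_supports⟩ from Subtype.ext (hc.trans toSet_zero), epsEl_empty]
      exact one_mem S
    · obtain ⟨h1, h2⟩ := hl' m hm
      refine ⟨toSet_supports_of_inCode h1 (by simpa using h2), fun c hc => hS m hm _ ?_⟩
      rw [show c = ⟨toSet m, toSet_supports_of_inCode h1 (by simpa using h2)⟩ from Subtype.ext hc]
      exact actsAs_epsEl h1 (by simpa using h2)
    · rintro a b ⟨ha, ha'⟩ ⟨hb, hb'⟩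
      refine ⟨toSet_xor a b ▸ symmDiff_mem_supports ha hb, fun c hc => ?_⟩
      rw [show c = ⟨toSet a ∆ toSet b, symmDiff_mem_supports ha hb⟩ from
        Subtype.ext (hc.trans (toSet_xor a b)), ← epsEl_mul' ⟨_, ha⟩ ⟨_, hb⟩]
      exact mul_mem (ha' _ rfl) (hb' _ rfl)
  exact fun m hm => (key m hm).2

/-- every entry `(value, parent, generator)` is a generator times an earlier value -/
def permClosOK (pg : List ℕ) : List (ℕ × ℕ × ℕ) → List ℕ → Bool
  | [], _ => true
  | (v, par, k) :: rest, seen =>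
    (Nat.beq v CfsgLib.MathieuOut.idP ||
      (Nat.blt k pg.length && Nat.blt par seen.length &&
        Nat.beq (compP (pg.getD k 0) (seen.getD par 0)) v)) &&
      permClosOK pg rest (seen ++ [v])

/-- Permutations in a certified closure lie in the subgroup of the generators. -/
theorem perm_mem (S : Subgroup Co0) {pg : List ℕ}
    (hS : ∀ k < pg.length, ∃ σ : ↥M24, Rep (σ : Equiv.Perm GolayPt) (pg.getD k 0) ∧ permEl σ ∈ S) :
    ∀ (L : List (ℕ × ℕ × ℕ)) (seen : List ℕ),
      (∀ v ∈ seen, ∀ σ : ↥M24, Rep (σ : Equiv.Perm GolayPt) v → permEl σ ∈ S) →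
      (∀ v ∈ seen, ∃ σ : ↥M24, Rep (σ : Equiv.Perm GolayPt) v) →
      permClosOK pg L seen = true →
      ∀ v ∈ seen ++ L.map Prod.fst, ∀ σ : ↥M24, Rep (σ : Equiv.Perm GolayPt) v → permEl σ ∈ S
  | [], seen, h, _, _, v, hv => h v (by simpa using hv)
  | (w, par, k) :: rest, seen, h, hex, hok, v, hv => by
    simp only [permClosOK, Bool.and_eq_true, Bool.or_eq_true, Nat.beq_eq, Nat.blt_eq] at hok
    obtain ⟨hw, hrest⟩ := hok
    have hnew : (∀ σ : ↥M24, Rep (σ : Equiv.Perm GolayPt) w → permEl σ ∈ S) ∧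
        ∃ σ : ↥M24, Rep (σ : Equiv.Perm GolayPt) w := by
      rcases hw with rfl | ⟨⟨hk, hp⟩, hw⟩
      · refine ⟨fun σ hσ => ?_, 1, by simpa using rep_idP⟩
        rw [show σ = 1 from Subtype.ext (hσ.inj (by simpa using rep_idP)), permEl_one]
        exact one_mem S
      · obtain ⟨g, hg, hgS⟩ := hS k hk
        have hpar : seen.getD par 0 ∈ seen := by
          rw [List.getD_eq_getElem seen 0 hp]; exact List.getElem_mem _
        obtain ⟨τ, hτ⟩ := hex _ hpar
        have hgt : Rep ((g * τ : ↥M24) : Equiv.Perm GolayPt) w := by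
          rw [← hw]; exact hg.mul hτ
        refine ⟨fun σ hσ => ?_, _, hgt⟩
        rw [show σ = g * τ from Subtype.ext (hσ.inj hgt), permEl_mul]
        exact mul_mem hgS (h _ hpar τ hτ)
    refine perm_mem S hS rest (seen ++ [w]) ?_ ?_ hrest v (by simpa using hv)
    · intro u hu
      rcases List.mem_append.1 hu with hu | hu
      · exact h u hu
      · rw [List.mem_singleton.1 hu]; exact hnew.1
    · intro u hu
      rcases List.mem_append.1 hu with hu | hu
      · exact hex u hu
      · rw [List.mem_singleton.1 hu]; exact hnew.2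

/-- The stabiliser has at most (permutations) × (fixed words) elements. -/
theorem card_stab_le {A : ↥M24} (hbh : bh = permEl A) {a : ℕ}
    (hA : Rep (A : Equiv.Perm GolayPt) a) {W : List ℕ} (hW : fixedOK a W = true) {L : List ℕ}
    (hL : ∀ σ : ↥M24, σ * A = A * σ → CfsgLib.MathieuOut.canon (σ : Equiv.Perm GolayPt) ∈ L) :
    Nat.card ↥(crossStab ⊓ CB bh) ≤ L.length * W.length := by
  classical
  have key : ∀ g : ↥(crossStab ⊓ CB bh), ∃ σ : ↥M24,
      ∃ c : ↥(supports (golayCode : Set (GolayPt → ZMod 2))),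
      CfsgLib.MathieuOut.canon (σ : Equiv.Perm GolayPt) ∈ L ∧ mask (c : Finset GolayPt) ∈ W ∧
        (g : Co0) = monoEl (σ, c) := by
    intro g
    obtain ⟨σ, c, hσ, hc, hg, -⟩ := stab_cases hbh g.2.1 (Subgroup.mem_centralizer_singleton_iff.1 g.2.2)
    exact ⟨σ, c, hL σ hσ, fixed_word hA hW c.2 hc, hg⟩
  choose σ c hσ hc hg using key
  refine (Nat.card_le_card_of_injective (fun g =>
    ((⟨_, List.mem_toFinset.2 (hσ g)⟩, ⟨_, List.mem_toFinset.2 (hc g)⟩) : L.toFinset × W.toFinset))
    fun g g' e => ?_).trans ?_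
  · obtain ⟨e1, e2⟩ := Prod.mk.inj e
    refine Subtype.ext ?_
    rw [hg g, hg g']
    congr 1
    refine Prod.ext (Subtype.ext (CfsgLib.MathieuOut.canon_injective (congrArg Subtype.val e1)))
      (Subtype.ext ?_)
    have := congrArg (fun m : ↥W.toFinset => toSet (m : ℕ)) e2
    simpa only [toSet_mask] using this
  · rw [Nat.card_prod, Nat.card_eq_fintype_card, Nat.card_eq_fintype_card, Fintype.card_coe,
      Fintype.card_coe]
    exact Nat.mul_le_mul (List.toFinset_card_le _) (List.toFinset_card_le _)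

/-- congruent vectors of norm at most 64 have the same norm -/
theorem norm_eq_of_cl {v w : leechLattice} (h : cl v = cl w)
    (hv : sqNorm (v : GolayPt → ℤ) ≤ 64) (hw : sqNorm (w : GolayPt → ℤ) ≤ 64) :
    sqNorm (v : GolayPt → ℤ) = sqNorm (w : GolayPt → ℤ) := by
  refine (short_classes w.2 hv hw ?_).1
  obtain ⟨u, rfl⟩ := cl_eq_iff.1 h
  exact ⟨u, u.2, by rw [AddSubgroup.coe_add, AddSubgroup.coe_add, two_nsmul]; abel⟩

/-- The top class only moves to classes of norm 64. -/
theorem Tab.img_norm (T : Tab bh r tb) {t : ℕ} (ht : t < 2 ^ r) (htop : cl (tv tb t) = cl eTop)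
    (g : CB bh) : normL (tb.getD (T.img g ⟨t, ht⟩ : ℕ) []) = 64 := by
  set j := T.img g ⟨t, ht⟩ with hj
  have hcl : cl ((g : Co0) • eTop) = cl (tv tb (j : ℕ)) := by
    rw [cl_smul_congr _ htop.symm]; exact T.img_spec g ⟨t, ht⟩
  have h64 : sqNorm (((g : Co0) • eTop : leechLattice) : GolayPt → ℤ) = 64 :=
    (coe_smul_sqNorm (g : Co0) eTop).trans (CfsgLib.Spor.sqNorm_bigE none)
  have hn : sqNorm ((tv tb (j : ℕ) : leechLattice) : GolayPt → ℤ) = normL (tb.getD j []) := by
    rw [sqNorm_lOf, tv, lOf_toL (T.entry _ j.2)]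
  have hj0 : (j : ℕ) ≠ 0 := by
    intro h0
    refine cl_ne_zero _ (Or.inr (Or.inr h64)) ?_
    rw [hcl, h0, T.zero]
  rw [← hn, ← norm_eq_of_cl hcl h64.le ?_, h64]
  rcases T.norm _ j.2 hj0 with h | h | h <;> omega

/-- A family of sets of classes preserved by generators is permuted by the centraliser. -/
theorem Tab.exists_setsHom (T : Tab bh r tb) {n : ℕ} (F : Fin n → Finset (Fin (2 ^ r)))
    (hF : Function.Injective F) (s : Set (CB bh)) (htop : Subgroup.closure s = ⊤)
    (hs : ∀ g ∈ s, ∀ i, ∃ j, (F i).image (T.img g) = F j) :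
    ∃ φ : CB bh →* Equiv.Perm (Fin n), ∀ g i, (F i).image (T.img g) = F (φ g i) := by
  classical
  have hmul : ∀ g h : CB bh, ∀ S : Finset (Fin (2 ^ r)),
      (S.image (T.img h)).image (T.img g) = S.image (T.img (g * h)) := fun g h S => by
    rw [Finset.image_image]
    exact Finset.image_congr fun x _ => (T.img_mul g h x).symm
  have hone : ∀ S : Finset (Fin (2 ^ r)), S.image (T.img 1) = S := fun S => by
    conv_rhs => rw [← Finset.image_id (s := S)]
    exact Finset.image_congr fun x _ => T.img_one x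
  have hcan : ∀ (g : CB bh) (A B : Finset (Fin (2 ^ r))),
      A.image (T.img g) = B → B.image (T.img g⁻¹) = A := fun g A B h => by
    rw [← h, hmul, inv_mul_cancel, hone]
  have hall : ∀ g : CB bh, ∀ i, ∃ j, (F i).image (T.img g) = F j := by
    intro g
    have hg : g ∈ Subgroup.closure s := htop ▸ Subgroup.mem_top g
    induction hg using Subgroup.closure_induction with
    | mem g hg => exact hs g hg
    | one => exact fun i => ⟨i, hone _⟩
    | mul a c _ _ ha hc =>
      intro i
      obtain ⟨j, hj⟩ := hc i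
      obtain ⟨k, hk⟩ := ha j
      exact ⟨k, by rw [← hmul, hj, hk]⟩
    | inv a _ ha =>
      choose f hf using ha
      have hinj : Function.Injective f := fun i j e => hF (by
        rw [← hcan a (F i) _ (hf i), ← hcan a (F j) _ (hf j), e])
      intro i
      obtain ⟨j, rfl⟩ := Finite.surjective_of_injective hinj i
      exact ⟨j, hcan a _ _ (hf j)⟩
  choose f hf using hall
  have hfone : ∀ i, f 1 i = i := fun i => hF (by rw [← hf, hone])
  have hfmul : ∀ g h i, f (g * h) i = f g (f h i) := fun g h i => hF (by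
    rw [← hf, ← hf, ← hf, hmul])
  exact ⟨{ toFun := fun g =>
              { toFun := f g
                invFun := f g⁻¹
                left_inv := fun i => by rw [← hfmul, inv_mul_cancel, hfone]
                right_inv := fun i => by rw [← hfmul, mul_inv_cancel, hfone] }
           map_one' := Equiv.ext hfone
           map_mul' := fun g h => Equiv.ext (hfmul g h) }, hf⟩

/-- Trivial action gives a trivial permutation. -/
theorem setsHom_eq_one (T : Tab bh r tb) {n : ℕ} {F : Fin n → Finset (Fin (2 ^ r))}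
    (hF : Function.Injective F) {φ : CB bh →* Equiv.Perm (Fin n)}
    (hφ : ∀ g i, (F i).image (T.img g) = F (φ g i)) {g : CB bh} (h : T.act g = 1) : φ g = 1 := by
  refine Equiv.ext fun i => hF ?_
  rw [← hφ]
  conv_rhs => rw [Equiv.Perm.one_apply, ← Finset.image_id (s := F i)]
  exact Finset.image_congr fun x _ => DFunLike.congr_fun h x

theorem Tab.act_neg (T : Tab bh r tb) :
    T.act ⟨negEl, Subgroup.mem_centralizer_singleton_iff.2
      (Subgroup.mem_center_iff.1 negEl_central bh).symm⟩ = 1 :=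
  T.act_eq_one fun v _ => by
    show cl (negEl • v) = cl v
    rw [negEl_smul, map_neg, neg_eq_of_add_eq_zero_left (cl_two v)]

end CfsgLib.Spor.Loc
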