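import Cfsg.Agent.Lib.Spor.Loc.CentralThreeTab
import Cfsg.Agent.Lib.Spor.Loc.CentralThreePlanA
import Cfsg.Agent.Lib.Spor.Loc.CentralThreePlanB
import Cfsg.Agent.Lib.Spor.Loc.CentralThreePlanC
import Cfsg.Agent.Lib.Spor.Loc.Setup
import Cfsg.Agent.Lib.Spor.Loc.CrossThree

/-!
Generators of the centraliser of the 3-central element, its stabiliser of the top class, and the
orbit of the top class.
-/

set_option autoImplicit false
set_option maxRecDepth 100000
set_option maxHeartbeats 4000000

namespace CfsgLib.Spor.Loc.Central3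

open Cfsg CfsgLib.MathieuOut

/-- the program commutes and moves the basis entries as listed -/
def genChk (P : List Stp) (l : List ℕ) : Bool :=
  P.all Stp.ok && Co1Out.sameOK (progB ++ P) (P ++ progB) &&
    ((List.range 12).all fun j => Nat.blt (l.getD j 0) (2 ^ 12) &&
      congB (Co1Out.runF P (ent (2 ^ j))) (ent (l.getD j 0)))

theorem gens_chk : ((List.range 9).all fun k =>
    genChk (gens.getD k []) (imgs.getD k [])) = true := by decide +kernel

theorem gen_ok {k : ℕ} (hk : k < 9) :
    genOK progB (gens.getD k []) 12 tab (imgs.getD k []) = true := by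
  have h := List.all_eq_true.1 gens_chk k (List.mem_range.2 hk)
  simp only [genChk, Bool.and_eq_true, List.all_eq_true (p := fun j => Nat.blt _ _ && _),
    List.mem_range, Nat.blt_eq] at h
  simp only [genOK, Bool.and_eq_true, List.all_eq_true (p := fun j => Nat.blt _ _ && _),
    List.mem_range, Nat.blt_eq]
  refine ⟨h.1, fun j hj => ⟨(h.2 j hj).1, ?_⟩⟩
  rw [tab_getD (Nat.pow_lt_pow_right (by norm_num) hj), tab_getD (h.2 j hj).1]
  exact (h.2 j hj).2

theorem orbit_chk : orbitOK 12 top imgs orb [top] = true := by decide +kernel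

theorem orbit_len : orb.length + 1 = 1701 := by decide +kernel

theorem orbit_mask : (orb.all fun e => orbMask.testBit e.1) = true := by decide +kernel

/-- classes of norm 64 are in the orbit -/
def normChk (a b : ℕ) : Bool :=
  (List.range b).all fun k => !Nat.beq (normN (entN (a + k)) 0 24) 64 || orbMask.testBit (a + k)

theorem norm_a : normChk 0 2048 = true := by decide +kernel

theorem norm_b : normChk 2048 2048 = true := by decide +kernel

/-- the orbit mask as a list -/
def orbMaskOf : List (ℕ × ℕ × ℕ) → ℕ
  | [] => 1 <<< top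
  | e :: r => (1 <<< e.1) ||| orbMaskOf r

theorem orbMask_eq : Nat.beq (orbMaskOf orb) orbMask = true := by decide +kernel

theorem mem_of_mask : ∀ (L : List (ℕ × ℕ × ℕ)) (i : ℕ), (orbMaskOf L).testBit i = true →
    i ∈ L.map Prod.fst ++ [top]
  | [], i, h => by
    rw [orbMaskOf, Nat.one_shiftLeft, Nat.testBit_two_pow, decide_eq_true_eq] at h
    simp [h]
  | e :: r, i, h => by
    rw [orbMaskOf, Nat.testBit_or, Bool.or_eq_true, Nat.one_shiftLeft, Nat.testBit_two_pow,
      decide_eq_true_eq] at h
    rcases h with h | h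
    · simp [h]
    · have := mem_of_mask r i h
      simp only [List.map_cons, List.cons_append, List.mem_cons]
      exact Or.inr this

theorem mem_orbit {i : ℕ} (hi : i < 2 ^ 12) (h : normL (ent i) = 64) :
    i ∈ orb.map Prod.fst ++ [top] := by
  refine mem_of_mask orb i ?_
  rw [Nat.eq_of_beq_eq_true orbMask_eq]
  have key : ∀ {a b : ℕ}, normChk a b = true → a ≤ i → i < a + b → orbMask.testBit i = true := by
    intro a b hc h1 h2
    have := List.all_eq_true.1 hc (i - a) (List.mem_range.2 (by omega))
    have h' : normN (entN i) 0 24 = 64 := by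
      rw [ent, normL_dec] at h
      exact_mod_cast h
    simpa [Nat.add_sub_cancel' h1, h'] using this
  norm_num at hi
  rcases Nat.lt_or_ge i 2048 with h' | h'
  · exact key norm_a (by omega) (by omega)
  · exact key norm_b h' (by omega)

theorem top_chk : congB (ent top) ((List.range 24).map fun i => if Nat.beq i 23 then 8 else 0) = true ∧
    normL (ent top) = 64 ∧ top < 2 ^ 12 := by decide +kernel

theorem word_chk : fixedOK permA (spanList wordBasis) = true ∧
    (wordBasis.all fun m => inCode m && Nat.blt m 16777216) = true ∧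
    (spanList wordBasis).length = 64 ∧ pList.length = 1080 := by decide +kernel

theorem clos_chk : permClosOK pgens pList [] = true := by decide +kernel

/-- monomial programs of the stabiliser -/
theorem mono_chk : gens.getD 0 [] = [.mono (pgens.getD 0 0) 0] ∧
    gens.getD 1 [] = [.mono (pgens.getD 1 0) 0] ∧
    ((List.range 6).map fun j => gens.getD (j + 2) []) =
      wordBasis.map (fun m => [Stp.mono idP m]) ∧
    (pgens.all fun a => isM24P a) = true ∧ pgens.length = 2 :=
  ⟨rfl, rfl, rfl, by decide +kernel, rfl⟩

theorem perm_chk : (isM24P permA && isM24P permAi && isM24P permK &&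
    Nat.beq (compP permA (compP permA permA)) idP && Nat.beq (compP permA permA) permAi &&
    Nat.beq (compP permA permAi) idP &&
    Nat.beq (compP permK permA) (compP permAi permK) && Nat.beq permA z3Code) = true := by
  decide +kernel

theorem plan_chk : planOK permA plan [] = true := by decide +kernel

theorem plan_head : plan = (11, 3, []) :: plan.tail ∧
    ((List.range 24).filter (targetOK [] [] permA 3 11 [])) = firstImgs := by decide +kernel

theorem leaf_mem {t : ℕ} {L : List ℕ} (h : leafOK t L = true) {v : ℕ}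
    (hv : v ∈ dfs [] [] permA permA plan.tail (orbitAsg permA permA 3 11 t [])) :
    v ∈ pList.map Prod.fst := by
  simp only [leafOK, Bool.and_eq_true, List.all_eq_true, List.any_eq_true, Nat.beq_eq] at h
  rw [eq_of_eqL h.1] at hv
  obtain ⟨x, hx, rfl⟩ := h.2 v hv
  exact hx

/-- every permutation commuting with the element is listed -/
theorem dfs_mem {v : ℕ} (hv : v ∈ dfs [] [] permA permA plan []) : v ∈ pList.map Prod.fst := by
  rw [plan_head.1] at hv
  simp only [dfs, plan_head.2, List.mem_flatMap, List.all_nil, if_true] at hv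
  obtain ⟨t, ht, hv⟩ := hv
  simp only [firstImgs, List.mem_cons, List.not_mem_nil, or_false] at ht
  rcases ht with rfl | rfl | rfl | rfl | rfl | rfl | rfl | rfl | rfl | rfl | rfl | rfl | rfl | rfl | rfl | rfl | rfl | rfl | rfl | rfl | rfl | rfl | rfl | rfl
  · exact leaf_mem leaf_ok0 hv
  · exact leaf_mem leaf_ok1 hv
  · exact leaf_mem leaf_ok2 hv
  · exact leaf_mem leaf_ok3 hv
  · exact leaf_mem leaf_ok4 hv
  · exact leaf_mem leaf_ok5 hv
  · exact leaf_mem leaf_ok6 hv
  · exact leaf_mem leaf_ok7 hv
  · exact leaf_mem leaf_ok8 hv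
  · exact leaf_mem leaf_ok9 hv
  · exact leaf_mem leaf_ok10 hv
  · exact leaf_mem leaf_ok11 hv
  · exact leaf_mem leaf_ok12 hv
  · exact leaf_mem leaf_ok13 hv
  · exact leaf_mem leaf_ok14 hv
  · exact leaf_mem leaf_ok15 hv
  · exact leaf_mem leaf_ok16 hv
  · exact leaf_mem leaf_ok17 hv
  · exact leaf_mem leaf_ok18 hv
  · exact leaf_mem leaf_ok19 hv
  · exact leaf_mem leaf_ok20 hv
  · exact leaf_mem leaf_ok21 hv
  · exact leaf_mem leaf_ok22 hv
  · exact leaf_mem leaf_ok23 hv

end CfsgLib.Spor.Loc.Central3
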