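import Cfsg.Agent.Lib.Spor.Loc.CentralThreeHom
import Cfsg.Agent.Lib.Classical.UnitarySimple

/-!
The group induced on the fixed classes is `3.U₄(3).2`.
-/

set_option autoImplicit false
set_option maxHeartbeats 1000000
set_option maxRecDepth 100000

namespace CfsgLib.Spor.Loc.Central3

open Cfsg
open scoped commutatorElement

/-- the group induced on the fixed classes -/
noncomputable abbrev HG : Subgroup (Equiv.Perm (Fin (2 ^ 12))) := T.act.range

/-- the map onto it -/
noncomputable def toH : CB bh →* HG := T.act.rangeRestrict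

theorem toH_surjective : Function.Surjective toH := T.act.rangeRestrict_surjective

theorem toH_eq_one {g : CB bh} : toH g = 1 ↔ T.act g = 1 := by
  rw [toH, ← MonoidHom.mem_ker, MonoidHom.ker_rangeRestrict, MonoidHom.mem_ker]

theorem toH_eq {g h : CB bh} : toH g = toH h ↔ T.act g = T.act h :=
  ⟨congrArg Subtype.val, fun e => Subtype.ext e⟩

/-- the action on the sets, on the induced group -/
noncomputable def phiH : HG →* Equiv.Perm (Fin 112) :=
  toH.liftOfSurjective toH_surjective ⟨phi, fun g hg =>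
    setsHom_eq_one T setF_injective phi_spec (toH_eq_one.1 hg)⟩

theorem phiH_toH (g : CB bh) : phiH (toH g) = phi g :=
  toH.liftOfRightInverse_comp_apply _ _ _ g

/-- the scalar -/
noncomputable def om : HG := toH (wEl wordO)

theorem lin_O : Lin (wEl wordO) (wImg wordO) := lin_word _ (word_lt (Or.inr (Or.inr rfl)))

theorem om_cube : om ^ 3 = 1 := by
  rw [om, ← map_pow, toH_eq_one, pow_succ' (wEl wordO) 2, pow_two (wEl wordO)]
  refine Lin.act_one ?_
  have h := lin_O.mul (lin_O.mul lin_O)
  rwa [words_chk.2.2.2.2] at h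

theorem wImg_len : (wImg wordO).length = 12 := by decide +kernel

theorem om_ne_one : om ≠ 1 := by
  intro h
  have h1 := toH_eq_one.1 h
  refine words_chk.2.2.2.1 (List.ext_getElem (by rw [wImg_len]; simp) fun j hj hj' => ?_)
  have hj12 : j < 12 := wImg_len ▸ hj
  have e : (T.img (wEl wordO) ⟨2 ^ j, Nat.pow_lt_pow_right (by norm_num) hj12⟩ : ℕ) = 2 ^ j :=
    congrArg (fun σ : Equiv.Perm (Fin (2 ^ 12)) =>
      (σ ⟨2 ^ j, Nat.pow_lt_pow_right (by norm_num) hj12⟩ : ℕ)) h1
  rw [lin_O, lext_pow _ hj12, List.getD_eq_getElem _ _ hj] at e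
  rw [e, List.getElem_map, List.getElem_range]

theorem orderOf_om : orderOf om = 3 :=
  haveI : Fact (Nat.Prime 3) := ⟨Nat.prime_three⟩
  orderOf_eq_prime om_cube om_ne_one

theorem om_inv : om⁻¹ = om * om :=
  inv_eq_of_mul_eq_one_right (by rw [← pow_two om, ← pow_succ' om 2, om_cube])

theorem gen_conj (k : ℕ) (hk : k < 9) :
    toH (gen' k) * om * (toH (gen' k))⁻¹ = om ∨ toH (gen' k) * om * (toH (gen' k))⁻¹ = om⁻¹ := by
  have h := List.all_eq_true.1 conj_chk k (List.mem_range.2 hk)
  simp only [Bool.or_eq_true, Bool.and_eq_true, beq_iff_eq, Nat.beq_eq] at h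
  rw [mul_inv_eq_iff_eq_mul, mul_inv_eq_iff_eq_mul, om_inv, om, ← map_mul, ← map_mul, ← map_mul,
    ← map_mul, toH_eq, toH_eq]
  have hg := lin_gen hk
  rcases h with ⟨-, h⟩ | ⟨-, h⟩
  · exact Or.inl ((hg.mul lin_O).act_eq (h ▸ lin_O.mul hg))
  · exact Or.inr ((hg.mul lin_O).act_eq (h ▸ (lin_O.mul lin_O).mul hg))

theorem conj_cases (h : HG) : h * om * h⁻¹ = om ∨ h * om * h⁻¹ = om⁻¹ := by
  obtain ⟨g, rfl⟩ := toH_surjective h
  have hg : g ∈ Subgroup.closure (Set.range gen) :=
    genS_eq_top.ge (Subgroup.mem_top g)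
  induction hg using Subgroup.closure_induction with
  | mem g hg =>
    obtain ⟨k, rfl⟩ := hg
    have := gen_conj k k.2
    rwa [gen', dif_pos k.2] at this
  | one => left; rw [map_one]; group
  | mul a b _ _ ha hb =>
    rw [map_mul, show toH a * toH b * om * (toH a * toH b)⁻¹ =
      toH a * (toH b * om * (toH b)⁻¹) * (toH a)⁻¹ by group]
    rcases hb with hb | hb <;> rw [hb]
    · exact ha
    · rw [show toH a * om⁻¹ * (toH a)⁻¹ = (toH a * om * (toH a)⁻¹)⁻¹ by group]
      rcases ha with ha | ha <;> rw [ha]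
      · exact Or.inr rfl
      · exact Or.inl (inv_inv om)
  | inv a _ ha =>
    rw [map_inv, inv_inv]
    rcases ha with ha | ha
    · left
      conv_lhs => rw [← ha]
      group
    · right
      have e : (toH a * om * (toH a)⁻¹)⁻¹ = om := by rw [ha, inv_inv]
      conv_lhs => rw [← e]
      group

theorem om_ne_inv : om⁻¹ ≠ om := by
  intro h
  refine om_ne_one ?_
  have h2 : om * om = 1 := by nth_rewrite 1 [← h]; exact inv_mul_cancel om
  have := om_cube
  rwa [pow_succ om 2, pow_two om, h2, one_mul] at this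

/-- the sign of the conjugation of the scalar -/
noncomputable def chi : HG →* ℤˣ where
  toFun h := if h * om * h⁻¹ = om then 1 else -1
  map_one' := by simp
  map_mul' a b := by
    have e : a * b * om * (a * b)⁻¹ = a * (b * om * b⁻¹) * a⁻¹ := by group
    have e' : a * om⁻¹ * a⁻¹ = (a * om * a⁻¹)⁻¹ := by group
    rcases conj_cases a with ha | ha <;> rcases conj_cases b with hb | hb <;>
      rw [e] <;> simp only [hb, e', ha, inv_inv, if_pos, if_neg om_ne_inv] <;> norm_num

theorem mem_chi_ker {h : HG} : h ∈ chi.ker ↔ h * om = om * h := by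
  rw [MonoidHom.mem_ker, chi, MonoidHom.coe_mk, OneHom.coe_mk, ← mul_inv_eq_iff_eq_mul]
  split_ifs with h' <;> simp [h']

theorem chi_surjective : Function.Surjective chi := by
  intro u
  rcases Int.units_eq_one_or u with rfl | rfl
  · exact ⟨1, map_one _⟩
  · refine ⟨toH (gen' 5), ?_⟩
    have hne : ¬ toH (gen' 5) * om * (toH (gen' 5))⁻¹ = om := by
      rw [mul_inv_eq_iff_eq_mul, om, ← map_mul, ← map_mul, toH_eq]
      intro e
      refine inverted_chk (List.ext_getElem (by simp [lcomp]) fun j hj hj' => ?_)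
      have hj12 : j < 12 := by simpa [lcomp] using hj
      have h1 := (lin_gen (by norm_num : 5 < 9)).mul lin_O ⟨2 ^ j, Nat.pow_lt_pow_right (by norm_num) hj12⟩
      have h2 := lin_O.mul (lin_gen (by norm_num : 5 < 9)) ⟨2 ^ j, Nat.pow_lt_pow_right (by norm_num) hj12⟩
      have e' := congrArg (fun σ : Equiv.Perm (Fin (2 ^ 12)) =>
        (σ ⟨2 ^ j, Nat.pow_lt_pow_right (by norm_num) hj12⟩ : ℕ)) e
      have h3 := h1.symm.trans (e'.trans h2)
      rw [lext_pow _ hj12, lext_pow _ hj12, List.getD_eq_getElem _ _ hj,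
        List.getD_eq_getElem _ _ hj'] at h3
      exact h3
    show (if _ then (1 : ℤˣ) else -1) = -1
    rw [if_neg hne]

/-- the subgroup of index two -/
noncomputable abbrev MM : Subgroup HG := chi.ker

theorem index_MM : MM.index = 2 := by
  rw [Subgroup.index_ker, MonoidHom.range_eq_top.2 chi_surjective, Subgroup.card_top,
    Nat.card_eq_fintype_card, Fintype.card_units_int]

/-- a field of order nine -/
abbrev F9 : Type := GaloisField 3 2

noncomputable local instance : Fintype F9 := Fintype.ofFinite F9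

theorem card_F9 : Fintype.card F9 = 9 := by
  haveI : Fact (Nat.Prime 3) := ⟨Nat.prime_three⟩
  rw [← Nat.card_eq_fintype_card, GaloisField.card 3 2 (by norm_num)]
  norm_num

theorem psu_equiv : Nonempty (Cfsg.PSU 4 F9 3 ≃* McLUnitary.model) :=
  McLUnitary.psu_equiv_model card_F9

theorem psu_simple : IsSimpleGroup (Cfsg.PSU 4 F9 3) :=
  CfsgLib.Classical.Unitary.isSimpleGroup_PSU (by rw [Nat.card_eq_fintype_card, card_F9]; norm_num)
    (by norm_num) (by norm_num)

theorem model_simple : IsSimpleGroup McLUnitary.model := by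
  obtain ⟨e⟩ := psu_equiv
  haveI := psu_simple
  haveI : Nontrivial McLUnitary.model := e.symm.toEquiv.nontrivial
  exact IsSimpleGroup.isSimpleGroup_of_surjective e.toMonoidHom e.surjective

theorem model_noncomm : (HSUnitary.compL 112 McLUnitary.permA McLUnitary.permB) ≠
    (HSUnitary.compL 112 McLUnitary.permB McLUnitary.permA) := by decide +kernel

theorem model_commutator : commutator McLUnitary.model = ⊤ := by
  haveI := model_simple
  rcases (inferInstance : (commutator McLUnitary.model).Normal).eq_bot_or_eq_top with h | h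
  · exfalso
    have hA : McLUnitary.pA ∈ McLUnitary.model := Subgroup.subset_closure (by simp)
    have hB : McLUnitary.pB ∈ McLUnitary.model := Subgroup.subset_closure (by simp)
    have h1 : ⁅(⟨_, hA⟩ : McLUnitary.model), ⟨_, hB⟩⁆ ∈ commutator McLUnitary.model :=
      Subgroup.commutator_mem_commutator (Subgroup.mem_top _) (Subgroup.mem_top _)
    rw [h, Subgroup.mem_bot, commutatorElement_eq_one_iff_mul_comm] at h1
    have h2 : McLUnitary.pA * McLUnitary.pB = McLUnitary.pB * McLUnitary.pA :=
      congrArg Subtype.val h1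
    have rA : HSUnitary.RepL McLUnitary.pA McLUnitary.permA := fun i => (McLUnitary.pA_val i).symm
    have rB : HSUnitary.RepL McLUnitary.pB McLUnitary.permB := fun i => (McLUnitary.pB_val i).symm
    refine model_noncomm (List.ext_getElem (by simp [HSUnitary.compL]) fun j hj hj' => ?_)
    have hj112 : j < 112 := by simpa [HSUnitary.compL] using hj
    have e1 := (rA.mul rB) ⟨j, hj112⟩
    have e2 := (rB.mul rA) ⟨j, hj112⟩
    rw [List.getD_eq_getElem _ _ hj] at e1
    rw [List.getD_eq_getElem _ _ hj', ← h2] at e2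
    exact e1.trans e2.symm
  · exact h

theorem model_le_map : McLUnitary.model ≤ MM.map phiH := by
  have hr : McLUnitary.model ≤ phiH.range := by
    rw [Subgroup.closure_le]
    rintro x (rfl | rfl)
    · exact ⟨toH (wEl wordA), by rw [phiH_toH, phi_wA]⟩
    · exact ⟨toH (wEl wordB), by rw [phiH_toH, phi_wB]⟩
  have h : McLUnitary.model = ⁅McLUnitary.model, McLUnitary.model⁆ := by
    have := congrArg (Subgroup.map McLUnitary.model.subtype) model_commutator
    rw [Subgroup.map_subtype_commutator, ← MonoidHom.range_eq_map, Subgroup.range_subtype] at this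
    exact this.symm
  rw [h, Subgroup.commutator_le]
  intro x hx y hy
  obtain ⟨a, rfl⟩ := hr hx
  obtain ⟨b, rfl⟩ := hr hy
  refine ⟨⁅a, b⁆, ?_, map_commutatorElement _ _ _⟩
  rw [SetLike.mem_coe, MonoidHom.mem_ker, map_commutatorElement, commutatorElement_eq_one_iff_mul_comm,
    mul_comm]

/-- the scalars -/
noncomputable abbrev NN : Subgroup HG := phiH.ker ⊓ MM

theorem om_mem_NN : om ∈ NN := by
  refine ⟨?_, mem_chi_ker.2 rfl⟩
  show phiH (toH (wEl wordO)) = 1
  rw [phiH_toH, phi_wO]

theorem negEl_sq : negEl ^ 2 = 1 := by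
  rw [pow_two]
  exact co0_ext fun i => by rw [mul_smul, negEl_smul, negEl_smul, neg_neg, one_smul]

theorem card_HG_le : Nat.card HG ≤ 19595520 := by
  haveI : Fact (Nat.Prime 2) := ⟨Nat.prime_two⟩
  let bC : CB bh := ⟨bh, Subgroup.mem_centralizer_singleton_iff.2 rfl⟩
  let nC : CB bh := ⟨negEl, Subgroup.mem_centralizer_singleton_iff.2
    (Subgroup.mem_center_iff.1 negEl_central bh).symm⟩
  have hb : orderOf bC = 3 := by rw [← Subgroup.orderOf_coe]; exact orderOf_bh
  have hn : orderOf nC = 2 := by
    rw [← Subgroup.orderOf_coe]; exact orderOf_eq_prime negEl_sq negEl_ne_one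
  have hc : Commute nC bC := Subtype.ext (Subgroup.mem_center_iff.1 negEl_central bh).symm
  have h6 : orderOf (nC * bC) = 6 := by
    rw [hc.orderOf_mul_eq_mul_orderOf_of_coprime (by rw [hb, hn]; norm_num), hb, hn]
  have hle : Subgroup.zpowers (nC * bC) ≤ T.act.ker := by
    rw [Subgroup.zpowers_le, MonoidHom.mem_ker, map_mul, T.act_neg, T.act_self, one_mul]
  have h := Subgroup.card_mul_index T.act.ker
  rw [Subgroup.index_ker] at h
  have h2 := Nat.le_of_dvd Nat.card_pos (Subgroup.card_dvd_of_le hle)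
  rw [Nat.card_zpowers, h6] at h2
  have h3 : 6 * Nat.card HG ≤ Nat.card (CB bh) := by
    rw [← h]
    exact Nat.mul_le_mul_right _ h2
  have := card_CB_le
  omega

theorem card_arith {n h im m M : ℕ} (h1 : n * im = M) (h2 : M * 2 = h) (h3 : h ≤ 19595520)
    (h4 : 3 ≤ n) (h5 : m ≤ im) (h6 : 3265920 ≤ m) :
    h = 19595520 ∧ n = 3 ∧ im ≤ m := by
  have hp : n * im ≤ 9797760 := by omega
  have hq : 3 * im ≤ n * im := Nat.mul_le_mul_right _ h4
  have him : im = 3265920 := by omega
  subst him
  omega

theorem card_spec : Nat.card HG = 19595520 ∧ Nat.card NN = 3 ∧ MM.map phiH = McLUnitary.model := by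
  have hNle : 3 ≤ Nat.card NN := by
    have h := Nat.le_of_dvd Nat.card_pos (Subgroup.card_dvd_of_le (Subgroup.zpowers_le.2 om_mem_NN))
    rwa [Nat.card_zpowers, orderOf_om] at h
  have hmap := Subgroup.card_le_of_le model_le_map
  have hm := McLUnitary.le_card_model
  set f := phiH.comp MM.subtype with hf
  have hrange : f.range = MM.map phiH := by
    rw [hf, MonoidHom.range_comp, Subgroup.range_subtype]
  have hker : Nat.card f.ker = Nat.card NN := by
    refine Nat.card_congr ⟨fun x => ⟨(x : MM), x.2, (x : MM).2⟩, fun x => ⟨⟨x, x.2.2⟩, x.2.1⟩,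
      fun _ => rfl, fun _ => rfl⟩
  have h := Subgroup.card_mul_index f.ker
  rw [Subgroup.index_ker, hrange, hker] at h
  have h2 := Subgroup.card_mul_index MM
  rw [index_MM] at h2
  obtain ⟨e1, e2, e3⟩ := card_arith h h2 card_HG_le hNle hmap hm
  exact ⟨e1, e2, (Subgroup.eq_of_le_of_card_ge model_le_map e3).symm⟩

theorem structure_HG : ∃ (K : Type) (_ : Field K) (_ : Fintype K), Fintype.card K = 9 ∧
    Nonempty (MM ⧸ NN.subgroupOf MM ≃* Cfsg.PSU 4 K 3) := by
  obtain ⟨e⟩ := psu_equiv
  set f := phiH.comp MM.subtype with hf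
  have hrange : f.range = McLUnitary.model := by
    rw [hf, MonoidHom.range_comp, Subgroup.range_subtype, card_spec.2.2]
  have hker : NN.subgroupOf MM = f.ker := by
    ext x
    exact ⟨fun h => h.1, fun h => ⟨h, x.2⟩⟩
  exact ⟨F9, inferInstance, inferInstance, card_F9,
    ⟨((QuotientGroup.quotientMulEquivOfEq hker).trans
      ((QuotientGroup.quotientKerEquivRange f).trans (MulEquiv.subgroupCongr hrange))).trans e.symm⟩⟩

theorem no_two_normal (K : Subgroup HG) [K.Normal] (hK : IsPGroup 2 K) : K = ⊥ := by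
  haveI : Fact (Nat.Prime 2) := ⟨Nat.prime_two⟩
  set L := K ⊓ MM with hL
  have hLp : IsPGroup 2 L := hK.to_le inf_le_left
  have hLmap : L.map phiH = ⊥ := by
    have hle : L.map phiH ≤ McLUnitary.model := card_spec.2.2 ▸ Subgroup.map_mono inf_le_right
    have hnorm : ((L.map phiH).subgroupOf McLUnitary.model).Normal := by
      refine ⟨fun x hx g => ?_⟩
      rw [Subgroup.mem_subgroupOf] at hx ⊢
      obtain ⟨a, ha, hae⟩ := hx
      obtain ⟨c, -, hce⟩ := card_spec.2.2.ge g.2
      refine ⟨c * a * c⁻¹, (inferInstance : L.Normal).conj_mem a ha c, ?_⟩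
      rw [map_mul, map_mul, map_inv, hae, hce]
      rfl
    haveI := model_simple
    rcases hnorm.eq_bot_or_eq_top with h | h
    · rw [Subgroup.subgroupOf_eq_bot] at h
      exact h.eq_bot_of_le hle
    · exfalso
      rw [Subgroup.subgroupOf_eq_top] at h
      have hm := (hLp.map phiH).to_le h
      obtain ⟨n, hn⟩ := IsPGroup.iff_card.1 hm
      have hlow := McLUnitary.le_card_model
      have heq : Nat.card McLUnitary.model = 3265920 := by
        obtain ⟨-, h3, hmm⟩ := card_spec
        have hf := Subgroup.card_mul_index (phiH.comp MM.subtype).ker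
        rw [Subgroup.index_ker, MonoidHom.range_comp, Subgroup.range_subtype, hmm] at hf
        have hker : Nat.card (phiH.comp MM.subtype).ker = 3 := by
          rw [← h3]
          exact Nat.card_congr ⟨fun x => ⟨(x : MM), x.2, (x : MM).2⟩, fun x => ⟨⟨x, x.2.2⟩, x.2.1⟩,
            fun _ => rfl, fun _ => rfl⟩
        have h2 := Subgroup.card_mul_index MM
        rw [index_MM, card_spec.1] at h2
        rw [hker] at hf
        omega
      rw [heq] at hn
      have h3 : 3 ∣ 2 ^ n := hn ▸ (by norm_num)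
      exact absurd ((Nat.prime_dvd_prime_iff_eq Nat.prime_three Nat.prime_two).1
        (Nat.prime_three.dvd_of_dvd_pow h3)) (by norm_num)
  have hLN : L ≤ NN := le_inf ((Subgroup.map_eq_bot_iff _).1 hLmap) inf_le_right
  have hLbot : L = ⊥ := by
    rw [← Subgroup.card_eq_one]
    obtain ⟨n, hn⟩ := IsPGroup.iff_card.1 hLp
    have hd := Subgroup.card_dvd_of_le hLN
    rw [card_spec.2.1, hn] at hd
    rw [hn]
    exact Nat.eq_one_of_dvd_coprimes (Nat.Coprime.pow_left n (by norm_num : Nat.Coprime 2 3))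
      dvd_rfl hd
  rw [eq_bot_iff]
  intro k hk
  rw [← hLbot]
  refine ⟨hk, mem_chi_ker.2 ?_⟩
  exact Subgroup.commute_of_normal_of_disjoint K MM inferInstance inferInstance
    (disjoint_iff.2 (by rw [← hL]; exact hLbot)) k om hk om_mem_NN.2

end CfsgLib.Spor.Loc.Central3
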