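import Cfsg.Agent.Lib.Spor.Loc.Local
import Cfsg.Agent.Lib.Coprime.Action
import Cfsg.Agent.Lib.Spor.Co1Simple

/-!
Standard position for a Sylow subgroup of the joint centraliser of two conjugates, automisers, and
conjugation inside the centraliser.
-/

set_option autoImplicit false
set_option linter.unusedSectionVars false

namespace CfsgLib.Spor.Loc

open Cfsg CfsgLib.ThreeTransp
open CfsgLib.ThreeTransp.MonsterFrame (qImage up)
open CfsgLib.ThreeTransp.CoReduce (bigE)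
open scoped Pointwise

variable {G : Type*} [Group G] [Finite G] {z : G}
  {Q : Subgroup (Subgroup.centralizer ({z} : Set G))} [Q.Normal]
  {e : (Subgroup.centralizer ({z} : Set G)) ⧸ Q ≃* Cfsg.Spor.Co1}
  {ψ : leechLattice → Q ⧸ Subgroup.center Q}

/-- classes of the standard cross are the class of its top -/
theorem cl_of_stdCross {v : leechLattice} (h : (v : GolayPt → ℤ) ∈ stdCross) : cl v = cl eTop := by
  obtain ⟨-, -, w, hw, hd⟩ := mem_stdCross_iff.1 h
  refine cl_eq_iff.2 ⟨-⟨w, hw⟩, Subtype.ext ?_⟩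
  rw [AddSubgroup.coe_add, AddSubgroup.coe_add, AddSubgroup.coe_neg, eTop_coe, ← neg_add,
    ← two_nsmul, ← hd]
  abel

theorem stdCross_of_cl {g : Co0} (h : cl (g • eTop) = cl eTop) :
    ((g • eTop : leechLattice) : GolayPt → ℤ) ∈ stdCross := by
  obtain ⟨u, hu⟩ := cl_eq_iff.1 h
  refine mem_stdCross_iff.2 ⟨SetLike.coe_mem _,
    (coe_smul_sqNorm g eTop).trans (sqNorm_bigE none), -(u : GolayPt → ℤ),
    AddSubgroup.neg_mem _ u.2, ?_⟩
  rw [hu, AddSubgroup.coe_add, AddSubgroup.coe_add, eTop_coe, ← two_nsmul, smul_neg]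
  abel

theorem cl_eTop_of_mem {g : Co0} (h : g ∈ crossStab) : cl (g • eTop) = cl eTop :=
  cl_of_stdCross (mem_crossStab.1 h eTop (bigE_mem_stdCross none))

theorem mem_crossStab_of_cl {g : Co0} (h : cl (g • eTop) = cl eTop) : g ∈ crossStab :=
  mem_crossStab_of_top (stdCross_of_cl h)

/-- Two conjugates in `Q` can be interchanged. -/
theorem exists_swap (M : MonsterFrame z Q e ψ) {x : Q} (hx : IsConj z (up x)) (hne : up x ≠ z) :
    ∃ g : G, g * z * g⁻¹ = up x ∧ g * up x * g⁻¹ = z := by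
  obtain ⟨g, hg⟩ := isConj_iff.1 hx
  have hzq := M.xcent.mem_conj g (show g * z * g⁻¹ ∈ qImage Q by rw [hg]; exact M.mem_QG x)
  obtain ⟨y, hy, hye⟩ := hzq
  obtain ⟨w, hw, hwe⟩ := hy
  have e1 : g * up (⟨w, hw⟩ : Q) * g⁻¹ = z := by
    show g * (w : G) * g⁻¹ = z
    refine Eq.trans ?_ hye
    rw [← hwe]; rfl
  have hyc : IsConj z (up (⟨w, hw⟩ : Q)) := IsConj.symm (isConj_iff.2 ⟨g, e1⟩)
  have hyne : up (⟨w, hw⟩ : Q) ≠ z := fun h => hne (by rw [← hg]; rw [h] at e1; exact e1)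
  obtain ⟨k, hk, hke⟩ := M.transitive_conjugates ⟨w, hw⟩ x hyc hx hyne hne
  have hkz := Subgroup.mem_centralizer_singleton_iff.1 hk
  refine ⟨g * k⁻¹, ?_, ?_⟩
  · rw [show g * k⁻¹ * z * (g * k⁻¹)⁻¹ = g * (k⁻¹ * (z * k)) * g⁻¹ by group, ← hkz,
      inv_mul_cancel_left, hg]
  · rw [← hke, show g * k⁻¹ * (k * up (⟨w, hw⟩ : Q) * k⁻¹) * (g * k⁻¹)⁻¹ =
      g * up (⟨w, hw⟩ : Q) * g⁻¹ by group, e1]

theorem Over.mk_ne_one {M : MonsterFrame z Q e ψ} {b : G} {bh : Co0} {p : ℕ} (O : Over M b bh p) :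
    (QuotientGroup.mk bh : Cfsg.Spor.Co1) ≠ 1 := by
  obtain ⟨hb, hbe⟩ := O.image
  intro h
  rw [hbe, map_eq_one_iff _ e.injective, QuotientGroup.eq_one_iff] at h
  have := eq_one_of_odd M ⟨_, h, rfl⟩ O.odd (show b ^ p = 1 from O.pow_b)
  have h2 := O.ord
  rw [show b = 1 from this, orderOf_one] at h2
  exact O.prime.one_lt.ne h2

/-- Automorphisms of `⟨b⟩` induced in the lattice group lift to the centraliser of `z`. -/
theorem Over.exists_normalizer {M : MonsterFrame z Q e ψ} {b : G} {bh : Co0} {p : ℕ}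
    (O : Over M b bh p) {n : Co0} {k : ℕ} (hn : n * bh * n⁻¹ = bh ^ k) :
    ∃ c ∈ Subgroup.centralizer ({z} : Set G), c * b * c⁻¹ = b ^ k := by
  obtain ⟨hb, hbe⟩ := O.image
  set bC : Subgroup.centralizer ({z} : Set G) := ⟨b, hb⟩
  have hbCp : bC ^ p = 1 := Subtype.ext O.pow_b
  obtain ⟨c0, hc0⟩ := QuotientGroup.mk_surjective (e.symm (QuotientGroup.mk n))
  have hc0' : e (QuotientGroup.mk c0) = QuotientGroup.mk n := by rw [hc0, e.apply_symm_apply]
  have hck : (bC ^ k)⁻¹ * (c0 * bC * c0⁻¹) ∈ Q := by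
    rw [← QuotientGroup.eq_one_iff, ← e.map_eq_one_iff]
    simp only [QuotientGroup.mk_mul, QuotientGroup.mk_inv, QuotientGroup.mk_pow, map_mul, map_inv,
      map_pow, hc0', ← hbe]
    rw [← QuotientGroup.mk_inv, ← QuotientGroup.mk_mul, ← QuotientGroup.mk_mul,
      ← QuotientGroup.mk_pow, hn, inv_mul_cancel]
  set H := Subgroup.zpowers bC with hH
  have h2 : IsPGroup 2 Q := fun x => ⟨2, MonsterFrame.up_inj (up_pow_four M x)⟩
  have hoc : orderOf bC = p := (Subgroup.orderOf_coe bC).symm.trans O.ord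
  have hcop : (Nat.card Q).Coprime (Nat.card H) := by
    obtain ⟨j, hj⟩ := IsPGroup.iff_card.1 h2
    rw [hj, hH, Nat.card_zpowers, hoc]
    exact (Nat.Coprime.pow_right j (Nat.coprime_two_right.2 O.odd)).symm
  have hmap : H.map (MulAut.conj c0).toMonoidHom = Subgroup.zpowers (c0 * bC * c0⁻¹) := by
    rw [hH, MonoidHom.map_zpowers]; rfl
  obtain ⟨a, ha, hae⟩ := CfsgLib.Coprime.sz_conj_rel (N := Q) (H := H)
    (K := H.map (MulAut.conj c0).toMonoidHom)
    (by rw [Subgroup.normalizer_eq_top]; exact le_top)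
    (by rw [Subgroup.normalizer_eq_top]; exact le_top) hcop
    (Subgroup.card_map_of_injective (f := (MulAut.conj c0).toMonoidHom) (MulAut.conj c0).injective)
    (by
      rw [hmap, Subgroup.zpowers_le, show c0 * bC * c0⁻¹ =
        bC ^ k * ((bC ^ k)⁻¹ * (c0 * bC * c0⁻¹)) by rw [mul_inv_cancel_left]]
      exact mul_mem (Subgroup.mem_sup_right (pow_mem (Subgroup.mem_zpowers bC) k))
        (Subgroup.mem_sup_left hck))
    (Or.inr (Group.isSolvable_of_comm fun x y => Subtype.ext (by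
      obtain ⟨i, hi⟩ := x.2; obtain ⟨j, hj⟩ := y.2
      simp only [Subgroup.coe_mul, ← hi, ← hj]
      exact (Commute.zpow_zpow (Commute.refl bC) i j).eq)))
  have hmem : a⁻¹ * (c0 * bC * c0⁻¹) * a ∈ H := by
    have h1 : c0 * bC * c0⁻¹ ∈ MulAut.conj a • H := hae.ge (by rw [hmap]; exact Subgroup.mem_zpowers _)
    obtain ⟨y, hy, hye⟩ := h1
    rw [← hye]
    simp only [MulAut.smul_def, MulDistribMulAction.toMonoidEnd_apply,
      MulDistribMulAction.toMonoidHom_apply, MulAut.conj_apply]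
    rwa [show a⁻¹ * (a * y * a⁻¹) * a = y by group]
  obtain ⟨i, hi⟩ := Subgroup.mem_zpowers_iff.1 hmem
  have haQ : (QuotientGroup.mk a : (Subgroup.centralizer ({z} : Set G)) ⧸ Q) = 1 :=
    (QuotientGroup.eq_one_iff a).2 ha
  have hiQ : (bC ^ k)⁻¹ * bC ^ i ∈ Q := by
    rw [hi, ← QuotientGroup.eq_one_iff]
    simp only [QuotientGroup.mk_mul, QuotientGroup.mk_inv, haQ, inv_one, one_mul, mul_one]
    rw [← QuotientGroup.mk_inv, ← QuotientGroup.mk_inv, ← QuotientGroup.mk_mul,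
      ← QuotientGroup.mk_mul, ← QuotientGroup.mk_mul, QuotientGroup.eq_one_iff]
    exact hck
  have hik : (bC ^ k)⁻¹ * bC ^ i = 1 := by
    have hmem' : ((bC ^ k)⁻¹ * bC ^ i : _) ∈ H :=
      mul_mem (inv_mem (pow_mem (Subgroup.mem_zpowers bC) k)) (zpow_mem (Subgroup.mem_zpowers bC) i)
    obtain ⟨j, hj⟩ := Subgroup.mem_zpowers_iff.1 hmem'
    refine Subtype.ext (eq_one_of_odd M ⟨_, hiQ, rfl⟩ O.odd ?_)
    show (((bC ^ k)⁻¹ * bC ^ i : _) : G) ^ p = 1
    rw [← SubgroupClass.coe_pow, ← hj, ← zpow_natCast, ← zpow_mul, mul_comm, zpow_mul,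
      zpow_natCast, hbCp, one_zpow, Subgroup.coe_one]
  refine ⟨((a⁻¹ * c0 : _) : G), (a⁻¹ * c0).2, ?_⟩
  have e2 : a⁻¹ * c0 * bC * (a⁻¹ * c0)⁻¹ = bC ^ k := by
    rw [show a⁻¹ * c0 * bC * (a⁻¹ * c0)⁻¹ = a⁻¹ * (c0 * bC * c0⁻¹) * a by group, ← hi,
      ← inv_mul_eq_one.1 hik]
  simpa using congrArg (fun t : Subgroup.centralizer ({z} : Set G) => (t : G)) e2

/-- Conjugation inside the centraliser of `⟨b⟩`. -/
theorem exists_conj_centralizer {b z s : G} {p : ℕ} (hp : p.Prime) (hbo : orderOf b = p)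
    (hswap : ∃ g : G, g * z * g⁻¹ = s ∧ g * s * g⁻¹ = z)
    (hbz : b * z = z * b) (hbs : b * s = s * b)
    (hsyl : ∀ g : G, g * z * g⁻¹ = s → g * s * g⁻¹ = z → ∃ l : G, l * z = z * l ∧ l * s = s * l ∧
      l * (g * b * g⁻¹) * l⁻¹ ∈ Subgroup.zpowers b)
    (haut : ∀ k : ℕ, ¬ p ∣ k → ∃ c : G, c * z = z * c ∧ c * b * c⁻¹ = b ^ k) :
    ∃ g ∈ Subgroup.centralizer (Subgroup.zpowers b : Set G), g * z * g⁻¹ = s := by
  obtain ⟨g, hg1, hg2⟩ := hswap
  obtain ⟨l, hlz, hls, hlb⟩ := hsyl g hg1 hg2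
  set h := l * g with hh
  have hhz : h * z * h⁻¹ = s := by
    rw [hh, show l * g * z * (l * g)⁻¹ = l * (g * z * g⁻¹) * l⁻¹ by group, hg1, hls,
      mul_inv_cancel_right]
  have hhs : h * s * h⁻¹ = z := by
    rw [hh, show l * g * s * (l * g)⁻¹ = l * (g * s * g⁻¹) * l⁻¹ by group, hg2, hlz,
      mul_inv_cancel_right]
  have hhb : h * b * h⁻¹ ∈ Subgroup.zpowers b := by
    rwa [hh, show l * g * b * (l * g)⁻¹ = l * (g * b * g⁻¹) * l⁻¹ by group]
  obtain ⟨i, hi⟩ := Subgroup.mem_zpowers_iff.1 hhb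
  obtain ⟨k, hk⟩ : ∃ k : ℕ, b ^ k = h * b * h⁻¹ := by
    refine ⟨(i % (p : ℤ)).toNat, ?_⟩
    rw [← zpow_natCast, Int.toNat_of_nonneg (Int.emod_nonneg _ (by exact_mod_cast hp.ne_zero)),
      ← hbo, zpow_mod_orderOf, hi]
  have hpk : ¬ p ∣ k := by
    intro hd
    rw [← hbo, orderOf_dvd_iff_pow_eq_one] at hd
    rw [hd] at hk
    have hb1 : b = 1 := conj_eq_one_iff.1 hk.symm
    rw [hb1, orderOf_one] at hbo
    exact hp.one_lt.ne hbo
  obtain ⟨c, hcz, hcb⟩ := haut k hpk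
  refine ⟨h⁻¹ * c, ?_, ?_⟩
  · rw [Subgroup.zpowers_eq_closure, Subgroup.centralizer_closure,
      Subgroup.mem_centralizer_singleton_iff]
    have e1 : h⁻¹ * c * b * (h⁻¹ * c)⁻¹ = b := by
      rw [show h⁻¹ * c * b * (h⁻¹ * c)⁻¹ = h⁻¹ * (c * b * c⁻¹) * h by group, hcb, hk]
      group
    exact mul_inv_eq_iff_eq_mul.1 e1
  · rw [show h⁻¹ * c * z * (h⁻¹ * c)⁻¹ = h⁻¹ * (c * z * c⁻¹) * h by group, hcz,
      mul_inv_cancel_right, ← hhs]
    group

/-- Sylow position: a Sylow subgroup of prime order of the joint centraliser. -/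
theorem exists_over (M : MonsterFrame z Q e ψ) {s : Q} (hs : IsConj z (up s)) (hne : up s ≠ z)
    {B : Subgroup G} (hB : B ≤ Subgroup.centralizer ({z, up s} : Set G)) {p : ℕ} (hp : p.Prime)
    (hodd : Odd p) (hdvd : p ∣ 244823040) (hsq : ¬ p ^ 2 ∣ 4096 * 244823040)
    (hBp : Nat.card B =
      p ^ (Nat.card ↥(Subgroup.centralizer ({z, up s} : Set G))).factorization p)
    {bh : Co0} (hbh : bh ∈ crossStab) (hbhp : bh ^ p = 1)
    (hbh1 : (QuotientGroup.mk bh : Cfsg.Spor.Co1) ≠ 1) :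
    ∃ (e' : (Subgroup.centralizer ({z} : Set G)) ⧸ Q ≃* Cfsg.Spor.Co1)
      (ψ' : leechLattice → Q ⧸ Subgroup.center Q) (M' : MonsterFrame z Q e' ψ') (b : G),
      ψ' eTop = QuotientGroup.mk s ∧ Nat.card B = p ∧ B = Subgroup.zpowers b ∧
      Over M' b bh p := by
  classical
  haveI : Fact p.Prime := ⟨hp⟩
  obtain ⟨v, hv, hvx⟩ := M.exists_norm64_of_conj hs hne
  obtain ⟨g₀, rfl⟩ := exists_map (Or.inr (Or.inr rfl)) eTop v (sqNorm_bigE none) hv
  have M₁ := M.twist g₀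
  set ψ₁ : leechLattice → Q ⧸ Subgroup.center Q := fun v => ψ (g₀ • v)
  set e₁ := e.trans (MulAut.conj (QuotientGroup.mk g₀ : Cfsg.Spor.Co1)⁻¹)
  have hx : ψ₁ eTop = QuotientGroup.mk s := hvx
  set L := Subgroup.centralizer ({z, up s} : Set G) with hL
  have hLz : ∀ a ∈ L, a ∈ Subgroup.centralizer ({z} : Set G) := fun a ha =>
    Subgroup.centralizer_le (by simp) ha
  have hLs : ∀ a ∈ L, a * up s = up s * a := fun a ha =>
    (Subgroup.mem_centralizer_iff.1 ha (up s) (by simp)).symm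
  let π : Co0 →* Cfsg.Spor.Co1 := QuotientGroup.mk' (Subgroup.center Co0)
  let P : Subgroup Cfsg.Spor.Co1 := crossStab.map π
  let f : L →* Cfsg.Spor.Co1 := (e₁.toMonoidHom.comp (QuotientGroup.mk' Q)).comp
    (Subgroup.inclusion hLz)
  have hfP : ∀ a : L, f a ∈ P := by
    intro a
    obtain ⟨g', hg'⟩ := QuotientGroup.mk_surjective (f a)
    refine ⟨g', mem_crossStab_of_cl ?_, hg'⟩
    rw [← psi_eq_iff M₁, M₁.iso.2.2.2 ⟨a, hLz a a.2⟩ g' hg' eTop s hx, hx]
    congr 1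
    exact MonsterFrame.up_inj (mul_inv_eq_iff_eq_mul.2 (hLs a a.2))
  have hPsq : ¬ p ^ 2 ∣ Nat.card P := fun h => hsq (by
    rw [← natCard_crossStab]
    exact h.trans (Subgroup.card_map_dvd crossStab π))
  obtain ⟨g₁, hg₁⟩ := isConj_iff.1 hs
  obtain ⟨-, -, -, -, -, K, hKX, -, -, ⟨eK⟩⟩ := M₁.conjugate_structure (x := s) (g := g₁) hg₁ hne
    _ _ rfl rfl
  have hrange : Nat.card K ∣ Nat.card f.range := by
    rw [← Subgroup.card_map_of_injective (f := e₁.toMonoidHom) (K := K) e₁.injective]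
    refine Subgroup.card_dvd_of_le ?_
    rintro _ ⟨k, hk, rfl⟩
    obtain ⟨a, ha, rfl⟩ := hKX hk
    refine ⟨⟨(a : G), Subgroup.mem_centralizer_iff.2 ?_⟩, rfl⟩
    intro t ht
    simp only [Set.mem_insert_iff, Set.mem_singleton_iff] at ht
    rcases ht with rfl | rfl
    · exact (Subgroup.mem_centralizer_singleton_iff.1 ha.1).symm
    · exact (Subgroup.mem_centralizer_singleton_iff.1 ha.2).symm
  have hmul := Subgroup.card_mul_index f.ker
  rw [Subgroup.index_ker] at hmul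
  have hker : IsPGroup 2 f.ker := fun a => ⟨2, Subtype.ext (Subtype.ext (by
    have ha : (Subgroup.inclusion hLz (a : L)) ∈ Q := by
      have := a.2
      rwa [MonoidHom.mem_ker, MonoidHom.comp_apply, MonoidHom.comp_apply, MulEquiv.coe_toMonoidHom,
        map_eq_one_iff _ e₁.injective, QuotientGroup.mk'_apply, QuotientGroup.eq_one_iff] at this
    exact up_pow_four M₁ ⟨_, ha⟩))⟩
  have hfac : (Nat.card L).factorization p = 1 := by
    obtain ⟨j, hj⟩ := IsPGroup.iff_card.1 hker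
    have hpos : Nat.card f.range ≠ 0 := Nat.card_pos.ne'
    have h2 : ¬ p ∣ 2 ^ j := fun h => by
      have := (Nat.prime_dvd_prime_iff_eq hp Nat.prime_two).1 (hp.dvd_of_dvd_pow h)
      rw [this] at hodd
      exact absurd hodd (by decide)
    rw [← hmul, hj, Nat.factorization_mul (pow_ne_zero _ (by norm_num)) hpos, Finsupp.add_apply,
      Nat.factorization_eq_zero_of_not_dvd h2, zero_add]
    refine le_antisymm ?_ ((hp.dvd_iff_one_le_factorization hpos).1 ?_)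
    · by_contra h
      exact hPsq (((hp.pow_dvd_iff_le_factorization hpos).2 (by omega)).trans
        (Subgroup.card_dvd_of_le (by rintro _ ⟨a, rfl⟩; exact hfP a)))
    · refine hdvd.trans ?_
      rw [← natCard_M24, ← Nat.card_congr eK.toEquiv]
      exact hrange
  rw [hfac, pow_one] at hBp
  haveI := isCyclic_of_prime_card hBp
  obtain ⟨b0, hb0⟩ := IsCyclic.exists_generator (α := B)
  have hb0o : orderOf (b0 : G) = p := by
    rw [Subgroup.orderOf_coe, orderOf_eq_card_of_forall_mem_zpowers hb0, hBp]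
  have hbL : (b0 : G) ∈ L := hB b0.2
  have hb0p : (b0 : G) ^ p = 1 := by rw [← hb0o]; exact pow_orderOf_eq_one _
  set k := f ⟨b0, hbL⟩ with hk
  have hk1 : k ≠ 1 := by
    intro h
    have ha : (Subgroup.inclusion hLz ⟨b0, hbL⟩) ∈ Q := by
      rwa [hk, MonoidHom.comp_apply, MonoidHom.comp_apply, MulEquiv.coe_toMonoidHom,
        map_eq_one_iff _ e₁.injective, QuotientGroup.mk'_apply, QuotientGroup.eq_one_iff] at h
    have := eq_one_of_odd M₁ ⟨_, ha, rfl⟩ hodd (show ((b0 : G)) ^ p = 1 from hb0o ▸ pow_orderOf_eq_one _)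
    rw [show (b0 : G) = 1 from this, orderOf_one] at hb0o
    exact hp.one_lt.ne hb0o
  have hkp : k ^ p = 1 := by
    rw [hk, ← map_pow, show (⟨b0, hbL⟩ : L) ^ p = 1 from
      Subtype.ext (hb0o ▸ pow_orderOf_eq_one (b0 : G)), map_one]
  let kP : P := ⟨k, hfP _⟩
  let bP : P := ⟨π bh, ⟨bh, hbh, rfl⟩⟩
  have hko : orderOf kP = p := orderOf_eq_prime (Subtype.ext hkp) fun h => hk1 (congrArg Subtype.val h)
  have hbo : orderOf bP = p := orderOf_eq_prime (Subtype.ext (show (π bh) ^ p = 1 by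
    rw [← map_pow, hbhp, map_one])) fun h => hbh1 (congrArg Subtype.val h)
  have hfP' : (Nat.card P).factorization p = 1 := by
    refine le_antisymm ?_ ((Nat.Prime.dvd_iff_one_le_factorization hp Nat.card_pos.ne').1
      (hko ▸ orderOf_dvd_natCard kP))
    by_contra h
    exact hPsq ((Nat.Prime.pow_dvd_iff_le_factorization hp Nat.card_pos.ne').2 (by omega))
  let S1 : Sylow p P := Sylow.ofCard (Subgroup.zpowers bP) (by rw [Nat.card_zpowers, hbo, hfP', pow_one])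
  let S2 : Sylow p P := Sylow.ofCard (Subgroup.zpowers kP) (by rw [Nat.card_zpowers, hko, hfP', pow_one])
  obtain ⟨c, hc⟩ := MulAction.exists_smul_eq P S1 S2
  have hcb : c * bP * c⁻¹ ∈ Subgroup.zpowers kP := by
    have h := congrArg (fun R : Sylow p P => (R : Subgroup P)) hc
    simp only [Sylow.coe_subgroup_smul] at h
    have h' : MulAut.conj c • Subgroup.zpowers bP = Subgroup.zpowers kP := h
    rw [← h']
    exact ⟨bP, Subgroup.mem_zpowers bP, rfl⟩
  obtain ⟨i, hi⟩ := Subgroup.mem_zpowers_iff.1 hcb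
  obtain ⟨n, hn, hnc⟩ := c.2
  have hi' : k ^ i = π (n * bh * n⁻¹) := by
    rw [map_mul, map_mul, map_inv, hnc]
    exact congrArg Subtype.val hi
  refine ⟨e₁.trans (MulAut.conj (QuotientGroup.mk n : Cfsg.Spor.Co1)⁻¹), fun v => ψ₁ (n • v),
    M₁.twist n, (b0 : G) ^ i, ?_, hBp, ?_, hp, hodd, ?_, hbhp, ?_⟩
  · show ψ₁ (n • eTop) = _
    rw [← hx, psi_eq_iff M₁]
    exact cl_eTop_of_mem hn
  · refine (Subgroup.eq_of_le_of_card_ge (Subgroup.zpowers_le.2 (zpow_mem b0.2 i)) ?_).symm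
    have : orderOf ((b0 : G) ^ i) = p := by
      refine orderOf_eq_prime ?_ fun h => ?_
      · rw [← zpow_natCast, ← zpow_mul, mul_comm, zpow_mul, zpow_natCast,
          hb0p, one_zpow]
      · have h1 : k ^ i = 1 := by
          rw [hk, ← map_zpow, show (⟨b0, hbL⟩ : L) ^ i = 1 from Subtype.ext (by simpa using h), map_one]
        rw [hi', map_mul, map_mul, map_inv] at h1
        exact hbh1 (conj_eq_one_iff.1 h1)
    rw [Nat.card_zpowers, this, hBp]
  · refine orderOf_eq_prime ?_ fun h => ?_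
    · rw [← zpow_natCast, ← zpow_mul, mul_comm, zpow_mul, zpow_natCast,
        hb0p, one_zpow]
    · have h1 : k ^ i = 1 := by
        rw [hk, ← map_zpow, show (⟨b0, hbL⟩ : L) ^ i = 1 from Subtype.ext (by simpa using h), map_one]
      rw [hi', map_mul, map_mul, map_inv] at h1
      exact hbh1 (conj_eq_one_iff.1 h1)
  · refine ⟨zpow_mem (hLz _ hbL) i, ?_⟩
    show π bh = (π n)⁻¹ * (e₁ (QuotientGroup.mk _)) * ((π n)⁻¹)⁻¹
    rw [show e₁ (QuotientGroup.mk (⟨(b0 : G) ^ i, zpow_mem (hLz _ hbL) i⟩ :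
        Subgroup.centralizer ({z} : Set G))) = k ^ i from ?_, hi', map_mul, map_mul, map_inv]
    · group
    · rw [hk, ← map_zpow]
      rfl

end CfsgLib.Spor.Loc
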