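import Cfsg.Agent.Lib.Spor.Loc.CentralThreeAct
import Cfsg.Agent.Lib.Spor.Loc.CrossThree
import Cfsg.Agent.Lib.Spor.Loc.Move
import Cfsg.Agent.Lib.Spor.McLUnitary.Main

/-!
The centraliser of the 3-central element of order three in the lattice group acts on the fixed
classes as `3.U₄(3).2`.
-/

set_option autoImplicit false
set_option maxRecDepth 100000
set_option maxHeartbeats 1000000

namespace CfsgLib.Spor.Loc.Central3

open Cfsg CfsgLib.MathieuOut
open CfsgLib.Spor.HSUnitary (RepL compL)
open scoped commutatorElement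

theorem perm_specs : isM24P permA = true ∧ isM24P permAi = true ∧ isM24P permK = true ∧
    compP permA (compP permA permA) = idP ∧ compP permA permA = permAi ∧
    compP permA permAi = idP ∧ compP permK permA = compP permAi permK ∧ permA = z3Code := by
  have h := perm_chk
  simp only [Bool.and_eq_true, Nat.beq_eq] at h
  obtain ⟨⟨⟨⟨⟨⟨⟨h1, h2⟩, h3⟩, h4⟩, h5⟩, h6⟩, h7⟩, h8⟩ := h
  exact ⟨h1, h2, h3, h4, h5, h6, h7, h8⟩

/-- the permutation of order three -/
noncomputable def zeta : ↥M24 :=
  ⟨(exists_rep_M24 perm_specs.1).choose, (exists_rep_M24 perm_specs.1).choose_spec.1⟩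

theorem rep_zeta : Rep (zeta : Equiv.Perm GolayPt) permA :=
  (exists_rep_M24 perm_specs.1).choose_spec.2

theorem zeta_cube : zeta ^ 3 = 1 := by
  have hc : Rep ((zeta : Equiv.Perm GolayPt) * ((zeta : Equiv.Perm GolayPt) * zeta))
      (compP permA (compP permA permA)) := Rep.mul rep_zeta (Rep.mul rep_zeta rep_zeta)
  rw [perm_specs.2.2.2.1] at hc
  refine Subtype.ext ?_
  rw [pow_succ', pow_two]
  exact hc.inj rep_one

theorem rep_zeta_inv : Rep ((zeta⁻¹ : ↥M24) : Equiv.Perm GolayPt) permAi := by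
  have hc : Rep ((zeta : Equiv.Perm GolayPt) * zeta) (compP permA permA) := rep_zeta.mul rep_zeta
  rw [perm_specs.2.2.2.2.1] at hc
  rw [show zeta⁻¹ = zeta * zeta from
    inv_eq_of_mul_eq_one_right (by rw [← pow_two, ← pow_succ', zeta_cube])]
  exact hc

/-- the element of the lattice group -/
noncomputable def bh : Co0 := permEl zeta

theorem bh_cube : bh ^ 3 = 1 := by
  rw [bh, pow_succ, pow_two, ← permEl_mul, ← permEl_mul, ← pow_two, ← pow_succ, zeta_cube, permEl_one]

theorem zeta_ne_one : zeta ≠ 1 := by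
  intro h
  have h0 := rep_zeta
  rw [h] at h0
  exact absurd h0 (by
    have : ¬ ∀ i < 24, getP permA i = i := by decide +kernel
    intro h1
    refine this fun i hi => ?_
    simpa [idx_pt hi] using h1 i hi)

theorem orderOf_bh : orderOf bh = 3 := by
  haveI : Fact (Nat.Prime 3) := ⟨Nat.prime_three⟩
  refine orderOf_eq_prime bh_cube fun h => zeta_ne_one (CentralFree.permEl_injective ?_)
  rw [permEl_one]
  exact h

theorem bh_mem : bh ∈ crossStab := monoEl_mem_crossStab _

theorem actsAs_bh : ActsAs bh (runP progB) := by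
  refine Co1Out.actsAs_monoEl ?_ (by rw [toSet_zero])
  exact rep_zeta_inv

theorem T : Tab bh 12 tab := tab_of_ok actsAs_bh (by decide) tab_ok

/-- a generator of the centraliser -/
noncomputable def gen (k : Fin 9) : CB bh := (exists_gen actsAs_bh T (gen_ok k.2)).choose

theorem gen_acts (k : Fin 9) : ActsAs ((gen k : CB bh) : Co0) (runP (gens.getD k [])) :=
  (exists_gen actsAs_bh T (gen_ok k.2)).choose_spec.1

theorem gen_img (k : Fin 9) :
    ∀ i : Fin (2 ^ 12), (T.img (gen k) i : ℕ) = lext 12 (imgs.getD k []) i :=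
  (exists_gen actsAs_bh T (gen_ok k.2)).choose_spec.2

/-- the subgroup of the generators -/
noncomputable def genS : Subgroup (CB bh) := Subgroup.closure (Set.range gen)

theorem stab_mem (g : CB bh) (hg : (g : Co0) ∈ crossStab) : g ∈ genS := by
  set S := genS.map (CB bh).subtype with hS
  obtain ⟨σ, c, hσ, hc, -, hgeq⟩ :=
    stab_cases (A := zeta) rfl hg (Subgroup.mem_centralizer_singleton_iff.1 g.2)
  obtain ⟨m0, m1, meps, mp, mlen⟩ := mono_chk
  have hgenS : ∀ k, ((gen k : CB bh) : Co0) ∈ S := fun k =>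
    ⟨gen k, Subgroup.subset_closure ⟨k, rfl⟩, rfl⟩
  have heps : epsEl c ∈ S := by
    refine eps_mem S word_chk.2.1 ?_ _ (fixed_word rep_zeta word_chk.1 c.2 hc) c (toSet_mask _).symm
    intro m hm g' hg'
    obtain ⟨j, hj, rfl⟩ := List.mem_iff_getElem.1 hm
    have hj6 : j < 6 := lt_of_lt_of_eq hj (by decide +kernel)
    have e' : gens.getD (j + 2) [] = [Stp.mono CfsgLib.MathieuOut.idP (wordBasis[j])] := by
      rw [show CfsgLib.MathieuOut.idP = idP from CfsgLib.MathieuOut.idP_eq.symm]
      have := congrArg (fun l => l.getD j []) meps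
      simp only [List.getD_eq_getElem?_getD, List.getElem?_map, List.getElem?_range hj6,
        List.getElem?_eq_getElem hj, Option.map_some, Option.getD_some] at this ⊢
      exact this
    have h2 := gen_acts ⟨j + 2, by omega⟩
    simp only [e'] at h2
    rw [actsAs_unique hg' h2]
    exact hgenS _
  have hperm : permEl σ ∈ S := by
    have hm := canon_mem_dfs (masks := []) (prev := []) plan_chk
      (by rw [stabG_M24]; exact σ.2) (fun b hb => nomatch hb) rep_zeta rep_zeta
      (congrArg Subtype.val hσ)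
    refine perm_mem S ?_ pList [] (by simp) (by simp) clos_chk _ (by simpa using dfs_mem hm) σ
      (rep_canon _)
    intro k hk
    have hk' : k = 0 ∨ k = 1 := by rw [mlen] at hk; omega
    obtain ⟨τ, hτ, hτr⟩ := exists_rep_M24 (List.all_eq_true.1 mp (pgens.getD k 0)
      (by rw [List.getD_eq_getElem _ _ hk]; exact List.getElem_mem hk))
    refine ⟨⟨τ, hτ⟩, hτr, ?_⟩
    have h1 : ActsAs (permEl (⟨τ, hτ⟩ : ↥M24)⁻¹) (runP [Stp.mono (pgens.getD k 0) 0]) :=
      Co1Out.actsAs_monoEl (by simpa using hτr) (by rw [toSet_zero])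
    have e : gens.getD k [] = [Stp.mono (pgens.getD k 0) 0] := by
      rcases hk' with rfl | rfl
      · exact m0
      · exact m1
    have h2 := gen_acts ⟨k, by omega⟩
    simp only [e] at h2
    have := hgenS ⟨k, by omega⟩
    rw [← actsAs_unique h1 h2, permEl_inv] at this
    exact inv_mem_iff.1 this
  have : (g : Co0) ∈ S := hgeq ▸ mul_mem heps hperm
  obtain ⟨x, hx, hxe⟩ := this
  rwa [show g = x from Subtype.ext hxe.symm]

theorem top_cl : cl (tv tab top) = cl eTop := by
  refine cl_of_congB ?_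
  rw [tv, lOf_toL (T.entry top top_chk.2.2), tab_getD top_chk.2.2, lOf_eTop]
  convert top_chk.1 using 2
  decide +kernel

theorem img_top (g : CB bh) : (T.img g ⟨top, top_chk.2.2⟩ : ℕ) ∈ orb.map Prod.fst ++ [top] := by
  refine mem_orbit (T.img g ⟨top, top_chk.2.2⟩).2 ?_
  have h := T.img_norm top_chk.2.2 top_cl g
  rwa [tab_getD (T.img g _).2] at h

theorem imgs_len : imgs.length = 9 := by decide +kernel

theorem reach {i : ℕ} (hi : i ∈ orb.map Prod.fst ++ [top]) :
    i < 2 ^ 12 ∧ ∃ g ∈ genS, (T.img g ⟨top, top_chk.2.2⟩ : ℕ) = i := by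
  refine reach_orbit T (ls := imgs) (S := genS) ?_ top_chk.2.2 orb [top] ?_ orbit_chk i hi
  · intro k hk
    have hk' : k < 9 := imgs_len ▸ hk
    exact ⟨gen ⟨k, hk'⟩, Subgroup.subset_closure ⟨_, rfl⟩, gen_img ⟨k, hk'⟩⟩
  · intro j hj
    rw [List.mem_singleton] at hj
    subst hj
    exact ⟨top_chk.2.2, 1, one_mem _, congrArg Fin.val (T.img_one _)⟩

theorem genS_eq_top : genS = ⊤ :=
  eq_top_of_orbit T top_chk.2.2 top_cl (orb.map Prod.fst ++ [top]) genS img_top
    (fun i hi => (reach hi).2) stab_mem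

theorem card_CB_le : Nat.card (CB bh) ≤ 117573120 := by
  have hs := card_stab_le (bh := bh) (A := zeta) rfl rep_zeta word_chk.1 (L := pList.map Prod.fst)
    (fun σ hσ => by
      exact dfs_mem (canon_mem_dfs (masks := []) (prev := []) plan_chk
        (by rw [stabG_M24]; exact σ.2) (fun b hb => nomatch hb) rep_zeta rep_zeta
        (congrArg Subtype.val hσ)))
  rw [List.length_map, word_chk.2.2.2, word_chk.2.2.1] at hs
  have h := card_le_orbit T top_chk.2.2 top_cl img_top hs
  rwa [List.length_append, List.length_map, List.length_singleton, orbit_len] at h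

/-! ### Linear descriptions -/

/-- the element moves the classes as the list -/
def Lin (g : CB bh) (l : List ℕ) : Prop := ∀ i : Fin (2 ^ 12), (T.img g i : ℕ) = lext 12 l i

theorem lext_pow (l : List ℕ) {j : ℕ} (hj : j < 12) : lext 12 l (2 ^ j) = l.getD j 0 := by
  interval_cases j <;> simp [lext, List.range_succ, Nat.testBit_eq_decide_div_mod_eq]

/-- the list of the identity -/
abbrev idL : List ℕ := (List.range 12).map fun j => 2 ^ j

theorem getD_map {f : ℕ → ℕ} {j : ℕ} (hj : j < 12) :
    ((List.range 12).map f).getD j 0 = f j := by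
  simp [List.getD_eq_getElem?_getD, List.getElem?_range hj]

theorem Lin.one : Lin 1 idL := fun i => by
  refine T.img_of_basis 1 (fun j hj => ?_) (fun j hj => ?_) i
  · rw [getD_map hj]; exact Nat.pow_lt_pow_right (by norm_num) hj
  · rw [getD_map hj, Subgroup.coe_one, one_smul]

theorem Lin.mul {g h : CB bh} {a b : List ℕ} (hg : Lin g a) (hh : Lin h b) :
    Lin (g * h) (lcomp a b) := fun i => by
  have key : ∀ j < 12, (lcomp a b).getD j 0 =
      (T.img (g * h) ⟨2 ^ j % 2 ^ 12, Nat.mod_lt _ (Nat.two_pow_pos _)⟩ : ℕ) := by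
    intro j hj
    rw [lcomp, getD_map hj, T.img_mul, hg, hh]
    simp only [Nat.mod_eq_of_lt (Nat.pow_lt_pow_right (by norm_num : (1 : ℕ) < 2) hj)]
    rw [lext_pow b hj]
  refine T.img_of_basis (g * h) (fun j hj => ?_) (fun j hj => ?_) i
  · rw [key j hj]; exact (T.img _ _).2
  · rw [key j hj, ← T.img_spec]
    simp only [Nat.mod_eq_of_lt (Nat.pow_lt_pow_right (by norm_num : (1 : ℕ) < 2) hj)]

theorem Lin.act_eq {g h : CB bh} {l : List ℕ} (hg : Lin g l) (hh : Lin h l) :
    T.act g = T.act h :=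
  Equiv.ext fun i => Fin.ext ((hg i).trans (hh i).symm)

theorem Lin.act_one {g : CB bh} (hg : Lin g idL) : T.act g = 1 :=
  (hg.act_eq Lin.one).trans (map_one _)

/-- a generator by a number -/
noncomputable def gen' (k : ℕ) : CB bh := if h : k < 9 then gen ⟨k, h⟩ else 1

/-- the element of a word -/
noncomputable def wEl : List ℕ → CB bh
  | [] => 1
  | k :: r => gen' k * wEl r

theorem lin_gen {k : ℕ} (hk : k < 9) : Lin (gen' k) (imgs.getD k []) := by
  rw [gen', dif_pos hk]; exact gen_img ⟨k, hk⟩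

theorem lin_word : ∀ w : List ℕ, (∀ k ∈ w, k < 9) → Lin (wEl w) (wImg w)
  | [], _ => Lin.one
  | k :: r, h => (lin_gen (h k List.mem_cons_self)).mul
      (lin_word r fun a ha => h a (List.mem_cons_of_mem _ ha))

/-! ### The 112 sets -/

theorem mask_of_mem : ∀ (L : List ℕ) {i : ℕ}, i ∈ L → (maskOf L).testBit i = true
  | [], i, h => by simp at h
  | e :: r, i, h => by
    rw [maskOf, Nat.testBit_or, Bool.or_eq_true, Nat.one_shiftLeft, Nat.testBit_two_pow,
      decide_eq_true_eq]
    rcases List.mem_cons.1 h with rfl | h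
    · exact Or.inl rfl
    · exact Or.inr (mask_of_mem r h)

theorem pairwise_of_asc : ∀ {L : List ℕ}, ascB L = true → L.Pairwise (· < ·)
  | [], _ => List.Pairwise.nil
  | [a], _ => List.pairwise_singleton _ a
  | a :: b :: r, h => by
    simp only [ascB, Bool.and_eq_true, Nat.blt_eq] at h
    have ih := pairwise_of_asc h.2
    refine List.pairwise_cons.2 ⟨fun x hx => ?_, ih⟩
    rcases List.mem_cons.1 hx with rfl | hx
    · exact h.1
    · exact lt_trans h.1 ((List.pairwise_cons.1 ih).1 x hx)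

theorem sets_spec (i : Fin 112) : maskOf (sets.getD i []) = masks.getD i 0 ∧
    (sets.getD i []).length = 135 ∧ (∀ x ∈ sets.getD i [], x < 2 ^ 12) ∧ (sets.getD i []).Nodup := by
  have h := List.all_eq_true.1 sets_chk i (List.mem_range.2 i.2)
  simp only [Bool.and_eq_true, Nat.beq_eq, List.all_eq_true, Nat.blt_eq] at h
  exact ⟨h.1.1, h.1.2, h.2,
    (pairwise_of_asc (List.all_eq_true.1 sets_asc i (List.mem_range.2 i.2))).imp fun hxy => hxy.ne⟩

/-- the sets -/
def setF (i : Fin 112) : Finset (Fin (2 ^ 12)) :=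
  ((sets.getD i []).map fun x => (⟨x % 2 ^ 12, Nat.mod_lt _ (Nat.two_pow_pos _)⟩ : Fin (2 ^ 12))).toFinset

theorem mem_setF {i : Fin 112} {x : Fin (2 ^ 12)} : x ∈ setF i ↔ (x : ℕ) ∈ sets.getD i [] := by
  simp only [setF, List.mem_toFinset, List.mem_map]
  constructor
  · rintro ⟨y, hy, rfl⟩
    show y % 2 ^ 12 ∈ _
    rwa [Nat.mod_eq_of_lt ((sets_spec i).2.2.1 y hy)]
  · exact fun h => ⟨x, h, Fin.ext (Nat.mod_eq_of_lt x.2)⟩

theorem card_setF (i : Fin 112) : (setF i).card = 135 := by
  rw [setF, List.toFinset_card_of_nodup, List.length_map, (sets_spec i).2.1]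
  refine (sets_spec i).2.2.2.map_on fun a ha b hb e => ?_
  have h' : a % 2 ^ 12 = b % 2 ^ 12 := congrArg Fin.val e
  rwa [Nat.mod_eq_of_lt ((sets_spec i).2.2.1 a ha), Nat.mod_eq_of_lt ((sets_spec i).2.2.1 b hb)] at h' 

theorem setF_injective : Function.Injective setF := by
  intro i j e
  by_contra hne
  have h := List.all_eq_true.1 (List.all_eq_true.1 sets_diff i (List.mem_range.2 i.2)) j
    (List.mem_range.2 j.2)
  simp only [Bool.or_eq_true, Nat.beq_eq, List.any_eq_true] at h
  rcases h with h | ⟨x, hx, hx2⟩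
  · exact hne (Fin.ext h)
  · have hm : (⟨x, (sets_spec i).2.2.1 x hx⟩ : Fin (2 ^ 12)) ∈ setF j := e ▸ mem_setF.2 hx
    have := mask_of_mem _ (mem_setF.1 hm)
    rw [(sets_spec j).1] at this
    have h3 : (masks.getD (↑j) 0).testBit x = true := this
    rw [h3] at hx2
    simp at hx2

theorem gen_set (k : Fin 9) (i : Fin 112) : ∃ j : Fin 112, (j : ℕ) = (perms.getD k []).getD i 0 ∧
    (setF i).image (T.img (gen k)) = setF j := by
  have h := List.all_eq_true.1 (sets_get k.2) i (List.mem_range.2 i.2)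
  simp only [Bool.and_eq_true, Nat.blt_eq, List.all_eq_true] at h
  refine ⟨⟨_, h.1⟩, rfl, Finset.eq_of_subset_of_card_le ?_ ?_⟩
  · intro y hy
    obtain ⟨x, hx, rfl⟩ := Finset.mem_image.1 hy
    rw [mem_setF, gen_img]
    refine mem_of_maskOf _ _ ?_
    rw [(sets_spec ⟨_, h.1⟩).1]
    exact h.2 _ (mem_setF.1 hx)
  · rw [show T.img (gen k) = ⇑(T.act (gen k)) from rfl,
      Finset.card_image_of_injective _ (T.act (gen k)).injective, card_setF, card_setF]

theorem exists_phi : ∃ φ : CB bh →* Equiv.Perm (Fin 112),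
    ∀ g i, (setF i).image (T.img g) = setF (φ g i) :=
  T.exists_setsHom setF setF_injective (Set.range gen) genS_eq_top fun g ⟨k, hk⟩ i => by
    subst hk
    obtain ⟨j, -, hj⟩ := gen_set k i
    exact ⟨j, hj⟩

/-- the action on the sets -/
noncomputable def phi : CB bh →* Equiv.Perm (Fin 112) := exists_phi.choose

theorem phi_spec : ∀ g i, (setF i).image (T.img g) = setF (phi g i) := exists_phi.choose_spec

theorem phi_gen {k : ℕ} (hk : k < 9) : RepL (phi (gen' k)) (perms.getD k []) := fun i => by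
  rw [gen', dif_pos hk]
  obtain ⟨j, hj, hje⟩ := gen_set ⟨k, hk⟩ i
  rw [← setF_injective ((phi_spec _ i).symm.trans hje) ] at hj
  exact hj.symm

theorem phi_word : ∀ w : List ℕ, (∀ k ∈ w, k < 9) → RepL (phi (wEl w)) (wPerm w)
  | [], _ => by rw [wEl, map_one]; exact RepL.one
  | k :: r, h => by
    rw [wEl, map_mul]
    exact (phi_gen (h k List.mem_cons_self)).mul
      (phi_word r fun a ha => h a (List.mem_cons_of_mem _ ha))

theorem word_lt {w : List ℕ} (hw : w = wordA ∨ w = wordB ∨ w = wordO) : ∀ k ∈ w, k < 9 := by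
  intro k hk
  have := List.all_eq_true.1 words_lt k (by rcases hw with rfl | rfl | rfl <;> simp [hk])
  simpa [Nat.blt_eq] using this

theorem phi_wA : phi (wEl wordA) = McLUnitary.pA := by
  refine Equiv.ext fun i => Fin.ext ?_
  have h := phi_word wordA (word_lt (Or.inl rfl))
  rw [words_chk.1] at h
  rw [← h i, McLUnitary.pA_val]

theorem phi_wB : phi (wEl wordB) = McLUnitary.pB := by
  refine Equiv.ext fun i => Fin.ext ?_
  have h := phi_word wordB (word_lt (Or.inr (Or.inl rfl)))
  rw [words_chk.2.1] at h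
  rw [← h i, McLUnitary.pB_val]

theorem phi_wO : phi (wEl wordO) = 1 := by
  refine Equiv.ext fun i => Fin.ext ?_
  have h := phi_word wordO (word_lt (Or.inr (Or.inr rfl)))
  rw [words_chk.2.2.1] at h
  rw [← h i, List.getD_eq_getElem _ _ (by simp), List.getElem_range, Equiv.Perm.one_apply]

end CfsgLib.Spor.Loc.Central3
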