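import Cfsg.Agent.Lib.Spor.Loc.CentralThreeHom

/-!
A 3-central subgroup of order three of the joint centraliser in standard position, and
conjugation of the involutions inside its centraliser.
-/

set_option autoImplicit false
set_option maxRecDepth 100000
set_option maxHeartbeats 1000000

namespace CfsgLib.Spor.Loc.Central3

open Cfsg CfsgLib.ThreeTransp CfsgLib.MathieuOut
open CfsgLib.ThreeTransp.MonsterFrame (qImage up)
open scoped Pointwise

/-- the centre of a non-abelian group of order 27 -/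
theorem card_center_27 {P : Type*} [Group P] [Finite P] (hP : Nat.card P = 27)
    (hne : ∃ a b : P, a * b ≠ b * a) : Nat.card (Subgroup.center P) = 3 := by
  haveI : Fact (Nat.Prime 3) := ⟨Nat.prime_three⟩
  obtain ⟨k, hk0, hk⟩ := IsPGroup.card_center_eq_prime_pow (p := 3) (n := 3) (G := P)
    (by rw [hP]; norm_num) (by norm_num)
  have h := Subgroup.card_mul_index (Subgroup.center P)
  rw [hP, hk] at h
  obtain ⟨a, b, hab⟩ := hne
  have hk2 : k < 2 := by
    by_contra hk2
    have hcyc : IsCyclic (P ⧸ Subgroup.center P) := by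
      rcases Nat.lt_or_ge k 3 with h3 | h3
      · obtain rfl : k = 2 := by omega
        refine isCyclic_of_prime_card (p := 3) ?_
        rw [← Subgroup.index_eq_card]; omega
      · haveI : Subsingleton (P ⧸ Subgroup.center P) := by
          refine (Nat.card_eq_one_iff_unique.1 ?_).1
          rw [← Subgroup.index_eq_card]
          have h27 : 3 ^ k ≥ 27 := le_trans (by norm_num) (Nat.pow_le_pow_right (by norm_num) h3)
          nlinarith [Subgroup.index_ne_zero_of_finite (H := Subgroup.center P)]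
        exact isCyclic_of_subsingleton
    exact hab ((commutative_of_cyclic_center_quotient (QuotientGroup.mk' (Subgroup.center P))
      (by rw [QuotientGroup.ker_mk']) a b))
  obtain rfl : k = 1 := by omega
  rw [hk]; norm_num

/-- the permutations as elements of the central quotient -/
noncomputable def permHom : ↥M24 →* Cfsg.Spor.Co1 :=
  (QuotientGroup.mk' (Subgroup.center Co0)).comp (MonoidHom.mk' permEl permEl_mul)

theorem permEl_ne_neg (σ : ↥M24) (hσ : σ ^ 27 = 1) : permEl σ ≠ negEl := by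
  intro h
  have h1 : negEl ^ 27 = 1 := by
    rw [← h, show permEl σ = MonoidHom.mk' permEl permEl_mul σ from rfl, ← map_pow, hσ, map_one]
  have h2 : negEl ^ 2 = 1 := by
    rw [pow_two]
    exact co0_ext fun i => by rw [mul_smul, negEl_smul, negEl_smul, neg_neg, one_smul]
  rw [show (27 : ℕ) = 2 * 13 + 1 by rfl, pow_succ, pow_mul, h2, one_pow, one_mul] at h1
  exact negEl_ne_one h1

theorem mk_bh_ne_one : (QuotientGroup.mk bh : Cfsg.Spor.Co1) ≠ 1 := by
  intro h
  rw [QuotientGroup.eq_one_iff] at h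
  rcases eq_of_central h with h | h
  · have := orderOf_bh
    rw [h, orderOf_one] at this
    norm_num at this
  · exact permEl_ne_neg zeta (by rw [show (27 : ℕ) = 3 * 9 by rfl, pow_mul, zeta_cube, one_pow]) h

theorem syl_member : ((List.range 27).any fun i => Nat.beq (getT 120 syl3Tbl i) permA) = true ∧
    (syl3Gens.all fun g => Nat.beq (compP g permA) (compP permA g) && isM24P g) = true ∧
    eqP (compP (syl3Gens.getD 0 0) (syl3Gens.getD 1 0))
      (compP (syl3Gens.getD 1 0) (syl3Gens.getD 0 0)) = false ∧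
    syl3Gens.length = 2 := by
  decide +kernel

/-- the listed Sylow subgroup -/
noncomputable def syl : Subgroup ↥M24 := (genGroup syl3Gens).subgroupOf M24

theorem card_syl : Nat.card syl = 27 := by
  rw [syl, Nat.card_congr (Subgroup.subgroupOfEquivOfLe (genGroup_le syl3Gens)).toEquiv,
    natCard_genGroup syl3_listed]

theorem syl_pow {σ : ↥M24} (hσ : σ ∈ syl) : σ ^ 27 = 1 := by
  have h := pow_card_eq_one' (G := syl) (x := ⟨σ, hσ⟩)
  rw [card_syl] at h
  exact congrArg Subtype.val h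

theorem permHom_injOn {σ : ↥M24} (hσ : σ ∈ syl) (h : permHom σ = 1) : σ = 1 := by
  rcases eq_of_central ((QuotientGroup.eq_one_iff _).1 h) with h | h
  · exact CentralFree.permEl_injective (h.trans permEl_one.symm)
  · exact absurd h (permEl_ne_neg σ (syl_pow hσ))

theorem zeta_mem_syl : zeta ∈ syl := by
  obtain ⟨i, hi, hie⟩ := List.any_eq_true.1 syl_member.1
  obtain ⟨σ, hσ, hr⟩ := listed_mem syl3_listed (List.mem_range.1 hi)
  rw [Nat.eq_of_beq_eq_true hie] at hr
  rw [syl, Subgroup.mem_subgroupOf, ← hr.inj rep_zeta]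
  exact hσ

theorem zeta_central {σ : ↥M24} (hσ : σ ∈ syl) : σ * zeta = zeta * σ := by
  refine Subtype.ext ?_
  have hle : genGroup syl3Gens ≤
      Subgroup.centralizer ({(zeta : Equiv.Perm GolayPt)} : Set (Equiv.Perm GolayPt)) := by
    rw [genGroup, Subgroup.closure_le]
    rintro y ⟨-, g, hg, hyr⟩
    have h := List.all_eq_true.1 syl_member.2.1 g hg
    simp only [Bool.and_eq_true, Nat.beq_eq] at h
    have h1 := hyr.mul rep_zeta
    rw [h.1] at h1
    exact Subgroup.mem_centralizer_singleton_iff.2 (h1.inj (rep_zeta.mul hyr))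
  exact Subgroup.mem_centralizer_singleton_iff.1 (hle (Subgroup.mem_subgroupOf.1 hσ))

theorem syl_noncomm : ∃ a b : syl, a * b ≠ b * a := by
  have hget : ∀ k < 2, ∃ σ : syl, Rep ((σ : ↥M24) : Equiv.Perm GolayPt) (syl3Gens.getD k 0) := by
    intro k hk
    have hmem : syl3Gens.getD k 0 ∈ syl3Gens := by
      rw [List.getD_eq_getElem _ _ (syl_member.2.2.2.symm ▸ hk)]; exact List.getElem_mem _
    have h := List.all_eq_true.1 syl_member.2.1 _ hmem
    simp only [Bool.and_eq_true] at h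
    obtain ⟨σ, hσ, hr⟩ := exists_rep_M24 h.2
    exact ⟨⟨⟨σ, hσ⟩, Subgroup.mem_subgroupOf.2 (Subgroup.subset_closure ⟨hσ, _, hmem, hr⟩)⟩, hr⟩
  obtain ⟨a, ha⟩ := hget 0 (by norm_num)
  obtain ⟨b, hb⟩ := hget 1 (by norm_num)
  refine ⟨a, b, fun h => Bool.false_ne_true (syl_member.2.2.1.symm.trans ?_)⟩
  have h' : ((a : ↥M24) : Equiv.Perm GolayPt) * (b : ↥M24) = ((b : ↥M24) : Equiv.Perm GolayPt) * (a : ↥M24) :=
    congrArg (fun x : syl => ((x : ↥M24) : Equiv.Perm GolayPt)) h
  have h1 := ha.mul hb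
  have h2 := hb.mul ha
  rw [h'] at h1
  exact (eqP_iff h1 h2).2 rfl

variable {G : Type*} [Group G] [Finite G] {z : G}
  {Q : Subgroup (Subgroup.centralizer ({z} : Set G))} [Q.Normal]
  {e : (Subgroup.centralizer ({z} : Set G)) ⧸ Q ≃* Cfsg.Spor.Co1}
  {ψ : leechLattice → Q ⧸ Subgroup.center Q}

/-- Standard position of a 3-central subgroup of order three. -/
theorem exists_over_central (M : MonsterFrame z Q e ψ) {s : Q} (hs : IsConj z (up s))
    (hne : up s ≠ z) {L : Subgroup G} (hL : L = Subgroup.centralizer ({z, up s} : Set G)) {B : Subgroup G}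
    (hB : B ≤ L)
    (hB3 : Nat.card B = 3) (P : Sylow 3 ↥L)
    (hc : B.subgroupOf L ≤
      (Subgroup.center ↥(P : Subgroup ↥L)).map
        (P : Subgroup ↥L).subtype) :
    ∃ (e' : (Subgroup.centralizer ({z} : Set G)) ⧸ Q ≃* Cfsg.Spor.Co1)
      (ψ' : leechLattice → Q ⧸ Subgroup.center Q) (M' : MonsterFrame z Q e' ψ') (b : G),
      ψ' eTop = QuotientGroup.mk s ∧ B = Subgroup.zpowers b ∧ Over M' b bh 3 ∧
      B.subgroupOf L =
        (Subgroup.center ↥(P : Subgroup ↥L)).map
          (P : Subgroup ↥L).subtype := by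
  classical
  haveI : Fact (Nat.Prime 3) := ⟨Nat.prime_three⟩
  obtain ⟨v, hv, hvx⟩ := M.exists_norm64_of_conj hs hne
  obtain ⟨g₀, rfl⟩ := exists_map (Or.inr (Or.inr rfl)) eTop v (sqNorm_bigE none) hv
  have M₁ := M.twist g₀
  set ψ₁ : leechLattice → Q ⧸ Subgroup.center Q := fun v => ψ (g₀ • v)
  set e₁ := e.trans (MulAut.conj (QuotientGroup.mk g₀ : Cfsg.Spor.Co1)⁻¹)
  have hx : ψ₁ eTop = QuotientGroup.mk s := hvx
  have hLz : ∀ a ∈ L, a ∈ Subgroup.centralizer ({z} : Set G) := fun a ha =>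
    Subgroup.centralizer_le (by simp) (hL ▸ ha : a ∈ Subgroup.centralizer ({z, up s} : Set G))
  have hLs : ∀ a ∈ L, a * up s = up s * a := fun a ha =>
    (Subgroup.mem_centralizer_iff.1 (hL ▸ ha : a ∈ Subgroup.centralizer ({z, up s} : Set G)) (up s) (by simp)).symm
  let π : Co0 →* Cfsg.Spor.Co1 := QuotientGroup.mk' (Subgroup.center Co0)
  let P₀ : Subgroup Cfsg.Spor.Co1 := crossStab.map π
  let f : L →* Cfsg.Spor.Co1 := (e₁.toMonoidHom.comp (QuotientGroup.mk' Q)).comp
    (Subgroup.inclusion hLz)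
  have hfP : ∀ a : L, f a ∈ P₀ := by
    intro a
    obtain ⟨g', hg'⟩ := QuotientGroup.mk_surjective (f a)
    refine ⟨g', mem_crossStab_of_cl ?_, hg'⟩
    rw [← psi_eq_iff M₁, M₁.iso.2.2.2 ⟨a, hLz a a.2⟩ g' hg' eTop s hx, hx]
    congr 1
    exact MonsterFrame.up_inj (mul_inv_eq_iff_eq_mul.2 (hLs a a.2))
  have hP81 : ¬ 3 ^ 4 ∣ Nat.card P₀ := fun h => by
    have h1 := h.trans (Subgroup.card_map_dvd crossStab π)
    rw [natCard_crossStab] at h1
    norm_num at h1
  obtain ⟨g₁, hg₁⟩ := isConj_iff.1 hs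
  obtain ⟨-, -, -, -, -, K, hKX, -, -, ⟨eK⟩⟩ := M₁.conjugate_structure (x := s) (g := g₁) hg₁ hne
    _ _ rfl rfl
  have hrange : Nat.card K ∣ Nat.card f.range := by
    rw [← Subgroup.card_map_of_injective (f := e₁.toMonoidHom) (K := K) e₁.injective]
    refine Subgroup.card_dvd_of_le ?_
    rintro _ ⟨k, hk, rfl⟩
    obtain ⟨a, ha, rfl⟩ := hKX hk
    refine ⟨⟨(a : G), hL.symm ▸ Subgroup.mem_centralizer_iff.2 ?_⟩, rfl⟩
    intro t ht
    simp only [Set.mem_insert_iff, Set.mem_singleton_iff] at ht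
    rcases ht with rfl | rfl
    · exact (Subgroup.mem_centralizer_singleton_iff.1 ha.1).symm
    · exact (Subgroup.mem_centralizer_singleton_iff.1 ha.2).symm
  have hker : ∀ a : L, f a = 1 → (a : G) ∈ qImage Q := by
    intro a h
    have ha : Subgroup.inclusion hLz a ∈ Q := by
      rwa [MonoidHom.comp_apply, MonoidHom.comp_apply, MulEquiv.coe_toMonoidHom,
        map_eq_one_iff _ e₁.injective, QuotientGroup.mk'_apply, QuotientGroup.eq_one_iff] at h
    exact ⟨_, ha, rfl⟩
  set fP := f.comp (P : Subgroup L).subtype with hfPdef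
  have hinj : Function.Injective fP := (injective_iff_map_eq_one fP).2 fun a ha => by
    obtain ⟨n, hn⟩ := P.isPGroup' a
    have h1 : (((a : L) : G)) ^ 3 ^ n = 1 := by
      rw [← SubgroupClass.coe_pow, ← SubgroupClass.coe_pow, hn]; rfl
    exact Subtype.ext (Subtype.ext (eq_one_of_odd M₁ (hker _ ha) (Odd.pow (by decide)) h1))
  have h27 : 27 ∣ Nat.card L := by
    refine dvd_trans ?_ (Subgroup.card_range_dvd f)
    refine dvd_trans ?_ hrange
    rw [Nat.card_congr eK.toEquiv, natCard_M24]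
    norm_num
  have hcard : Nat.card P = 27 := by
    obtain ⟨n, hn⟩ := IsPGroup.iff_card.1 P.isPGroup'
    have h1 : 3 ^ 3 ∣ Nat.card P := P.pow_dvd_card_of_pow_dvd_card (n := 3) (by exact_mod_cast h27)
    have h2 : Nat.card P ∣ Nat.card P₀ := by
      rw [← Nat.card_congr (MonoidHom.ofInjective hinj).toEquiv.symm]
      refine Subgroup.card_dvd_of_le ?_
      rintro _ ⟨a, rfl⟩
      exact hfP _
    rw [hn] at h1 h2 ⊢
    have hn3 : 3 ≤ n := (Nat.pow_dvd_pow_iff_le_right (by norm_num)).1 h1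
    have hn4 : n < 4 := by
      by_contra h
      exact hP81 (dvd_trans (pow_dvd_pow 3 (by omega)) h2)
    obtain rfl : n = 3 := by omega
    norm_num
  -- the standard Sylow subgroup
  let g : syl →* P₀ := ((permHom.comp syl.subtype).codRestrict P₀ fun σ =>
    ⟨permEl (σ : ↥M24), monoEl_mem_crossStab _, rfl⟩)
  have hginj : Function.Injective g := (injective_iff_map_eq_one g).2 fun σ h =>
    Subtype.ext (permHom_injOn σ.2 (congrArg Subtype.val h))
  let fP' : (P : Subgroup L) →* P₀ := fP.codRestrict P₀ fun a => hfP _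
  have hfP'inj : Function.Injective fP' := fun a b h => hinj (congrArg Subtype.val h)
  have hP0 : (Nat.card P₀).factorization 3 = 3 := by
    have hd : 3 ^ 3 ∣ Nat.card P₀ := by
      have := Subgroup.card_dvd_of_injective g hginj
      rw [card_syl] at this
      exact this
    refine le_antisymm ?_ ((Nat.Prime.pow_dvd_iff_le_factorization Nat.prime_three Nat.card_pos.ne').1 hd)
    by_contra h
    exact hP81 ((Nat.Prime.pow_dvd_iff_le_factorization Nat.prime_three Nat.card_pos.ne').2 (by omega))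
  let S1 : Sylow 3 P₀ := Sylow.ofCard g.range (by
    rw [Nat.card_congr (MonoidHom.ofInjective hginj).toEquiv.symm, card_syl, hP0]; norm_num)
  let S2 : Sylow 3 P₀ := Sylow.ofCard fP'.range (by
    rw [Nat.card_congr (MonoidHom.ofInjective hfP'inj).toEquiv.symm, hcard, hP0]; norm_num)
  obtain ⟨c, hcc⟩ := MulAction.exists_smul_eq P₀ S1 S2
  have hconj : g.range.map (MulAut.conj c).toMonoidHom = fP'.range := by
    have h := congrArg (fun R : Sylow 3 P₀ => (R : Subgroup P₀)) hcc
    simp only [Sylow.coe_subgroup_smul] at h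
    exact h
  -- the centre
  let eP : (P : Subgroup L) ≃* syl := (MonoidHom.ofInjective hfP'inj).trans
    ((MulEquiv.subgroupCongr hconj.symm).trans
      (((g.range).equivMapOfInjective _ (MulAut.conj c).injective).symm.trans
        (MonoidHom.ofInjective hginj).symm))
  have hZ3 : Nat.card (Subgroup.center (P : Subgroup L)) = 3 := by
    rw [Nat.card_congr (Subgroup.centerCongr eP).toEquiv]
    exact card_center_27 card_syl syl_noncomm
  have hBeq : B.subgroupOf L = (Subgroup.center (P : Subgroup L)).map (P : Subgroup L).subtype := by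
    refine Subgroup.eq_of_le_of_card_ge hc ?_
    rw [Subgroup.card_map_of_injective (P : Subgroup L).subtype_injective, hZ3,
      Nat.card_congr (Subgroup.subgroupOfEquivOfLe hB).toEquiv, hB3]
  obtain ⟨p, hp⟩ : ∃ p : (P : Subgroup L), fP' p = c * g ⟨zeta, zeta_mem_syl⟩ * c⁻¹ := by
    rw [← MonoidHom.mem_range, ← hconj]
    exact ⟨_, ⟨_, rfl⟩, rfl⟩
  have hpc : p ∈ Subgroup.center (P : Subgroup L) := by
    rw [Subgroup.mem_center_iff]
    intro y
    refine hfP'inj ?_
    obtain ⟨_, ⟨σ, rfl⟩, hy⟩ : fP' y ∈ g.range.map (MulAut.conj c).toMonoidHom := hconj.symm ▸ ⟨y, rfl⟩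
    have hy' : c * g σ * c⁻¹ = fP' y := hy
    rw [map_mul, map_mul, hp, ← hy']
    have hz : g σ * g ⟨zeta, zeta_mem_syl⟩ = g ⟨zeta, zeta_mem_syl⟩ * g σ := by
      rw [← map_mul, ← map_mul]
      exact congrArg g (Subtype.ext (zeta_central σ.2))
    calc c * g σ * c⁻¹ * (c * g ⟨zeta, zeta_mem_syl⟩ * c⁻¹)
        = c * (g σ * g ⟨zeta, zeta_mem_syl⟩) * c⁻¹ := by group
      _ = c * (g ⟨zeta, zeta_mem_syl⟩ * g σ) * c⁻¹ := by rw [hz]
      _ = _ := by group
  set b : G := ((p : L) : G) with hb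
  have hbB : b ∈ B := by
    have : (p : L) ∈ B.subgroupOf L := hBeq ▸ ⟨p, hpc, rfl⟩
    exact this
  obtain ⟨n, hn, hnc⟩ := c.2
  have hfb : f (p : L) = π (n * bh * n⁻¹) := by
    rw [map_mul, map_mul, map_inv, hnc]
    exact congrArg Subtype.val hp
  have hb1 : b ≠ 1 := by
    intro h
    have h1 : (p : L) = 1 := Subtype.ext h
    rw [h1, map_one, map_mul, map_mul, map_inv] at hfb
    exact mk_bh_ne_one (conj_eq_one_iff.1 hfb.symm)
  have hbo : orderOf b = 3 := by
    have h := orderOf_dvd_natCard (⟨b, hbB⟩ : B)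
    rw [hB3, Subgroup.orderOf_mk] at h
    exact ((Nat.dvd_prime Nat.prime_three).1 h).resolve_left fun h => hb1 (orderOf_eq_one_iff.1 h)
  refine ⟨e₁.trans (MulAut.conj (QuotientGroup.mk n : Cfsg.Spor.Co1)⁻¹), fun v => ψ₁ (n • v),
    M₁.twist n, b, ?_, ?_, ⟨Nat.prime_three, by decide, hbo, bh_cube, ?_⟩, hBeq⟩
  · show ψ₁ (n • eTop) = _
    rw [← hx, psi_eq_iff M₁]
    exact cl_eTop_of_mem hn
  · exact (Subgroup.eq_of_le_of_card_ge (Subgroup.zpowers_le.2 hbB)
      (by rw [Nat.card_zpowers, hbo, hB3])).symm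
  · refine ⟨hLz _ (p : L).2, ?_⟩
    show π bh = (π n)⁻¹ * f (p : L) * ((π n)⁻¹)⁻¹
    rw [hfb, map_mul, map_mul, map_inv]
    group

end CfsgLib.Spor.Loc.Central3
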