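import Cfsg.Agent.Lib.Spor.Loc.CentralThreeGroup
import Cfsg.Agent.Lib.Spor.Loc.CentralThreePos
import Cfsg.Agent.Lib.Spor.Loc.Quot

/-!
The centraliser of a 3-central element of order three of the joint centraliser in a group of
Monster type is of large Fischer type modulo that element.
-/

set_option autoImplicit false
set_option maxRecDepth 100000
set_option maxHeartbeats 2000000
set_option linter.unusedSectionVars false

namespace CfsgLib.Spor.Loc.Central3

open Cfsg CfsgLib.ThreeTransp CfsgLib.MathieuOut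
open CfsgLib.ThreeTransp.MonsterFrame (qImage up)

variable {G : Type*} [Group G] [Finite G] {z : G}
  {Q : Subgroup (Subgroup.centralizer ({z} : Set G))} [Q.Normal]
  {e : (Subgroup.centralizer ({z} : Set G)) ⧸ Q ≃* Cfsg.Spor.Co1}
  {ψ : leechLattice → Q ⧸ Subgroup.center Q}

/-- Elements of the lattice centraliser lift to the centraliser of the element. -/
theorem exists_lift {M : MonsterFrame z Q e ψ} {b : G} {bh : Co0} {p : ℕ} (O : Over M b bh p)
    (g : CB bh) : ∃ (c : G) (hc : c ∈ Subgroup.centralizer ({z} : Set G)),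
      b * c = c * b ∧ (QuotientGroup.mk (g : Co0) : Cfsg.Spor.Co1) = e (QuotientGroup.mk ⟨c, hc⟩) := by
  obtain ⟨hbC, hbe⟩ := O.image
  obtain ⟨c0, hc0⟩ := QuotientGroup.mk_surjective (e.symm (QuotientGroup.mk (g : Co0)))
  have hc0' : e (QuotientGroup.mk c0) = QuotientGroup.mk (g : Co0) := by
    rw [hc0, e.apply_symm_apply]
  let bC : Subgroup.centralizer ({z} : Set G) := ⟨b, hbC⟩
  have hfix : ∀ a ∈ Subgroup.zpowers bC, c0⁻¹ * (a * c0 * a⁻¹) ∈ Q := by
    intro a ha
    obtain ⟨i, rfl⟩ := Subgroup.mem_zpowers_iff.1 ha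
    rw [← QuotientGroup.eq_one_iff, ← e.map_eq_one_iff]
    simp only [QuotientGroup.mk_mul, QuotientGroup.mk_inv, QuotientGroup.mk_zpow, map_mul,
      map_inv, map_zpow, hc0']
    rw [show e (QuotientGroup.mk bC) = QuotientGroup.mk bh from hbe.symm]
    have hc : Commute (QuotientGroup.mk bh : Cfsg.Spor.Co1) (QuotientGroup.mk (g : Co0)) :=
      (congrArg (QuotientGroup.mk (s := Subgroup.center Co0))
        (Subgroup.mem_centralizer_singleton_iff.1 g.2).symm)
    rw [(hc.zpow_left i).eq]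
    group
  have h2 : IsPGroup 2 Q := fun x => ⟨2, MonsterFrame.up_inj (up_pow_four M x)⟩
  have hcop : (Nat.card (Subgroup.zpowers bC)).Coprime (Nat.card Q) := by
    obtain ⟨k, hk⟩ := IsPGroup.iff_card.1 h2
    rw [hk, Nat.card_zpowers, show orderOf bC = p from (Subgroup.orderOf_coe bC).symm.trans O.ord]
    exact Nat.Coprime.pow_right k (Nat.coprime_two_right.2 O.odd)
  obtain ⟨c, hc, hcQ⟩ := CfsgLib.Coprime.exists_centralizing_in_coset (A := Subgroup.zpowers bC)
    (N := Q) (by rw [Subgroup.normalizer_eq_top]; exact le_top) hcop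
    (Or.inl (Group.isSolvable_of_comm fun x y => Subtype.ext (by
      obtain ⟨i, hi⟩ := x.2; obtain ⟨j, hj⟩ := y.2
      simp only [Subgroup.coe_mul, ← hi, ← hj]
      exact (Commute.zpow_zpow (Commute.refl bC) i j).eq))) hfix
  refine ⟨c, c.2, congrArg Subtype.val
    (Subgroup.mem_centralizer_iff.1 hc bC (Subgroup.mem_zpowers bC)), ?_⟩
  rw [← hc0']
  exact congrArg e (QuotientGroup.eq.2 hcQ)

theorem kappa_exists : ∃ n : Co0, n ∈ crossStab ∧ n * bh * n⁻¹ = bh ^ 2 := by
  obtain ⟨κ, hκ, hr⟩ := exists_rep_M24 perm_specs.2.2.1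
  refine ⟨permEl ⟨κ, hκ⟩, monoEl_mem_crossStab _, ?_⟩
  have h1 : Rep ((κ : Equiv.Perm GolayPt) * zeta) (compP permK permA) := hr.mul rep_zeta
  rw [perm_specs.2.2.2.2.2.2.1] at h1
  have e1 : κ * (zeta : Equiv.Perm GolayPt) = ((zeta⁻¹ : ↥M24) : Equiv.Perm GolayPt) * κ :=
    h1.inj (rep_zeta_inv.mul hr)
  have e2 : (⟨κ, hκ⟩ : ↥M24) * zeta * (⟨κ, hκ⟩ : ↥M24)⁻¹ = zeta ^ 2 := by
    have e3 : (⟨κ, hκ⟩ : ↥M24) * zeta = zeta⁻¹ * ⟨κ, hκ⟩ := Subtype.ext e1
    rw [e3, mul_inv_cancel_right,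
      inv_eq_of_mul_eq_one_right (show zeta * zeta ^ 2 = 1 by rw [← pow_succ', zeta_cube])]
  show permEl _ * permEl zeta * (permEl _)⁻¹ = permEl zeta ^ 2
  rw [← permEl_inv, ← permEl_mul, ← permEl_mul, e2, pow_two, pow_two, permEl_mul]

theorem haut {M : MonsterFrame z Q e ψ} {b : G} (O : Over M b bh 3) (k : ℕ) (hk : ¬ 3 ∣ k) :
    ∃ c : G, c * z = z * c ∧ c * b * c⁻¹ = b ^ k := by
  have hbk : b ^ k = b ^ (k % 3) := by rw [← O.ord, pow_mod_orderOf]
  obtain h | h : k % 3 = 1 ∨ k % 3 = 2 := by omega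
  · exact ⟨1, by simp, by rw [hbk, h]; simp⟩
  · obtain ⟨n, -, hn⟩ := kappa_exists
    obtain ⟨c, hc, hce⟩ := O.exists_normalizer (k := 2) hn
    exact ⟨c, Subgroup.mem_centralizer_singleton_iff.1 hc, by rw [hbk, h]; exact hce⟩

/-- All conjugates among the fixed points are conjugate inside the centraliser. -/
theorem conj_inside {M : MonsterFrame z Q e ψ} {b : G} (O : Over M b bh 3) {B : Subgroup G}
    (hB : B = Subgroup.zpowers b) {s : Q} (hsC : up s ∈ CQ M b)
    (hne : up s ≠ z) (hψs : ψ eTop = QuotientGroup.mk s)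
    (h0 : ∃ g ∈ Subgroup.centralizer (B : Set G), g * z * g⁻¹ = up s)
    (q : Q) (hq : up q ∈ CQ M b) (hqz : IsConj z (up q)) (hqne : up q ≠ z) :
    ∃ g ∈ Subgroup.centralizer (B : Set G), g * z * g⁻¹ = up q := by
  obtain ⟨g0, hg0, hg0e⟩ := h0
  have hcent : ∀ x : G, x * b = b * x → x ∈ Subgroup.centralizer (B : Set G) := fun x hx => by
    rw [hB, Subgroup.zpowers_eq_closure, Subgroup.centralizer_closure,
      Subgroup.mem_centralizer_singleton_iff]
    exact hx
  obtain ⟨v, hv, hvq⟩ := M.exists_norm64_of_conj hqz hqne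
  obtain ⟨i, hi, hvi⟩ := T.cover v ((O.mem_CQ M hvq).1 hq)
  have hn : sqNorm ((tv tab i : leechLattice) : GolayPt → ℤ) = normL (tab.getD i []) := by
    rw [sqNorm_lOf, tv, lOf_toL (T.entry i hi)]
  have hi0 : i ≠ 0 := by
    rintro rfl
    exact cl_ne_zero v (Or.inr (Or.inr hv)) (hvi.trans T.zero)
  have h64 : normL (ent i) = 64 := by
    rw [← tab_getD hi, ← hn, ← norm_eq_of_cl hvi hv.le (by
      rcases T.norm i hi hi0 with h | h | h <;> omega), hv]
  obtain ⟨-, g, -, hgi⟩ := reach (mem_orbit hi h64)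
  obtain ⟨c, hc, hcb, hce⟩ := exists_lift O g
  have hmove : ψ ((g : Co0) • eTop) = QuotientGroup.mk q := by
    have hsp : cl ((g : Co0) • tv tab top) =
        cl (tv tab (T.img g ⟨top, top_chk.2.2⟩ : ℕ)) := T.img_spec g ⟨top, top_chk.2.2⟩
    rw [← hvq, psi_eq_iff M, hvi, cl_smul_congr _ top_cl.symm, hsp, hgi]
  have h1 := M.iso.2.2.2 ⟨c, hc⟩ (g : Co0) hce eTop s hψs
  rw [hmove] at h1
  have hcz := Subgroup.mem_centralizer_singleton_iff.1 hc
  have hq' : c * up s * c⁻¹ = up q ∨ c * up s * c⁻¹ = z * up q := by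
    have hd := QuotientGroup.eq.1 h1
    rcases M.center_cases hd with h | h
    · left
      exact (inv_mul_eq_one.1 (show (up q)⁻¹ * (c * up s * c⁻¹) = 1 from h)).symm
    · right
      rw [← M.xcent.comm _ (M.mem_QG q)]
      exact inv_mul_eq_iff_eq_mul.1 (show (up q)⁻¹ * (c * up s * c⁻¹) = z from h)
  have hgb : g0 * b = b * g0 :=
    (Subgroup.mem_centralizer_iff.1 hg0 b (hB ▸ Subgroup.mem_zpowers b)).symm
  rcases hq' with h | h
  · refine ⟨c * g0, hcent _ (by rw [mul_assoc, hgb, ← mul_assoc, ← hcb, mul_assoc]), ?_⟩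
    rw [show c * g0 * z * (c * g0)⁻¹ = c * (g0 * z * g0⁻¹) * c⁻¹ by group, hg0e, h]
  · obtain ⟨y, hy, hyq⟩ : ∃ y ∈ CQ M b, y * up q ≠ up q * y := by
      by_contra hno
      push Not at hno
      rcases O.center_CQ M hq hno with h' | h'
      · exact M.xcent.ne_one (isConj_one_left.1 (h' ▸ hqz))
      · exact hqne h'
    have hyq' : y * up q * y⁻¹ = z * up q := (M.xcent.commEl _ hy.1 _ (M.mem_QG q)).resolve_left
      fun h' => hyq (mul_inv_eq_iff_eq_mul.1 h')
    have hyz : y * z = z * y := M.xcent.comm y hy.1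
    have hyb : y * b = b * y := Subgroup.mem_centralizer_singleton_iff.1 hy.2
    refine ⟨y * (c * g0), hcent _ ?_, ?_⟩
    · rw [mul_assoc, mul_assoc c, hgb, ← mul_assoc c, ← hcb, mul_assoc b, ← mul_assoc, hyb,
        mul_assoc]
    · rw [show y * (c * g0) * z * (y * (c * g0))⁻¹ = y * (c * (g0 * z * g0⁻¹) * c⁻¹) * y⁻¹ by group,
        hg0e, h, show y * (z * up q) * y⁻¹ = (y * z) * up q * y⁻¹ by group, hyz,
        show z * y * up q * y⁻¹ = z * (y * up q * y⁻¹) by group, hyq', ← mul_assoc, M.xcent.inv,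
        one_mul]

/-- The main theorem. -/
theorem large_fischer_type (M₀ : MonsterFrame z Q e ψ) {s : Q} (hs : IsConj z (up s))
    (hne : up s ≠ z) (B : Subgroup G) (hB : B ≤ Subgroup.centralizer ({z, up s} : Set G))
    (hB3 : Nat.card B = 3) (P : Sylow 3 ↥(Subgroup.centralizer ({z, up s} : Set G)))
    (hc : B.subgroupOf (Subgroup.centralizer ({z, up s} : Set G)) ≤
      (Subgroup.center ↥(P : Subgroup ↥(Subgroup.centralizer ({z, up s} : Set G)))).map
        (P : Subgroup ↥(Subgroup.centralizer ({z, up s} : Set G))).subtype)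
    [(B.subgroupOf (Subgroup.centralizer (B : Set G))).Normal] :
    IsOfLargeFischerType (↥(Subgroup.centralizer (B : Set G)) ⧸
      B.subgroupOf (Subgroup.centralizer (B : Set G))) := by
  classical
  haveI : Fact (Nat.Prime 3) := ⟨Nat.prime_three⟩
  obtain ⟨e', ψ', M, b, hψs, hBb, O, hBeq⟩ := exists_over_central M₀ hs hne rfl hB hB3 P hc
  have hbB : b ∈ B := hBb ▸ Subgroup.mem_zpowers b
  have hbz : b * z = z * b := (Subgroup.mem_centralizer_iff.1 (hB hbB) z (by simp)).symm
  have hbs : b * up s = up s * b :=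
    (Subgroup.mem_centralizer_iff.1 (hB hbB) (up s) (by simp)).symm
  have hsC : up s ∈ CQ M b := ⟨M.mem_QG s, Subgroup.mem_centralizer_singleton_iff.2 hbs.symm⟩
  have hsyl : ∀ g : G, g * z * g⁻¹ = up s → g * up s * g⁻¹ = z → ∃ l : G, l * z = z * l ∧
      l * up s = up s * l ∧ l * (g * b * g⁻¹) * l⁻¹ ∈ Subgroup.zpowers b := by
    intro g hg1 hg2
    have hmapL : (Subgroup.centralizer ({z, up s} : Set G)).map (MulAut.conj g).toMonoidHom = (Subgroup.centralizer ({z, up s} : Set G)) := by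
      ext x
      simp only [Subgroup.mem_map, Subgroup.mem_centralizer_iff, Set.mem_insert_iff,
        Set.mem_singleton_iff, forall_eq_or_imp, forall_eq, MulEquiv.coe_toMonoidHom,
        MulAut.conj_apply]
      constructor
      · rintro ⟨y, ⟨hy1, hy2⟩, rfl⟩
        constructor
        · calc z * (g * y * g⁻¹) = (g * up s * g⁻¹) * (g * y * g⁻¹) := by rw [hg2]
            _ = g * (up s * y) * g⁻¹ := by group
            _ = g * (y * up s) * g⁻¹ := by rw [hy2]
            _ = (g * y * g⁻¹) * (g * up s * g⁻¹) := by group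
            _ = _ := by rw [hg2]
        · calc up s * (g * y * g⁻¹) = (g * z * g⁻¹) * (g * y * g⁻¹) := by rw [hg1]
            _ = g * (z * y) * g⁻¹ := by group
            _ = g * (y * z) * g⁻¹ := by rw [hy1]
            _ = (g * y * g⁻¹) * (g * z * g⁻¹) := by group
            _ = _ := by rw [hg1]
      · rintro ⟨hx1, hx2⟩
        refine ⟨g⁻¹ * x * g, ⟨?_, ?_⟩, by group⟩
        · calc z * (g⁻¹ * x * g) = g⁻¹ * ((g * z * g⁻¹) * x) * g := by group
            _ = g⁻¹ * (x * (g * z * g⁻¹)) * g := by rw [hg1, hx2]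
            _ = _ := by group
        · calc up s * (g⁻¹ * x * g) = g⁻¹ * ((g * up s * g⁻¹) * x) * g := by group
            _ = g⁻¹ * (x * (g * up s * g⁻¹)) * g := by rw [hg2, hx1]
            _ = _ := by group
    let ψL : (Subgroup.centralizer ({z, up s} : Set G)) ≃* (Subgroup.centralizer ({z, up s} : Set G)) := ((Subgroup.centralizer ({z, up s} : Set G)).equivMapOfInjective _ (MulAut.conj g).injective).trans
      (MulEquiv.subgroupCongr hmapL)
    have hψL : ∀ a : (Subgroup.centralizer ({z, up s} : Set G)), (ψL a : G) = g * a * g⁻¹ := fun a => rfl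
    set P' : Sylow 3 (Subgroup.centralizer ({z, up s} : Set G)) := P.mapSurjective (f := ψL.toMonoidHom) ψL.surjective
    obtain ⟨l, hl⟩ := MulAction.exists_smul_eq (Subgroup.centralizer ({z, up s} : Set G)) P' P
    have hbL : b ∈ (Subgroup.centralizer ({z, up s} : Set G)) := hB hbB
    refine ⟨l, (Subgroup.mem_centralizer_iff.1 l.2 z (by simp)).symm,
      (Subgroup.mem_centralizer_iff.1 l.2 (up s) (by simp)).symm, ?_⟩
    have hbmem : (⟨b, hbL⟩ : (Subgroup.centralizer ({z, up s} : Set G))) ∈ B.subgroupOf (Subgroup.centralizer ({z, up s} : Set G)) := hbB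
    rw [hBeq] at hbmem
    obtain ⟨p, hp, hpb⟩ := hbmem
    have hmemP : ∀ w : (Subgroup.centralizer ({z, up s} : Set G)), w ∈ (P : Subgroup (Subgroup.centralizer ({z, up s} : Set G))) ↔ ∃ y ∈ (P : Subgroup (Subgroup.centralizer ({z, up s} : Set G))), l * ψL y * l⁻¹ = w := by
      intro w
      have h := congrArg (fun R : Sylow 3 (Subgroup.centralizer ({z, up s} : Set G)) => (R : Subgroup (Subgroup.centralizer ({z, up s} : Set G)))) hl
      simp only [Sylow.coe_subgroup_smul] at h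
      conv_lhs => rw [← h]
      constructor
      · rintro ⟨_, ⟨y, hy, rfl⟩, rfl⟩
        exact ⟨y, hy, rfl⟩
      · rintro ⟨y, hy, rfl⟩
        exact ⟨_, ⟨y, hy, rfl⟩, rfl⟩
    set w : (Subgroup.centralizer ({z, up s} : Set G)) := l * ψL ⟨b, hbL⟩ * l⁻¹ with hw
    have hpb' : (p : (Subgroup.centralizer ({z, up s} : Set G))) = ⟨b, hbL⟩ := hpb
    have hwP : w ∈ (P : Subgroup (Subgroup.centralizer ({z, up s} : Set G))) := (hmemP w).2 ⟨_, hpb' ▸ p.2, rfl⟩
    have hwc : (⟨w, hwP⟩ : (P : Subgroup (Subgroup.centralizer ({z, up s} : Set G)))) ∈ Subgroup.center (P : Subgroup (Subgroup.centralizer ({z, up s} : Set G))) := by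
      rw [Subgroup.mem_center_iff]
      rintro ⟨x, hx⟩
      obtain ⟨y, hy, rfl⟩ := (hmemP x).1 hx
      refine Subtype.ext ?_
      show l * ψL y * l⁻¹ * w = w * (l * ψL y * l⁻¹)
      have hcm : y * (p : (Subgroup.centralizer ({z, up s} : Set G))) = (p : (Subgroup.centralizer ({z, up s} : Set G))) * y :=
        congrArg Subtype.val (Subgroup.mem_center_iff.1 hp ⟨y, hy⟩)
      rw [hw, ← hpb']
      calc l * ψL y * l⁻¹ * (l * ψL (p : (Subgroup.centralizer ({z, up s} : Set G))) * l⁻¹) = l * (ψL y * ψL (p : (Subgroup.centralizer ({z, up s} : Set G)))) * l⁻¹ := by group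
        _ = l * (ψL (p : (Subgroup.centralizer ({z, up s} : Set G))) * ψL y) * l⁻¹ := by rw [← map_mul, hcm, map_mul]
        _ = _ := by group
    have hwB : w ∈ B.subgroupOf (Subgroup.centralizer ({z, up s} : Set G)) := hBeq ▸ ⟨⟨w, hwP⟩, hwc, rfl⟩
    rw [← hBb]
    exact hwB
  have h0 : ∃ g ∈ Subgroup.centralizer (B : Set G), g * z * g⁻¹ = up s := by
    rw [hBb]
    exact exists_conj_centralizer Nat.prime_three O.ord (exists_swap M hs hne) hbz hbs hsyl
      fun k hk => haut O k hk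
  have hHcard : 19595520 = Nat.card HG := card_spec.1.symm
  obtain ⟨z', R, hR, hset, ⟨θ⟩, -⟩ := O.local_type (w := 6) T (by norm_num) (by norm_num) hBb toH
    toH_surjective
    (ker_of_card Nat.prime_three (by decide) orderOf_bh toH toH_surjective
      (toH_eq_one.2 T.act_self) (toH_eq_one.2 T.act_neg)
      (le_trans card_CB_le (by rw [← hHcard])))
    (fun g hg => toH_eq_one.2 (T.act_eq_one hg))
    (fun K hKn hK => haveI := hKn; no_two_normal K hK)
    (fun q hq hqz hqne => conj_inside O hBb hsC hne hψs h0 q hq hqz hqne)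
    ⟨top, top_chk.2.2, by rw [tab_getD top_chk.2.2]; exact top_chk.2.1⟩
  haveI := hR
  refine ⟨z', R, hR, hset, ?_⟩
  let π := θ.toMonoidHom.comp (QuotientGroup.mk' R)
  have hπs : Function.Surjective π := θ.surjective.comp (QuotientGroup.mk'_surjective R)
  have hπker : π.ker = R := by
    ext x
    simp [π]
  refine ⟨NN.comap π, MM.comap π, inferInstance, inferInstance, ?_, Subgroup.comap_mono inf_le_right,
    ?_, ?_, ?_⟩
  · rw [← hπker]
    exact Subgroup.ker_le_comap π NN
  · have h1 := Subgroup.card_mul_index (NN.comap π)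
    rw [Subgroup.index_comap_of_surjective NN hπs] at h1
    have h2 := Subgroup.card_mul_index NN
    have h3 := Subgroup.card_mul_index R
    have h4 : R.index = Nat.card HG := by
      rw [Subgroup.index_eq_card]; exact Nat.card_congr θ.toEquiv
    rw [h4, ← h2, card_spec.2.1] at h3
    refine Nat.eq_of_mul_eq_mul_right (Nat.pos_of_ne_zero (Subgroup.index_ne_zero_of_finite (H := NN))) ?_
    rw [h1, ← h3]; ring
  · obtain ⟨K, i1, i2, hK, ⟨eK⟩⟩ := structure_HG
    refine ⟨K, i1, i2, hK, ⟨?_⟩⟩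
    let f : ↥(MM.comap π) →* MM :=
      (π.comp (MM.comap π).subtype).codRestrict MM fun x => x.2
    have hf : Function.Surjective f := by
      rintro ⟨y, hy⟩
      obtain ⟨x, rfl⟩ := hπs y
      exact ⟨⟨x, hy⟩, rfl⟩
    let g := (QuotientGroup.mk' (NN.subgroupOf MM)).comp f
    have hg : Function.Surjective g := (QuotientGroup.mk'_surjective _).comp hf
    have hk : (NN.comap π).subgroupOf (MM.comap π) = g.ker := by
      ext x
      simp only [g, MonoidHom.mem_ker, MonoidHom.comp_apply, QuotientGroup.mk'_apply,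
        QuotientGroup.eq_one_iff, Subgroup.mem_subgroupOf, Subgroup.mem_comap]
      rfl
    exact ((QuotientGroup.quotientMulEquivOfEq hk).trans
      (QuotientGroup.quotientKerEquivOfSurjective g hg)).trans eK
  · rw [Subgroup.index_comap_of_surjective MM hπs, index_MM]

end CfsgLib.Spor.Loc.Central3
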