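import Cfsg.Agent.Lib.Spor.Co1Out.Central
import Cfsg.Agent.Lib.Spor.LeechCross

/-!
Certified tables of the classes modulo two fixed by an automorphism of odd order.
-/

set_option autoImplicit false

namespace CfsgLib.Spor.Loc

open Cfsg
open CfsgLib.Spor.Co1Out (inLeechB_of_mem)

/-- the class modulo two -/
def cl : leechLattice →+ ModTwo := QuotientAddGroup.mk' twiceSub

theorem cl_eq_iff {v w : leechLattice} : cl v = cl w ↔ ∃ u : leechLattice, v = w + (u + u) := by
  rw [show (cl v = cl w) ↔ (QuotientAddGroup.mk v : ModTwo) = QuotientAddGroup.mk w from Iff.rfl,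
    mk_eq_iff]
  constructor
  · rintro ⟨u, hu, h⟩
    refine ⟨⟨u, hu⟩, Subtype.ext ?_⟩
    simp only [AddSubgroup.coe_add]
    rw [← two_nsmul, ← h]; abel
  · rintro ⟨u, rfl⟩
    refine ⟨u, u.2, ?_⟩
    simp only [AddSubgroup.coe_add, two_nsmul]
    abel

theorem cl_two (u : leechLattice) : cl u + cl u = 0 := by
  rw [← map_add, ← map_zero cl, cl_eq_iff]
  exact ⟨u, (zero_add _).symm⟩

theorem cl_smul_congr (g : Co0) {v w : leechLattice} (h : cl v = cl w) :
    cl (g • v) = cl (g • w) := by
  obtain ⟨u, rfl⟩ := cl_eq_iff.1 h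
  rw [coe_smul_add, coe_smul_add]
  exact cl_eq_iff.2 ⟨g • u, rfl⟩

/-- the vector with given coordinates, when it lies in the lattice -/
def toL (l : List ℤ) : leechLattice :=
  if h : inLeechB (lOf (vOf l)) = true then ⟨vOf l, mem_leech_of_inLeechB h⟩ else 0

theorem lOf_vOf {l : List ℤ} (hl : l.length = 24) : lOf (vOf l) = l := by
  refine List.ext_getElem (by simp [lOf, hl]) fun i h1 h2 => ?_
  have hi : i < 24 := by simpa [lOf] using h1
  simp [lOf, vOf, idx_pt hi, List.getD_eq_getElem?_getD, List.getElem?_eq_getElem h2]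

/-- a well-formed list of coordinates of a lattice vector -/
def goodB (l : List ℤ) : Bool := Nat.beq l.length 24 && inLeechB l

theorem lOf_toL {l : List ℤ} (h : goodB l = true) :
    lOf ((toL l : leechLattice) : GolayPt → ℤ) = l := by
  simp only [goodB, Bool.and_eq_true, Nat.beq_eq] at h
  rw [toL, dif_pos (by rw [lOf_vOf h.1]; exact h.2)]
  exact lOf_vOf h.1

theorem lOf_getD' (x : GolayPt → ℤ) (p : GolayPt) : (lOf x).getD (idx p) 0 = x p := by
  rw [lOf_getD x (idx_lt p), pt_idx]

/-- the mask of the coordinates congruent to `m + 2` modulo four -/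
def maskL (m : ℤ) : List ℤ → ℕ
  | [] => 0
  | x :: r => (if (x - m) % 4 = 2 then 1 else 0) + 2 * maskL m r

/-- membership in the lattice, by one pass over the coordinates -/
def fastL (l : List ℤ) : Bool :=
  (l.all fun x => decide (x % 2 = l.getD 0 0 % 2)) &&
    inCode (maskL (l.getD 0 0 % 2) l) &&
    decide (l.sum % 8 = 4 * (l.getD 0 0 % 2) % 8)

theorem maskL_testBit (m : ℤ) : ∀ (l : List ℤ) (i : ℕ),
    (maskL m l).testBit i = decide (i < l.length ∧ (l.getD i 0 - m) % 4 = 2)
  | [], i => by simp [maskL]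
  | x :: r, i => by
    have hb : (if (x - m) % 4 = 2 then 1 else 0 : ℕ) < 2 := by split <;> omega
    cases i with
    | zero =>
      rw [Nat.testBit_zero]
      by_cases h : (x - m) % 4 = 2 <;> simp [maskL, h]
    | succ k =>
      rw [Nat.testBit_succ, show maskL m (x :: r) / 2 = maskL m r by simp only [maskL]; omega,
        maskL_testBit m r k]
      simp

theorem inLeechB_of_fastL {l : List ℤ} (hl : l.length = 24) (h : fastL l = true) :
    inLeechB l = true := by
  simp only [fastL, Bool.and_eq_true, List.all_eq_true, decide_eq_true_eq] at h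
  obtain ⟨⟨h1, h2⟩, h3⟩ := h
  have hget : ∀ i < 24, l.getD i 0 ∈ l := fun i hi => by
    rw [List.getD_eq_getElem l 0 (hl ▸ hi)]; exact List.getElem_mem _
  simp only [inLeechB, Bool.and_eq_true, List.all_eq_true, List.mem_range, decide_eq_true_eq]
  refine ⟨⟨fun i hi => h1 _ (hget i hi), ?_⟩, ?_⟩
  · convert h2 using 2
    refine Nat.eq_of_testBit_eq fun i => ?_
    rw [maskL_testBit, hl]
    by_cases hi : i < 24
    · rw [Nat.testBit_ofBits_lt _ _ hi]
      simp [hi]
    · rw [Nat.testBit_ofBits_ge _ _ (by omega)]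
      simp [hi]
  · have e : (List.range 24).map (fun i => l.getD i 0) = l :=
      List.ext_getElem (by simp [hl]) fun i h1' h2' => by
        rw [List.getElem_map, List.getElem_range, List.getD_eq_getElem l 0 h2']
    rw [e]
    exact h3

/-- congruence modulo twice the lattice, on coordinates -/
def congB (u v : List ℤ) : Bool :=
  (((List.range 24).map fun i => u.getD i 0 - v.getD i 0).all fun x => decide (x % 2 = 0)) &&
    fastL (((List.range 24).map fun i => u.getD i 0 - v.getD i 0).map fun x => x / 2)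

theorem cl_of_congB {v w : leechLattice}
    (h : congB (lOf (v : GolayPt → ℤ)) (lOf (w : GolayPt → ℤ)) = true) : cl v = cl w := by
  simp only [congB, Bool.and_eq_true, List.all_eq_true, List.mem_map, List.mem_range,
    decide_eq_true_eq, forall_exists_index, and_imp, forall_apply_eq_imp_iff₂] at h
  obtain ⟨h1, h2⟩ := h
  let d : GolayPt → ℤ := fun p => ((v : GolayPt → ℤ) p - (w : GolayPt → ℤ) p) / 2
  have hd : inLeechB (lOf d) = true := by
    refine inLeechB_of_fastL (by simp [lOf]) ?_
    convert h2 using 2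
    rw [lOf, List.map_map]
    refine List.map_congr_left fun i hi => ?_
    have hi' := List.mem_range.1 hi
    rw [Function.comp_apply, lOf_getD _ hi', lOf_getD _ hi']
  refine cl_eq_iff.2 ⟨⟨d, mem_leech_of_inLeechB hd⟩, Subtype.ext (funext fun p => ?_)⟩
  simp only [AddSubgroup.coe_add, Pi.add_apply, d]
  have : ((lOf (v : GolayPt → ℤ)).getD (idx p) 0 - (lOf (w : GolayPt → ℤ)).getD (idx p) 0) % 2 = 0 :=
    h1 (idx p) (idx_lt p)
  rw [lOf_getD', lOf_getD'] at this
  omega

/-- coordinatewise sum of a list of lists -/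
def addL (u v : List ℤ) : List ℤ := (List.range 24).map fun i => u.getD i 0 + v.getD i 0

theorem lOf_add (x y : GolayPt → ℤ) : lOf (x + y) = addL (lOf x) (lOf y) := by
  rw [addL, lOf]
  refine List.map_congr_left fun i hi => ?_
  have hi' := List.mem_range.1 hi
  rw [lOf_getD _ hi', lOf_getD _ hi']
  rfl

/-- the squared norm of a list -/
def normL (l : List ℤ) : ℤ := ((List.range 24).map fun i => l.getD i 0 ^ 2).sum

theorem sqNorm_lOf (x : GolayPt → ℤ) : sqNorm x = normL (lOf x) := by
  rw [sqNorm, normL, sum_pt]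
  exact congrArg List.sum (List.map_congr_left fun i hi => by rw [lOf_getD _ (List.mem_range.1 hi)])

/-! ### Generators of the lattice -/

/-- the odd vector -/
def gOdd : List ℤ := (List.range 24).map fun i => if Nat.beq i 23 then -3 else 1

/-- twice a word -/
def gWord (m : ℕ) : List ℤ := (List.range 24).map fun i => if m.testBit i then 2 else 0

/-- four times the sum of two coordinate vectors -/
def gPair (j : ℕ) : List ℤ := (List.range 24).map fun i =>
  (if Nat.beq i j then 4 else 0) + if Nat.beq i 23 then 4 else 0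

/-- a finite generating list -/
def latGens : List (List ℤ) :=
  gOdd :: (golayBasis.map gWord ++ (List.range 24).map gPair)

theorem latGens_good : latGens.all goodB = true := by decide +kernel

theorem gPair_mem (j : Fin 24) : gPair j ∈ latGens := by
  simp only [latGens, List.mem_cons, List.mem_append, List.mem_map, List.mem_range]
  exact Or.inr (Or.inr ⟨j, j.2, rfl⟩)

theorem getD_toL {l : List ℤ} (h : goodB l = true) (p : GolayPt) :
    ((toL l : leechLattice) : GolayPt → ℤ) p = l.getD (idx p) 0 := by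
  rw [← lOf_getD' ((toL l : leechLattice) : GolayPt → ℤ) p, lOf_toL h]

/-- twice a word of the code, as a lattice vector -/
def wordV (m : ℕ) (h : m ∈ codeList) : leechLattice :=
  ⟨lvec 0 (word m) 0, mem_leechLattice.2 ⟨0, word m, 0, word_mem_of_mem_codeList h, rfl, by simp⟩⟩

theorem wordV_apply (m : ℕ) (h : m ∈ codeList) (p : GolayPt) :
    ((wordV m h : leechLattice) : GolayPt → ℤ) p = if m.testBit (idx p) then 2 else 0 := by
  show lvec 0 (word m) 0 p = _
  simp only [lvec, word, Pi.zero_apply, mul_zero, add_zero, zero_add]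
  cases m.testBit (idx p) <;> simp [bitZ] <;> rfl

theorem sum_eight {v : leechLattice} (h : ∀ p, (2 : ℤ) ∣ (v : GolayPt → ℤ) p) :
    (8 : ℤ) ∣ ∑ p, (v : GolayPt → ℤ) p := by
  have hb := inLeechB_of_mem v.2
  simp only [inLeechB, Bool.and_eq_true, decide_eq_true_eq] at hb
  have h0 := h (pt 0)
  rw [lOf_getD _ (by norm_num : (0 : ℕ) < 24)] at hb
  have e : ((List.range 24).map fun i => (lOf (v : GolayPt → ℤ)).getD i 0).sum =
      ∑ p, (v : GolayPt → ℤ) p := by
    rw [sum_pt]
    exact congrArg List.sum (List.map_congr_left fun i hi => lOf_getD _ (List.mem_range.1 hi))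
  rw [e] at hb
  omega

theorem four_mem {v : leechLattice} (h : ∀ p, (4 : ℤ) ∣ (v : GolayPt → ℤ) p) :
    v ∈ AddSubgroup.closure {u : leechLattice | lOf (u : GolayPt → ℤ) ∈ latGens} := by
  classical
  have hgood := List.all_eq_true.1 latGens_good
  have hg : ∀ j : Fin 24, toL (gPair j) ∈
      AddSubgroup.closure {u : leechLattice | lOf (u : GolayPt → ℤ) ∈ latGens} := fun j =>
    AddSubgroup.subset_closure (show lOf _ ∈ latGens by
      rw [lOf_toL (hgood _ (gPair_mem j))]; exact gPair_mem j)
  obtain ⟨t, ht⟩ := sum_eight (v := v) fun p => dvd_trans (by norm_num) (h p)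
  let y : Fin 24 → ℤ := fun j => (v : GolayPt → ℤ) (pt j) / 4
  have hw : (∑ j, y j • toL (gPair j)) - t • toL (gPair (23 : Fin 24)) ∈
      AddSubgroup.closure {u : leechLattice | lOf (u : GolayPt → ℤ) ∈ latGens} :=
    sub_mem (sum_mem fun j _ => zsmul_mem (hg j) _) (zsmul_mem (hg 23) _)
  convert hw
  refine Subtype.ext (funext fun p => ?_)
  obtain ⟨i, hi, rfl⟩ : ∃ i, i < 24 ∧ pt i = p := ⟨idx p, idx_lt p, pt_idx p⟩
  have hv : ∀ j : Fin 24, ((toL (gPair j) : leechLattice) : GolayPt → ℤ) (pt i) =
      (if i = (j : ℕ) then 4 else 0) + if i = 23 then 4 else 0 := fun j => by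
    rw [getD_toL (hgood _ (gPair_mem j)), idx_pt hi]
    simp [gPair, List.getD_eq_getElem?_getD, List.getElem?_map, List.getElem?_range hi]
  simp only [AddSubgroup.coe_sub, AddSubgroup.val_finsetSum, AddSubgroup.coe_zsmul,
    Pi.sub_apply, Finset.sum_apply, Pi.smul_apply, smul_eq_mul, hv, mul_add,
    Finset.sum_add_distrib, ← Finset.sum_mul]
  rw [Finset.sum_eq_single (⟨i, hi⟩ : Fin 24) (fun j _ hj => by
    rw [if_neg (fun e => hj (Fin.ext e.symm)), mul_zero]) (by simp)]
  have hs : 4 * ∑ j, y j = 8 * t := by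
    have e : ∑ j : Fin 24, 4 * y j = ((List.range 24).map fun j => (v : GolayPt → ℤ) (pt j)).sum := by
      rw [Fin.sum_univ_eq_sum_range (fun j => 4 * ((v : GolayPt → ℤ) (pt j) / 4))]
      refine Eq.trans rfl (congrArg List.sum (List.map_congr_left fun j _ => ?_))
      have := h (pt j); omega
    rw [Finset.mul_sum, e, ← sum_pt, ht]
  have := h (pt i)
  by_cases h23 : i = 23
  · subst h23
    simp only [y] at hs ⊢
    simp
    omega
  · simp [y, h23]
    omega

theorem gens_closure :
    AddSubgroup.closure {v : leechLattice | lOf (v : GolayPt → ℤ) ∈ latGens} = ⊤ := by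
  classical
  set S := AddSubgroup.closure {v : leechLattice | lOf (v : GolayPt → ℤ) ∈ latGens}
  have hgood := List.all_eq_true.1 latGens_good
  have hmem : ∀ l ∈ latGens, toL l ∈ S := fun l hl =>
    AddSubgroup.subset_closure (show lOf _ ∈ latGens by rw [lOf_toL (hgood l hl)]; exact hl)
  have hcode : ∀ m ∈ codeList, ∃ h : m ∈ codeList, wordV m h ∈ S := by
    refine spanList_induction (P := fun m => ∃ h : m ∈ codeList, wordV m h ∈ S) ?_ ?_ ?_
    · exact ⟨by decide +kernel, four_mem fun p => by rw [wordV_apply]; simp⟩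
    · intro b hb
      have hb' : b ∈ codeList :=
        of_decide_eq_true (List.all_eq_true.1
          (show (golayBasis.reverse.all fun b => decide (b ∈ codeList)) = true by decide +kernel) b hb)
      have hl : gWord b ∈ latGens := by
        simp only [latGens, List.mem_cons, List.mem_append, List.mem_map]
        exact Or.inr (Or.inl ⟨b, by simpa using hb, rfl⟩)
      refine ⟨hb', ?_⟩
      convert hmem _ hl
      refine Subtype.ext (funext fun p => ?_)
      rw [wordV_apply, getD_toL (hgood _ hl)]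
      simp [gWord, List.getD_eq_getElem?_getD, List.getElem?_map, List.getElem?_range (idx_lt p)]
    · rintro a b ⟨ha, ha'⟩ ⟨hb, hb'⟩
      have hab : a ^^^ b ∈ codeList := by
        rw [mem_codeList_iff] at ha hb ⊢
        exact ⟨Nat.xor_lt_two_pow ha.1 hb.1, inCode_xor ha.2 hb.2⟩
      refine ⟨hab, ?_⟩
      have hd : wordV _ hab - wordV a ha - wordV b hb ∈ S := four_mem fun p => by
        simp only [AddSubgroup.coe_sub, Pi.sub_apply, wordV_apply, Nat.testBit_xor]
        cases a.testBit (idx p) <;> cases b.testBit (idx p) <;> simp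
      have := add_mem (add_mem hd hb') ha'
      simpa using this
  rw [eq_top_iff]
  intro v _
  set m := (v : GolayPt → ℤ) (pt 0) % 2 with hm
  let v' : leechLattice := v - m • toL gOdd
  have hv' : v' ∈ S := by
    have hb := inLeechB_of_mem v'.2
    simp only [inLeechB, Bool.and_eq_true, decide_eq_true_eq, List.all_eq_true, List.mem_range] at hb
    have hodd : ∀ p, ((toL gOdd : leechLattice) : GolayPt → ℤ) p % 2 = 1 := fun p => by
      rw [getD_toL (hgood _ (by simp [latGens]))]
      revert p; decide +kernel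
    have h0 : (lOf (v' : GolayPt → ℤ)).getD 0 0 % 2 = 0 := by
      rw [lOf_getD _ (by norm_num : (0 : ℕ) < 24)]
      simp only [v', AddSubgroup.coe_sub, AddSubgroup.coe_zsmul, Pi.sub_apply, Pi.smul_apply,
        smul_eq_mul]
      have := hodd (pt 0)
      rcases Int.emod_two_eq ((v : GolayPt → ℤ) (pt 0)) with h | h <;> rw [← hm] at h <;>
        rw [h] <;> omega
    rw [h0] at hb
    set k := Nat.ofBits fun i : Fin 24 => decide (((lOf (v' : GolayPt → ℤ)).getD i 0 - 0) % 4 = 2)
      with hk
    have hkc : k ∈ codeList := mem_codeList_iff.2 ⟨Nat.ofBits_lt_two_pow _, hb.1.2⟩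
    obtain ⟨hkc', hkS⟩ := hcode k hkc
    have hd : v' - wordV k hkc' ∈ S := four_mem fun p => by
      simp only [AddSubgroup.coe_sub, Pi.sub_apply, wordV_apply]
      have e : k.testBit (idx p) = decide ((v' : GolayPt → ℤ) p % 4 = 2) := by
        rw [hk, Nat.testBit_ofBits_lt _ _ (idx_lt p)]
        simp only [sub_zero, lOf_getD']
      have := hb.1.1 (idx p) (idx_lt p)
      rw [lOf_getD'] at this
      rw [e]
      by_cases h2 : (v' : GolayPt → ℤ) p % 4 = 2 <;> simp [h2] <;> omega
    simpa using add_mem hd hkS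
  simpa [v'] using add_mem hv' (zsmul_mem (hmem gOdd (by simp [latGens])) m)

/-! ### Fixed classes -/

/-- the sum of the images of a vector under the first `n` powers -/
def trV (g : Co0) : ℕ → leechLattice → leechLattice
  | 0, _ => 0
  | n + 1, v => v + trV g n (g • v)

theorem trV_add (g : Co0) : ∀ (n : ℕ) (v w : leechLattice),
    trV g n (v + w) = trV g n v + trV g n w
  | 0, _, _ => (add_zero 0).symm
  | n + 1, v, w => by
    simp only [trV, coe_smul_add, trV_add g n]
    abel

theorem cl_trV (g : Co0) : ∀ (n : ℕ) (v : leechLattice), cl (g • v) = cl v →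
    cl (trV g n v) = n • cl v
  | 0, _, _ => by simp [trV]
  | n + 1, v, h => by
    rw [trV, map_add, cl_trV g n _ (cl_smul_congr g h), h, succ_nsmul']

theorem cl_trV_odd {g : Co0} {p : ℕ} (hp : Odd p) {v : leechLattice} (h : cl (g • v) = cl v) :
    cl (trV g p v) = cl v := by
  obtain ⟨k, rfl⟩ := hp
  rw [cl_trV g _ v h, succ_nsmul, mul_nsmul, two_nsmul, cl_two, nsmul_zero, zero_add]

/-- the trace on coordinates -/
def trL (P : List Stp) : ℕ → List ℤ → List ℤ
  | 0, _ => List.replicate 24 0
  | n + 1, l => addL l (trL P n (runP P l))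

theorem lOf_trV {g : Co0} {P : List Stp} (hg : ActsAs g (runP P)) : ∀ (n : ℕ) (v : leechLattice),
    lOf ((trV g n v : leechLattice) : GolayPt → ℤ) = trL P n (lOf (v : GolayPt → ℤ))
  | 0, _ => by
    show lOf (0 : GolayPt → ℤ) = List.replicate 24 0
    decide +kernel
  | n + 1, v => by
    rw [trV, trL, AddSubgroup.coe_add, lOf_add, lOf_trV hg n, hg]

/-- a table of the classes fixed by the automorphism of the program `P` -/
def tabOK (P : List Stp) (p r : ℕ) (tb : List (List ℤ)) (cov : List ℕ) : Bool :=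
  Nat.beq tb.length (2 ^ r) && tb.all goodB &&
    congB (tb.getD 0 []) (List.replicate 24 0) &&
    ((List.range r).all fun j => (List.range (2 ^ j)).all fun i =>
      congB (addL (tb.getD i []) (tb.getD (2 ^ j) [])) (tb.getD (i + 2 ^ j) [])) &&
    ((List.range r).all fun j => congB (runP P (tb.getD (2 ^ j) [])) (tb.getD (2 ^ j) [])) &&
    Nat.beq cov.length latGens.length &&
    ((latGens.zip cov).all fun e => Nat.blt e.2 (2 ^ r) &&
      congB (trL P p e.1) (tb.getD e.2 [])) &&
    ((List.range (2 ^ r)).all fun i => Nat.beq i 0 ||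
      ([32, 48, 64] : List ℤ).contains (normL (tb.getD i [])))

/-- the vector of an entry of a table -/
def tv (tb : List (List ℤ)) (i : ℕ) : leechLattice := toL (tb.getD i [])

/-- the classes of a table, as combinations of the basis entries -/
def lin (tb : List (List ℤ)) (r i : ℕ) : ModTwo :=
  ∑ j ∈ Finset.range r, if i.testBit j then cl (tv tb (2 ^ j)) else 0

theorem lin_xor (tb : List (List ℤ)) (r a b : ℕ) :
    lin tb r (a ^^^ b) = lin tb r a + lin tb r b := by
  rw [lin, lin, lin, ← Finset.sum_add_distrib]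
  refine Finset.sum_congr rfl fun j _ => ?_
  rw [Nat.testBit_xor]
  cases a.testBit j <;> cases b.testBit j <;> simp [cl_two]

/-- A checked table of the classes fixed by an automorphism of odd order. -/
structure Tab (g : Co0) (r : ℕ) (tb : List (List ℤ)) : Prop where
  entry : ∀ i < 2 ^ r, goodB (tb.getD i []) = true
  zero : cl (tv tb 0) = 0
  xor : ∀ a < 2 ^ r, ∀ b < 2 ^ r, cl (tv tb (a ^^^ b)) = cl (tv tb a) + cl (tv tb b)
  fixed : ∀ i < 2 ^ r, cl (g • tv tb i) = cl (tv tb i)
  cover : ∀ v : leechLattice, cl (g • v) = cl v → ∃ i < 2 ^ r, cl v = cl (tv tb i)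
  norm : ∀ i < 2 ^ r, i ≠ 0 → sqNorm ((tv tb i : leechLattice) : GolayPt → ℤ) = 32 ∨
    sqNorm ((tv tb i : leechLattice) : GolayPt → ℤ) = 48 ∨
    sqNorm ((tv tb i : leechLattice) : GolayPt → ℤ) = 64

theorem tab_of_ok {g : Co0} {P : List Stp} (hg : ActsAs g (runP P)) {p r : ℕ} (hp : Odd p)
    {tb : List (List ℤ)} {cov : List ℕ} (h : tabOK P p r tb cov = true) : Tab g r tb := by
  simp only [tabOK, Bool.and_eq_true, List.all_eq_true, Nat.beq_eq, List.mem_range,
    Bool.or_eq_true] at h
  obtain ⟨⟨⟨⟨⟨⟨⟨hlen, hgood⟩, h0⟩, hadd⟩, hfix⟩, hcl⟩, hcov⟩, hnorm⟩ := h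
  have hentry : ∀ i < 2 ^ r, goodB (tb.getD i []) = true := fun i hi => by
    rw [List.getD_eq_getElem tb [] (hlen ▸ hi)]
    exact hgood _ (List.getElem_mem _)
  have hl : ∀ i < 2 ^ r, lOf ((tv tb i : leechLattice) : GolayPt → ℤ) = tb.getD i [] :=
    fun i hi => lOf_toL (hentry i hi)
  have hz : cl (tv tb 0) = 0 := by
    rw [← map_zero cl]
    refine cl_of_congB ?_
    rw [hl 0 Nat.one_le_two_pow]
    convert h0 using 2
    show lOf (0 : GolayPt → ℤ) = _
    decide +kernel
  have hstep : ∀ j < r, ∀ i < 2 ^ j,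
      cl (tv tb (i + 2 ^ j)) = cl (tv tb i) + cl (tv tb (2 ^ j)) := by
    intro j hj i hi
    have hle : 2 ^ j * 2 ≤ 2 ^ r := by rw [← pow_succ]; exact Nat.pow_le_pow_right (by norm_num) hj
    rw [← map_add]
    refine (cl_of_congB ?_).symm
    rw [AddSubgroup.coe_add, lOf_add, hl i (by omega), hl _ (by omega), hl _ (by omega)]
    exact hadd j hj i hi
  have hlin : ∀ i < 2 ^ r, cl (tv tb i) = lin tb r i := by
    have key : ∀ n ≤ r, ∀ i < 2 ^ n, cl (tv tb i) =
        ∑ j ∈ Finset.range n, if i.testBit j then cl (tv tb (2 ^ j)) else 0 := by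
      intro n
      induction n with
      | zero => intro _ i hi; obtain rfl : i = 0 := by simpa using hi
                simpa using hz
      | succ n ih =>
        intro hn i hi
        rw [Finset.sum_range_succ]
        by_cases hb : i < 2 ^ n
        · rw [Nat.testBit_lt_two_pow hb, ih (by omega) i hb]
          simp
        · obtain ⟨k, rfl⟩ : ∃ k, i = k + 2 ^ n := ⟨i - 2 ^ n, by omega⟩
          have hk : k < 2 ^ n := by rw [pow_succ] at hi; omega
          rw [hstep n (by omega) k hk, ih (by omega) k hk, Nat.add_comm k,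
            Nat.testBit_two_pow_add_eq, Nat.testBit_lt_two_pow hk]
          simp only [Bool.not_false, if_true]
          congr 1
          refine Finset.sum_congr rfl fun j hj => ?_
          rw [Nat.testBit_two_pow_add_gt (Finset.mem_range.1 hj)]
    intro i hi
    exact (key r le_rfl i hi).trans rfl
  have hfb : ∀ i < 2 ^ r, cl (g • tv tb i) = cl (tv tb i) := by
    have key : ∀ n ≤ r, ∀ i < 2 ^ n, cl (g • tv tb i) = cl (tv tb i) := by
      intro n
      induction n with
      | zero =>
        intro _ i hi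
        obtain rfl : i = 0 := by simpa using hi
        have e : cl (g • tv tb 0) = cl (g • (0 : leechLattice)) :=
          cl_smul_congr g (by rw [hz, map_zero])
        rw [e, show g • (0 : leechLattice) = 0 from (co0Hom g).map_zero, hz, map_zero]
      | succ n ih =>
        intro hn i hi
        by_cases hb : i < 2 ^ n
        · exact ih (by omega) i hb
        · obtain ⟨k, rfl⟩ : ∃ k, i = k + 2 ^ n := ⟨i - 2 ^ n, by omega⟩
          have hk : k < 2 ^ n := by rw [pow_succ] at hi; omega
          have hle : 2 ^ n < 2 ^ r := Nat.pow_lt_pow_right (by norm_num) (by omega)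
          have e : cl (tv tb (k + 2 ^ n)) = cl (tv tb k + tv tb (2 ^ n)) := by
            rw [map_add, hstep n (by omega) k hk]
          rw [cl_smul_congr g e, coe_smul_add, map_add, ih (by omega) k hk, e, map_add]
          congr 1
          refine cl_of_congB ?_
          rw [hg, hl _ hle]
          exact hfix n (by omega)
    exact key r le_rfl
  refine ⟨hentry, hz, fun a ha b hb => ?_, hfb, fun v hv => ?_, fun i hi hi0 => ?_⟩
  · rw [hlin _ (Nat.xor_lt_two_pow ha hb), hlin a ha, hlin b hb, lin_xor]
  · rw [← cl_trV_odd hp hv]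
    have hv' : v ∈ AddSubgroup.closure
        {u : leechLattice | lOf (u : GolayPt → ℤ) ∈ latGens} := gens_closure ▸ trivial
    clear hv
    induction hv' using AddSubgroup.closure_induction with
    | mem u hu =>
      obtain ⟨k, hk, hke⟩ := List.getElem_of_mem hu
      have hkc : k < cov.length := by rw [hcl]; exact hk
      have := hcov (latGens[k], cov[k]) (by
        rw [List.mem_iff_getElem]
        exact ⟨k, by simp [hk, hkc], List.getElem_zip ..⟩)
      rw [Nat.blt_eq] at this
      refine ⟨cov[k], this.1, cl_of_congB ?_⟩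
      rw [lOf_trV hg, hl _ this.1, ← hke]
      exact this.2
    | zero =>
      refine ⟨0, Nat.one_le_two_pow, ?_⟩
      rw [hz]
      have := trV_add g p 0 0
      rw [add_zero] at this
      rw [left_eq_add.1 this, map_zero]
    | add x y _ _ hx hy =>
      obtain ⟨i, hi, hix⟩ := hx
      obtain ⟨j, hj, hjy⟩ := hy
      refine ⟨i ^^^ j, Nat.xor_lt_two_pow hi hj, ?_⟩
      rw [trV_add, map_add, hix, hjy, hlin i hi, hlin j hj,
        hlin _ (Nat.xor_lt_two_pow hi hj), lin_xor]
    | neg x _ hx =>
      obtain ⟨i, hi, hix⟩ := hx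
      refine ⟨i, hi, ?_⟩
      have := trV_add g p x (-x)
      rw [add_neg_cancel] at this
      have h0 : trV g p (0 : leechLattice) = 0 := by
        have := trV_add g p 0 0
        rw [add_zero] at this
        exact left_eq_add.1 this
      rw [h0] at this
      rw [eq_neg_of_add_eq_zero_right this.symm, map_neg, hix,
        neg_eq_of_add_eq_zero_left (cl_two _)]
  · rcases hnorm i hi with h | h
    · exact absurd h hi0
    · rw [sqNorm_lOf, hl i hi]
      simpa using h

theorem Tab.inj {g : Co0} {r : ℕ} {tb : List (List ℤ)} (T : Tab g r tb)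
    (hne : ∀ v : leechLattice, sqNorm (v : GolayPt → ℤ) = 32 ∨ sqNorm (v : GolayPt → ℤ) = 48 ∨
      sqNorm (v : GolayPt → ℤ) = 64 → cl v ≠ 0)
    {a b : ℕ} (ha : a < 2 ^ r) (hb : b < 2 ^ r) (h : cl (tv tb a) = cl (tv tb b)) : a = b := by
  by_contra hne'
  have h0 : a ^^^ b ≠ 0 := fun e => hne' (Nat.xor_eq_zero_iff.1 e)
  refine hne _ (T.norm _ (Nat.xor_lt_two_pow ha hb) h0) ?_
  rw [T.xor a ha b hb, h, cl_two]

theorem cl_ne_zero (v : leechLattice)
    (hv : sqNorm (v : GolayPt → ℤ) = 32 ∨ sqNorm (v : GolayPt → ℤ) = 48 ∨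
      sqNorm (v : GolayPt → ℤ) = 64) : cl v ≠ 0 := by
  intro h
  obtain ⟨u, hu⟩ := cl_eq_iff.1 (h.trans (map_zero cl).symm)
  rw [zero_add] at hu
  have e : sqNorm (v : GolayPt → ℤ) = 4 * sqNorm (u : GolayPt → ℤ) := by
    rw [hu, AddSubgroup.coe_add, ← two_nsmul, sqNorm_two_smul]
  by_cases hu0 : (u : GolayPt → ℤ) = 0
  · rw [e, hu0] at hv
    simp [sqNorm] at hv
  · have := min_norm u.2 hu0
    omega

end CfsgLib.Spor.Loc
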