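import Cfsg.Agent.Lib.Spor.Loc.CentralThreeData
import Cfsg.Agent.Lib.Spor.Loc.Fix

/-!
The checked table of the 4096 classes fixed by the 3-central element.
-/

set_option autoImplicit false
set_option maxRecDepth 100000
set_option maxHeartbeats 4000000

namespace CfsgLib.Spor.Loc.Central3

/-- a packed coordinate, shifted by eight -/
def cN (m j : ℕ) : ℕ := (m >>> (5 * j)) &&& 31

/-- unpack an entry -/
def dec (m : ℕ) : List ℤ := (List.range 24).map fun j => (cN m j : ℤ) - 8

/-- the packed entries -/
def entN (i : ℕ) : ℕ := (rows.getD (i / 64) []).getD (i % 64) 0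

/-- the entries -/
def ent (i : ℕ) : List ℤ := dec (entN i)

/-- the program of the element -/
def progB : List Stp := [.mono permAi 0]

/-- the table -/
def tab : List (List ℤ) := (List.range 4096).map ent

theorem tab_getD {i : ℕ} (hi : i < 2 ^ 12) : tab.getD i [] = ent i := by
  have h : i < tab.length := by simp [tab]; omega
  rw [List.getD_eq_getElem _ _ h]
  simp [tab]

/-! ### Membership on packed coordinates -/

/-- the halves of shifted doubled coordinates have equal parity -/
def parN (e : ℕ → ℕ) (p : ℕ) : ℕ → ℕ → Bool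
  | _, 0 => true
  | j, n + 1 => Nat.beq (e j % 2) 0 && Nat.beq (e j / 2 % 2) p && parN e p (j + 1) n

/-- the mask of the halves -/
def maskN (e : ℕ → ℕ) (p : ℕ) : ℕ → ℕ → ℕ
  | _, 0 => 0
  | j, n + 1 => (if Nat.beq (e j / 2 % 4) (p + 2) then 1 else 0) + 2 * maskN e p (j + 1) n

/-- the sum of the halves -/
def sumN (e : ℕ → ℕ) : ℕ → ℕ → ℕ
  | _, 0 => 0
  | j, n + 1 => e j / 2 + sumN e (j + 1) n

/-- the halved vector lies in the lattice -/
def halfOK (e : ℕ → ℕ) : Bool :=
  parN e (e 0 / 2 % 2) 0 24 && inCode (maskN e (e 0 / 2 % 2) 0 24) &&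
    Nat.beq (sumN e 0 24 % 8) (4 * (e 0 / 2 % 2) % 8)

/-- the half of a shifted coordinate -/
def hv (e : ℕ → ℕ) (j : ℕ) : ℤ := ((e j / 2 : ℕ) : ℤ) - 20

theorem parN_spec (e : ℕ → ℕ) (p : ℕ) : ∀ j n, parN e p j n = true →
    ∀ k, j ≤ k → k < j + n → e k % 2 = 0 ∧ e k / 2 % 2 = p
  | _, 0, _, _, h1, h2 => by omega
  | j, n + 1, h, k, h1, h2 => by
    simp only [parN, Bool.and_eq_true, Nat.beq_eq] at h
    rcases eq_or_lt_of_le h1 with rfl | h1'
    · exact h.1
    · exact parN_spec e p (j + 1) n h.2 k h1' (by omega)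

theorem maskL_hv (e : ℕ → ℕ) {p : ℕ} (hp : p < 2) : ∀ j n,
    maskL (p : ℤ) ((List.range' j n).map (hv e)) = maskN e p j n
  | _, 0 => rfl
  | j, n + 1 => by
    rw [List.range'_succ, List.map_cons, maskL, maskN, maskL_hv e hp (j + 1) n]
    congr 1
    have h : (hv e j - (p : ℤ)) % 4 = 2 ↔ e j / 2 % 4 = p + 2 := by unfold hv; omega
    by_cases hh : e j / 2 % 4 = p + 2
    · rw [if_pos (h.2 hh), if_pos (by rw [hh]; exact Nat.beq_refl _)]
    · rw [if_neg (mt h.1 hh), if_neg (by simpa [Nat.beq_eq] using hh)]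

theorem sum_hv (e : ℕ → ℕ) : ∀ j n,
    ((List.range' j n).map (hv e)).sum = (sumN e j n : ℤ) - 20 * n
  | _, 0 => rfl
  | j, n + 1 => by
    rw [List.range'_succ, List.map_cons, List.sum_cons, sum_hv e (j + 1) n, sumN, hv]
    push_cast
    ring

theorem fastL_of_halfOK {e : ℕ → ℕ} (h : halfOK e = true) :
    fastL ((List.range 24).map (hv e)) = true ∧ ∀ j < 24, e j % 2 = 0 := by
  simp only [halfOK, Bool.and_eq_true, Nat.beq_eq] at h
  obtain ⟨⟨h1, h2⟩, h3⟩ := h
  have hp : e 0 / 2 % 2 < 2 := Nat.mod_lt _ (by norm_num)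
  have hspec := fun j (hj : j < 24) => parN_spec e _ 0 24 h1 j (Nat.zero_le j) (by omega)
  refine ⟨?_, fun j hj => (hspec j hj).1⟩
  have h0 : ((List.range 24).map (hv e)).getD 0 0 % 2 = ((e 0 / 2 % 2 : ℕ) : ℤ) := by
    simp [List.getD_eq_getElem?_getD, hv]
    omega
  simp only [fastL, Bool.and_eq_true, List.all_eq_true, decide_eq_true_eq, h0]
  refine ⟨⟨fun x hx => ?_, ?_⟩, ?_⟩
  · obtain ⟨j, hj, rfl⟩ := List.mem_map.1 hx
    have := (hspec j (List.mem_range.1 hj)).2
    unfold hv
    omega
  · rw [List.range_eq_range', maskL_hv e hp]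
    exact h2
  · rw [List.range_eq_range', sum_hv]
    omega

theorem getD_dec (m : ℕ) {j : ℕ} (hj : j < 24) : (dec m).getD j 0 = (cN m j : ℤ) - 8 := by
  simp [dec, List.getD_eq_getElem?_getD, List.getElem?_range hj]

/-- the shifted coordinates of `u + v - w` -/
def eSum (U B W j : ℕ) : ℕ := cN U j + cN B j + 32 - cN W j

theorem congB_of_halfOK {U B W : ℕ} (h : halfOK (eSum U B W) = true) :
    congB (addL (dec U) (dec B)) (dec W) = true := by
  obtain ⟨h1, h2⟩ := fastL_of_halfOK h
  have hget : ∀ j < 24, (addL (dec U) (dec B)).getD j 0 - (dec W).getD j 0 =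
      (eSum U B W j : ℤ) - 40 := by
    intro j hj
    have e1 : (addL (dec U) (dec B)).getD j 0 = (dec U).getD j 0 + (dec B).getD j 0 := by
      simp [addL, List.getD_eq_getElem?_getD, List.getElem?_range hj]
    have hW : cN W j ≤ 31 := Nat.and_le_right
    rw [e1, getD_dec _ hj, getD_dec _ hj, getD_dec _ hj, eSum]
    omega
  simp only [congB, Bool.and_eq_true, List.all_eq_true, decide_eq_true_eq]
  refine ⟨fun x hx => ?_, ?_⟩
  · obtain ⟨j, hj, rfl⟩ := List.mem_map.1 hx
    have := h2 j (List.mem_range.1 hj)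
    rw [hget j (List.mem_range.1 hj)]
    omega
  · convert h1 using 2
    rw [List.map_map]
    refine List.map_congr_left fun j hj => ?_
    have := h2 j (List.mem_range.1 hj)
    rw [Function.comp_apply, hget j (List.mem_range.1 hj), hv]
    omega

theorem goodB_of_halfOK {U : ℕ} (h : halfOK (fun j => 2 * cN U j + 24) = true) :
    goodB (dec U) = true := by
  have hl : (dec U).length = 24 := by simp [dec]
  obtain ⟨h1, -⟩ := fastL_of_halfOK h
  simp only [goodB, hl, Nat.beq_refl, Bool.true_and]
  refine inLeechB_of_fastL hl ?_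
  convert h1 using 2
  refine List.map_congr_left fun j _ => ?_
  simp only [hv]
  omega

/-- the squared norm on packed coordinates -/
def normN (U : ℕ) : ℕ → ℕ → ℕ
  | _, 0 => 0
  | j, n + 1 => (cN U j - 8 + (8 - cN U j)) * (cN U j - 8 + (8 - cN U j)) + normN U (j + 1) n

theorem normL_dec (U : ℕ) : normL (dec U) = (normN U 0 24 : ℤ) := by
  have key : ∀ j n, ((List.range' j n).map fun i => ((cN U i : ℤ) - 8) ^ 2).sum =
      (normN U j n : ℤ) := by
    intro j n
    induction n generalizing j with
    | zero => rfl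
    | succ n ih =>
      rw [List.range'_succ, List.map_cons, List.sum_cons, ih, normN]
      push_cast
      rcases le_total 8 (cN U j) with h | h
      · rw [Nat.sub_eq_zero_of_le h, Nat.cast_sub h]; push_cast; ring
      · rw [Nat.sub_eq_zero_of_le h, Nat.cast_sub h]; push_cast; ring
  rw [← key, normL, List.range_eq_range']
  refine congrArg List.sum (List.map_congr_left fun j hj => ?_)
  rw [getD_dec U (by simpa using hj)]

/-- linearity for one bit -/
def linChk (j a b : ℕ) : Bool :=
  (List.range b).all fun k =>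
    halfOK (eSum (entN (a + k)) (entN (2 ^ j)) (entN (a + k + 2 ^ j)))

theorem lin_low : ((List.range 10).all fun j => linChk j 0 (2 ^ j)) = true := by decide +kernel

theorem lin_ten : linChk 10 0 1024 = true := by decide +kernel

theorem lin_eleven_a : linChk 11 0 1024 = true := by decide +kernel

theorem lin_eleven_b : linChk 11 1024 1024 = true := by decide +kernel

theorem zero_chk : congB (ent 0) (List.replicate 24 0) = true := by decide +kernel

theorem fix_chk : ((List.range 12).all fun j =>
    congB (runP progB (ent (2 ^ j))) (ent (2 ^ j))) = true := by decide +kernel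

theorem cov_chk : (Nat.beq cov.length latGens.length &&
    ((latGens.zip cov).all fun e => Nat.blt e.2 (2 ^ 12) &&
      congB (trL progB 3 e.1) (ent e.2))) = true := by decide +kernel

/-- entries are lattice vectors of small norm -/
def entChk (a b : ℕ) : Bool :=
  (List.range b).all fun k => halfOK (fun j => 2 * cN (entN (a + k)) j + 24) &&
    (Nat.beq (a + k) 0 || ([32, 48, 64] : List ℕ).any (Nat.beq (normN (entN (a + k)) 0 24)))

theorem ent_a : entChk 0 1024 = true := by decide +kernel

theorem ent_b : entChk 1024 1024 = true := by decide +kernel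

theorem ent_c : entChk 2048 1024 = true := by decide +kernel

theorem ent_d : entChk 3072 1024 = true := by decide +kernel

theorem linChk_get {j a b i : ℕ} (h : linChk j a b = true) (h1 : a ≤ i) (h2 : i < a + b) :
    congB (addL (ent i) (ent (2 ^ j))) (ent (i + 2 ^ j)) = true := by
  have := List.all_eq_true.1 h (i - a) (List.mem_range.2 (by omega))
  simp only [Nat.add_sub_cancel' h1] at this
  exact congB_of_halfOK this

theorem ent_get {i : ℕ} (hi : i < 2 ^ 12) : goodB (ent i) = true ∧
    (i = 0 ∨ ([32, 48, 64] : List ℤ).contains (normL (ent i)) = true) := by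
  have key : ∀ {a b : ℕ}, entChk a b = true → a ≤ i → i < a + b → goodB (ent i) = true ∧
      (i = 0 ∨ ([32, 48, 64] : List ℤ).contains (normL (ent i)) = true) := by
    intro a b h h1 h2
    have := List.all_eq_true.1 h (i - a) (List.mem_range.2 (by omega))
    simp only [Nat.add_sub_cancel' h1, Bool.and_eq_true, Bool.or_eq_true, Nat.beq_eq,
      List.any_eq_true] at this
    refine ⟨goodB_of_halfOK this.1, this.2.imp id ?_⟩
    rintro ⟨x, hx, hxe⟩
    rw [ent, normL_dec, hxe]
    simp only [List.mem_cons, List.not_mem_nil, or_false] at hx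
    rcases hx with rfl | rfl | rfl <;> decide
  norm_num at hi
  rcases Nat.lt_or_ge i 2048 with h | h
  · rcases Nat.lt_or_ge i 1024 with h' | h'
    · exact key ent_a (by omega) (by omega)
    · exact key ent_b h' (by omega)
  · rcases Nat.lt_or_ge i 3072 with h' | h'
    · exact key ent_c h (by omega)
    · exact key ent_d h' (by omega)

theorem lin_get {j i : ℕ} (hj : j < 12) (hi : i < 2 ^ j) :
    congB (addL (ent i) (ent (2 ^ j))) (ent (i + 2 ^ j)) = true := by
  rcases Nat.lt_or_ge j 10 with h | h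
  · exact linChk_get (List.all_eq_true.1 lin_low j (List.mem_range.2 h)) (Nat.zero_le i) (by omega)
  · obtain rfl | rfl : j = 10 ∨ j = 11 := by omega
    · exact linChk_get lin_ten (Nat.zero_le i) (by omega)
    · norm_num at hi
      rcases Nat.lt_or_ge i 1024 with h' | h'
      · exact linChk_get lin_eleven_a (Nat.zero_le i) (by omega)
      · exact linChk_get lin_eleven_b h' (by omega)

theorem tab_ok : tabOK progB 3 12 tab cov = true := by
  have hlen : tab.length = 2 ^ 12 := by simp [tab]
  have hc := cov_chk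
  simp only [Bool.and_eq_true, List.all_eq_true, Nat.beq_eq, Nat.blt_eq] at hc
  simp only [tabOK, Bool.and_eq_true, List.all_eq_true, Bool.or_eq_true, Nat.beq_eq, List.mem_range,
    Nat.blt_eq]
  refine ⟨⟨⟨⟨⟨⟨⟨hlen, fun l hl => ?_⟩, ?_⟩, fun j hj i hi => ?_⟩, fun j hj => ?_⟩, hc.1⟩,
    fun e he => ?_⟩, fun i hi => ?_⟩
  · obtain ⟨i, hi, rfl⟩ := List.mem_map.1 hl
    exact (ent_get (by simpa using List.mem_range.1 hi)).1
  · rw [tab_getD (Nat.two_pow_pos 12)]
    exact zero_chk
  · have h2 : 2 ^ j ≤ 2 ^ 11 := Nat.pow_le_pow_right (by norm_num) (by omega)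
    norm_num at h2
    rw [tab_getD (by norm_num; omega), tab_getD (by norm_num; omega), tab_getD (by norm_num; omega)]
    exact lin_get hj hi
  · rw [tab_getD (Nat.pow_lt_pow_right (by norm_num) hj)]
    exact List.all_eq_true.1 fix_chk j (List.mem_range.2 hj)
  · refine ⟨(hc.2 e he).1, ?_⟩
    rw [tab_getD (hc.2 e he).1]
    exact (hc.2 e he).2
  · rw [tab_getD hi]
    exact (ent_get hi).2

end CfsgLib.Spor.Loc.Central3
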