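import Cfsg.Agent.Lib.Spor.Loc.Fix
import Cfsg.Agent.Lib.Spor.Co1Out.Main
import Cfsg.Agent.Lib.ThreeTransp.MonsterTypeBaby
import Cfsg.Agent.Lib.ThreeTransp.CoprimeSplit
import Cfsg.Agent.Lib.Base.Fitting
import Cfsg.Agent.Lib.Components.FStar

/-!
The centraliser of an element of odd prime order of the involution centraliser in a group of
Monster type, modulo that element.
-/

set_option autoImplicit false
set_option linter.unusedSectionVars false

namespace CfsgLib.Spor.Loc

open Cfsg CfsgLib.ThreeTransp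
open CfsgLib.ThreeTransp.MonsterFrame (qImage up)
open CfsgLib.Spor.Co1Out (eq_of_sameOK actsAs_mul actsAs_one)

variable {G : Type*} [Group G] [Finite G] {z : G}
  {Q : Subgroup (Subgroup.centralizer ({z} : Set G))} [Q.Normal]
  {e : (Subgroup.centralizer ({z} : Set G)) ⧸ Q ≃* Cfsg.Spor.Co1}
  {ψ : leechLattice → Q ⧸ Subgroup.center Q}

/-- `b` is an element of odd prime order of the centraliser of `z` above the lattice
automorphism `bh` of the same order. -/
structure Over (M : MonsterFrame z Q e ψ) (b : G) (bh : Co0) (p : ℕ) : Prop where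
  prime : p.Prime
  odd : Odd p
  ord : orderOf b = p
  pow : bh ^ p = 1
  image : ∃ hb : b ∈ Subgroup.centralizer ({z} : Set G),
    (QuotientGroup.mk bh : Cfsg.Spor.Co1) = e (QuotientGroup.mk ⟨b, hb⟩)

variable (M : MonsterFrame z Q e ψ)
include M

theorem psi_eq_iff {v w : leechLattice} : ψ v = ψ w ↔ cl v = cl w := by
  refine ⟨fun h => cl_eq_iff.2 ?_, fun h => ?_⟩
  · have h1 : ψ (v - w) = 1 := by rw [sub_eq_add_neg, M.iso.1, M.psi_neg, h, mul_inv_cancel]
    obtain ⟨u, hu⟩ := (M.iso.2.2.1 _).1 h1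
    exact ⟨u, by rw [← hu]; abel⟩
  · obtain ⟨u, rfl⟩ := cl_eq_iff.1 h
    exact M.psi_congr rfl

theorem up_pow_four (q : Q) : up q ^ 4 = 1 := by
  rw [show (4 : ℕ) = 2 * 2 by rfl, pow_mul, pow_two, pow_two]
  rcases M.xcent.sq _ (M.mem_QG q) with h | h <;> rw [h]
  · exact one_mul 1
  · exact M.xcent.inv

/-- an element of odd order in `Q` is trivial -/
theorem eq_one_of_odd {x : G} (hx : x ∈ qImage Q) {n : ℕ} (hn : Odd n) (h : x ^ n = 1) : x = 1 := by
  obtain ⟨q, hq, rfl⟩ := hx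
  have h4 : (q : G) ^ 4 = 1 := up_pow_four M ⟨q, hq⟩
  have hc : Nat.Coprime n 4 := by
    obtain ⟨k, rfl⟩ := hn
    rw [show (4 : ℕ) = 2 ^ 2 by rfl]
    exact Nat.Coprime.pow_right 2 (Nat.coprime_two_right.2 ⟨k, rfl⟩)
  have := pow_gcd_eq_one.2 ⟨(h : (q : G) ^ n = 1), h4⟩
  rwa [Nat.Coprime.gcd_eq_one hc, pow_one] at this

theorem conj_sign {b : G} (hb : b ∈ Subgroup.centralizer ({z} : Set G)) {p : ℕ} (hp : Odd p)
    (hbp : b ^ p = 1) {x : G} (hx : b * x * b⁻¹ = x ∨ b * x * b⁻¹ = z * x) :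
    b * x = x * b := by
  rcases hx with h | h
  · exact mul_inv_eq_iff_eq_mul.1 h
  exfalso
  have hzb : Commute z b := (Subgroup.mem_centralizer_singleton_iff.1 hb).symm
  have key : ∀ n : ℕ, b ^ n * x * (b ^ n)⁻¹ = z ^ n * x := by
    intro n
    induction n with
    | zero => simp
    | succ n ih =>
      rw [pow_succ' b n, show b * b ^ n * x * (b * b ^ n)⁻¹ = b * (b ^ n * x * (b ^ n)⁻¹) * b⁻¹ by
        group, ih, show b * (z ^ n * x) * b⁻¹ = (b * z ^ n) * x * b⁻¹ by group,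
        ← (hzb.pow_left n).eq, show z ^ n * b * x * b⁻¹ = z ^ n * (b * x * b⁻¹) by group, h,
        ← mul_assoc, ← pow_succ]
  have h1 := key p
  rw [hbp] at h1
  obtain ⟨k, rfl⟩ := hp
  rw [pow_succ, pow_mul, pow_two, M.xcent.inv, one_pow, one_mul, one_mul, inv_one, mul_one] at h1
  exact M.xcent.ne_one (mul_eq_right.1 h1.symm)

variable {b : G} {bh : Co0} {p : ℕ} (O : Over M b bh p)
include O

theorem Over.mem : b ∈ Subgroup.centralizer ({z} : Set G) := O.image.1

theorem Over.pow_b : b ^ p = 1 := O.ord ▸ pow_orderOf_eq_one b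

/-- The fixed points of `b` on `Q` are the fixed classes. -/
theorem Over.comm_iff {v : leechLattice} {q : Q} (hq : ψ v = QuotientGroup.mk q) :
    b * up q = up q * b ↔ cl (bh • v) = cl v := by
  obtain ⟨hb, hbe⟩ := O.image
  have h1 := M.iso.2.2.2 ⟨b, hb⟩ bh hbe v q hq
  constructor
  · intro hc
    rw [← psi_eq_iff M, h1, hq]
    congr 1
    exact MonsterFrame.up_inj (show b * up q * b⁻¹ = up q by rw [hc, mul_inv_cancel_right])
  · intro hc
    rw [← psi_eq_iff M, h1, hq] at hc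
    refine conj_sign M hb O.odd O.pow_b ?_
    have hcases := M.center_cases (QuotientGroup.eq.1 hc)
    have e : ∀ {y : G}, (b * up q * b⁻¹)⁻¹ * up q = y → b * up q * b⁻¹ = up q * y⁻¹ :=
      fun {y} hy => by rw [← hy]; group
    rcases hcases with h | h
    · exact Or.inl (by simpa using e h)
    · refine Or.inr ?_
      rw [e h, inv_eq_of_mul_eq_one_right M.xcent.inv]
      exact M.xcent.comm _ (M.mem_QG q)

omit O in
/-- the fixed points of `b` on `Q`, inside the group -/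
abbrev CQ (_ : MonsterFrame z Q e ψ) (b : G) : Subgroup G :=
  qImage Q ⊓ Subgroup.centralizer ({b} : Set G)

theorem Over.z_mem_CQ : z ∈ CQ M b :=
  ⟨M.xcent.mem, Subgroup.mem_centralizer_singleton_iff.2
    (Subgroup.mem_centralizer_singleton_iff.1 O.mem).symm⟩

theorem Over.mem_CQ {q : Q} {v : leechLattice} (hq : ψ v = QuotientGroup.mk q) :
    up q ∈ CQ M b ↔ cl (bh • v) = cl v := by
  rw [← O.comm_iff M hq]
  exact ⟨fun h => (Subgroup.mem_centralizer_singleton_iff.1 h.2).symm,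
    fun h => ⟨M.mem_QG q, Subgroup.mem_centralizer_singleton_iff.2 h.symm⟩⟩

/-- An element of the fixed points central among them is central in `Q`. -/
theorem Over.center_CQ {d : G} (hd : d ∈ CQ M b) (hc : ∀ x ∈ CQ M b, x * d = d * x) :
    d = 1 ∨ d = z := by
  haveI : Fact (Nat.Prime p) := ⟨O.prime⟩
  refine M.xcent.center d hd.1 fun q hq => ?_
  set A := Subgroup.zpowers b
  have hAn : A ≤ Subgroup.normalizer (qImage Q : Set G) := Subgroup.zpowers_le.2 (by
    rw [Subgroup.mem_normalizer_iff]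
    intro x
    have hz := Subgroup.mem_centralizer_singleton_iff.1 O.mem
    refine ⟨M.xcent.norm b hz x, fun h => ?_⟩
    have := M.xcent.norm b⁻¹ (by
      rw [inv_mul_eq_iff_eq_mul, ← mul_assoc, hz, mul_inv_cancel_right]) _ h
    simpa [mul_assoc] using this)
  have h2 : IsPGroup 2 (qImage Q) := fun x => ⟨2, Subtype.ext (by
    obtain ⟨q', hq', he⟩ := x.2
    simp only [SubgroupClass.coe_pow, Subgroup.coe_one, ← he]
    exact up_pow_four M ⟨q', hq'⟩)⟩
  have hcop : (Nat.card A).Coprime (Nat.card (qImage Q)) := by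
    rw [Nat.card_zpowers, O.ord]
    obtain ⟨k, hk⟩ := (IsPGroup.iff_card.1 h2)
    rw [hk]
    exact Nat.Coprime.pow_right k (Nat.coprime_two_right.2 O.odd)
  have hdb : d * b = b * d := (Subgroup.mem_centralizer_singleton_iff.1 hd.2)
  have hle : qImage Q ≤ Subgroup.centralizer ({d} : Set G) := by
    rw [← CfsgLib.Coprime.commutator_sup_centralizer hAn hcop
      (Or.inl (Group.isSolvable_of_comm fun x y => Subtype.ext (by
        obtain ⟨i, hi⟩ := x.2; obtain ⟨j, hj⟩ := y.2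
        simp only [Subgroup.coe_mul, ← hi, ← hj]
        exact (Commute.zpow_zpow (Commute.refl b) i j).eq)))]
    refine sup_le ?_ ?_
    · rw [Subgroup.commutator_le]
      intro x hx a ha
      rw [commutatorElement_def, show x * a * x⁻¹ * a⁻¹ = (a * x * a⁻¹ * x⁻¹)⁻¹ by group]
      refine inv_mem ?_
      rw [Subgroup.mem_centralizer_singleton_iff]
      have hac : Commute d a := by
        obtain ⟨i, rfl⟩ := Subgroup.mem_zpowers_iff.1 ha
        exact Commute.zpow_right hdb i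
      rcases M.xcent.commEl _ hd.1 _ hx with h | h
      · have hxd : Commute d x := mul_inv_eq_iff_eq_mul.1 h
        exact ((hac.mul_right hxd).mul_right hac.inv_right).mul_right hxd.inv_right |>.symm.eq
      · have haz : a * z = z * a := by
          obtain ⟨i, rfl⟩ := Subgroup.mem_zpowers_iff.1 ha
          exact (Commute.zpow_left (Subgroup.mem_centralizer_singleton_iff.1 O.mem) i).eq
        have hzQ : ∀ y ∈ qImage Q, y * z = z * y := M.xcent.comm
        have e1 : d * (a * x * a⁻¹ * x⁻¹) * d⁻¹ = a * (z * x) * a⁻¹ * (z * x)⁻¹ := by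
          rw [← h]
          calc d * (a * x * a⁻¹ * x⁻¹) * d⁻¹
              = (d * a * d⁻¹) * (d * x * d⁻¹) * (d * a * d⁻¹)⁻¹ * (d * x * d⁻¹)⁻¹ := by group
            _ = a * (d * x * d⁻¹) * a⁻¹ * (d * x * d⁻¹)⁻¹ := by
              rw [show d * a * d⁻¹ = a from mul_inv_eq_iff_eq_mul.2 hac.eq]
        have e2 : a * (z * x) * a⁻¹ * (z * x)⁻¹ = a * x * a⁻¹ * x⁻¹ := by
          have hc' : Commute z (a * x * a⁻¹ * x⁻¹) :=
            (((Commute.mul_right haz.symm (hzQ x hx).symm)).mul_right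
              (Commute.inv_right haz.symm)).mul_right (Commute.inv_right (hzQ x hx).symm)
          calc a * (z * x) * a⁻¹ * (z * x)⁻¹ = (a * z) * x * a⁻¹ * x⁻¹ * z⁻¹ := by group
            _ = z * (a * x * a⁻¹ * x⁻¹) * z⁻¹ := by rw [haz]; group
            _ = _ := by rw [hc'.eq, mul_inv_cancel_right]
        exact (mul_inv_eq_iff_eq_mul.1 (e1.trans e2)).symm
    · intro x hx
      refine Subgroup.mem_centralizer_singleton_iff.2 (hc x ⟨hx.1, ?_⟩)
      exact Subgroup.mem_centralizer_singleton_iff.2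
        (Subgroup.mem_centralizer_iff.1 hx.2 b (Subgroup.mem_zpowers b)).symm
  exact Subgroup.mem_centralizer_singleton_iff.1 (hle hq)

variable {r : ℕ} {tb : List (List ℤ)} (T : Tab bh r tb)
include T

theorem Over.exists_param : ∃ F : Bool × Fin (2 ^ r) → Q, Function.Injective F ∧
    (∀ t, up (F t) ∈ CQ M b ∧ ψ (tv tb t.2) = QuotientGroup.mk (F t)) ∧
    (∀ x ∈ CQ M b, ∃ t, up (F t) = x) ∧
    (∀ s, up (F (s, ⟨0, Nat.two_pow_pos r⟩)) = if s then z else 1) := by
  classical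
  have hne := cl_ne_zero
  obtain ⟨hzC, hzQ⟩ := M.z_mem
  let zq : Q := ⟨⟨z, hzC⟩, hzQ⟩
  have hf' : ∀ i : Fin (2 ^ r), ∃ q : Q, ψ (tv tb i) = QuotientGroup.mk q ∧ (i.1 = 0 → q = 1) := by
    intro i
    by_cases h0 : i.1 = 0
    · refine ⟨1, ?_, fun _ => rfl⟩
      rw [h0, QuotientGroup.mk_one, ← M.psi_zero, psi_eq_iff M, T.zero, map_zero]
    · obtain ⟨q, hq⟩ := M.psi_lift (tv tb i)
      exact ⟨q, hq, fun h => absurd h h0⟩
  choose f hf hf0 using hf'
  have hzc : zq ∈ Subgroup.center Q := M.mem_center_of (Or.inr rfl)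
  let c : Bool → Q := fun s => if s then zq else 1
  have hc : ∀ s, c s ∈ Subgroup.center Q := fun s => by
    cases s <;> simp [c, hzc, one_mem]
  let F : Bool × Fin (2 ^ r) → Q := fun t => c t.1 * f t.2
  have hψ : ∀ t, ψ (tv tb t.2) = QuotientGroup.mk (F t) := fun t => by
    rw [hf, QuotientGroup.mk_mul, (QuotientGroup.eq_one_iff _).2 (hc _), one_mul]
  refine ⟨F, ?_, fun t => ⟨(O.mem_CQ M (hψ t)).2 (T.fixed _ t.2.2), hψ t⟩, ?_, fun s => ?_⟩
  · rintro ⟨s, i⟩ ⟨t, j⟩ h
    obtain rfl : i = j := Fin.ext (T.inj hne i.2 j.2 ((psi_eq_iff M).1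
      ((hψ (s, i)).trans ((congrArg QuotientGroup.mk h).trans (hψ (t, j)).symm))))
    have h' : c s = c t := mul_right_cancel h
    have hzne : zq ≠ 1 := fun e => M.xcent.ne_one (congrArg (fun q : Q => up q) e)
    cases s <;> cases t <;> simp_all [c, Ne.symm hzne]
  · rintro _ ⟨⟨x, hx, rfl⟩, hxb⟩
    obtain ⟨v, hv⟩ := M.iso.2.1 (QuotientGroup.mk (⟨x, hx⟩ : Q))
    obtain ⟨i, hi, hvi⟩ := T.cover v ((O.mem_CQ M hv).1 ⟨⟨x, hx, rfl⟩, hxb⟩)
    have hq : (QuotientGroup.mk (f ⟨i, hi⟩) : Q ⧸ Subgroup.center Q) = QuotientGroup.mk ⟨x, hx⟩ :=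
      (hf ⟨i, hi⟩).symm.trans (((psi_eq_iff M).2 hvi).symm.trans hv)
    have hd := QuotientGroup.eq.1 hq
    have hcomm := Subgroup.mem_center_iff.1 hd (f ⟨i, hi⟩)
    rcases M.center_cases hd with h | h
    · exact ⟨(false, ⟨i, hi⟩), by
        show up (c false * f ⟨i, hi⟩) = (x : G)
        simp only [c, Bool.false_eq_true, if_false, one_mul]
        exact inv_mul_eq_one.1 h⟩
    · exact ⟨(true, ⟨i, hi⟩), by
        show z * up (f ⟨i, hi⟩) = (x : G)
        rw [← M.xcent.comm _ (M.mem_QG _)]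
        exact (inv_mul_eq_iff_eq_mul.1 h).symm⟩
  · show up (c s * f _) = _
    rw [hf0 _ rfl, mul_one]
    cases s <;> rfl

theorem Over.card_CQ : Nat.card (CQ M b) = 2 * 2 ^ r := by
  obtain ⟨F, hinj, hmem, hsur, -⟩ := O.exists_param M T
  rw [← Nat.card_eq_of_bijective (fun t => (⟨up (F t), (hmem t).1⟩ : CQ M b)) ⟨?_, ?_⟩,
    Nat.card_prod, Nat.card_fin, Nat.card_eq_fintype_card (α := Bool), Fintype.card_bool]
  · exact fun s t h => hinj (MonsterFrame.up_inj (congrArg (fun x : CQ M b => (x : G)) h))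
  · rintro ⟨x, hx⟩
    obtain ⟨t, ht⟩ := hsur x hx
    exact ⟨t, Subtype.ext ht⟩

theorem Over.isExtraspecial_CQ (hr : 0 < r) : IsExtraspecial 2 (CQ M b) := by
  have h2 : IsPGroup 2 (qImage Q) := fun x => ⟨2, Subtype.ext (by
    obtain ⟨q', hq', he⟩ := x.2
    simp only [SubgroupClass.coe_pow, Subgroup.coe_one, ← he]
    exact up_pow_four M ⟨q', hq'⟩)⟩
  refine isExtraspecial_sub M.xcent h2 inf_le_left (O.z_mem_CQ M) ?_ ?_
  · exact fun d hd hc => O.center_CQ M hd fun x hx => hc x hx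
  · by_contra hno
    push Not at hno
    have hcard := O.card_CQ M T
    have hle : Nat.card (CQ M b) ≤ 2 := by
      classical
      refine le_trans (Nat.card_le_card_of_injective
        (fun x : CQ M b => (⟨x.1, ?_⟩ : ({1, z} : Finset G))) ?_) ?_
      · simp only [Finset.mem_insert, Finset.mem_singleton]
        exact O.center_CQ M x.2 fun y hy => (hno x x.2 y hy).symm
      · exact fun x y h => Subtype.ext (congrArg (fun a : ({1, z} : Finset G) => (a : G)) h)
      · rw [Nat.card_eq_finsetCard]; exact Finset.card_le_two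
    have : 2 ≤ 2 ^ r := Nat.le_self_pow (by omega) 2
    omega

end CfsgLib.Spor.Loc
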