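import Cfsg.Agent.Lib.Spor.Co0Basic

/-!
Certificate data for the centraliser of an element of order 5: classes fixed modulo two,
generators and their action.
-/

set_option autoImplicit false

namespace CfsgLib.Spor.Loc.Five

/-- the permutation -/
def permA : ℕ := 501934081817767970698677277931654182

/-- its inverse -/
def permAi : ℕ := 425347584032909437257301250612287528

/-- the fixed classes -/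
def tb : List (List ℤ) := [
  [0, 0, 0, 0, 0, 0, 0, 0, 0, 0, 0, 0, 0, 0, 0, 0, 0, 0, 0, 0, 0, 0, 0, 0],
  [0, 0, 0, 0, 0, 0, 0, 0, 0, 0, 0, 0, 0, 0, 0, 0, 0, 0, 0, 0, 0, 0, 0, 8],
  [1, -3, 1, 1, 1, 1, 1, 1, 1, 1, 1, 1, 1, 1, 1, 1, 1, 1, 1, 1, 1, 1, 1, 1],
  [-1, -5, -1, -1, -1, -1, -1, -1, -1, -1, -1, -1, -1, -1, -1, -1, -1, -1, -1, -1, -1, -1, -1, -1],
  [0, -4, 0, 0, 0, 0, 0, 0, 0, 0, 0, 0, 0, 0, 0, 0, 0, 0, 0, 0, 0, 4, 0, 0],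
  [0, -4, 0, 0, 0, 0, 0, 0, 0, 0, 0, 0, 0, 0, 0, 0, 0, 0, 0, 0, 0, -4, 0, 0],
  [-1, -1, -1, -1, -1, -1, -1, -1, -1, -1, -1, -1, -1, -1, -1, -1, -1, -1, -1, -1, -1, 3, -1, -1],
  [-1, -1, -1, -1, -1, -1, -1, -1, -1, -1, -1, -1, -1, -1, -1, -1, -1, -1, -1, -1, -1, -5, -1, -1],
  [0, 0, 0, 0, 0, 0, 0, 0, 0, 0, 0, 0, 0, 0, 0, 0, 0, 0, -4, 0, 4, 0, 0, 0],
  [0, 0, 0, 0, 0, 0, 0, 0, 0, 0, 0, 0, 0, 0, 0, 0, 0, 0, -4, 0, -4, 0, 0, 0],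
  [-1, -5, -1, -1, -1, -1, -1, -1, -1, -1, -1, -1, -1, -1, -1, -1, -1, -1, 3, -1, 3, -1, -1, -1],
  [1, -3, 1, 1, 1, 1, 1, 1, 1, 1, 1, 1, 1, 1, 1, 1, 1, 1, -3, 1, -3, 1, 1, 1],
  [0, -4, 0, 0, 0, 0, 0, 0, 0, 0, 0, 0, 0, 0, 0, 0, 0, 0, -4, 0, -4, -4, 0, 0],
  [0, -4, 0, 0, 0, 0, 0, 0, 0, 0, 0, 0, 0, 0, 0, 0, 0, 0, -4, 0, -4, 4, 0, 0],
  [-1, -1, -1, -1, -1, -1, -1, -1, -1, -1, -1, -1, -1, -1, -1, -1, -1, -1, -5, -1, 3, 3, -1, -1],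
  [-1, -1, -1, -1, -1, -1, -1, -1, -1, -1, -1, -1, -1, -1, -1, -1, -1, -1, 3, -1, 3, 3, -1, -1],
  [-1, -3, 1, -1, 1, 1, -1, 1, -1, -1, -1, 1, -1, 1, 1, -1, 1, -1, 1, 1, -1, -1, 1, -1],
  [1, -5, -1, 1, -1, -1, 1, -1, 1, 1, 1, -1, 1, -1, -1, 1, -1, 1, -1, -1, 1, 1, -1, 1],
  [-2, 0, 0, -2, 0, 0, -2, 0, -2, -2, -2, 0, -2, 0, 0, -2, 0, -2, 0, 0, -2, -2, 0, -2],
  [0, -2, -2, 0, -2, -2, 0, -2, 0, 0, 0, -2, 0, -2, -2, 0, -2, 0, -2, -2, 0, 0, -2, 0],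
  [1, -1, -1, 1, -1, -1, 1, -1, 1, 1, 1, -1, 1, -1, -1, 1, -1, 1, -1, -1, 1, 5, -1, 1],
  [1, -1, -1, 1, -1, -1, 1, -1, 1, 1, 1, -1, 1, -1, -1, 1, -1, 1, -1, -1, 1, -3, -1, 1],
  [-2, -4, 0, -2, 0, 0, -2, 0, -2, -2, -2, 0, -2, 0, 0, -2, 0, -2, 0, 0, -2, 2, 0, -2],
  [2, -4, 0, 2, 0, 0, 2, 0, 2, 2, 2, 0, 2, 0, 0, 2, 0, 2, 0, 0, 2, -2, 0, 2],
  [-1, -3, 1, -1, 1, 1, -1, 1, -1, -1, -1, 1, -1, 1, 1, -1, 1, -1, -3, 1, 3, -1, 1, -1],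
  [1, -5, -1, 1, -1, -1, 1, -1, 1, 1, 1, -1, 1, -1, -1, 1, -1, 1, 3, -1, -3, 1, -1, 1],
  [-2, -4, 0, 2, 0, 0, -2, 0, -2, -2, 2, 0, 2, 0, 0, -2, 0, 2, 0, 0, -2, -2, 0, 2],
  [2, -4, 0, -2, 0, 0, 2, 0, 2, 2, -2, 0, -2, 0, 0, 2, 0, -2, 0, 0, 2, 2, 0, -2],
  [1, -1, -1, 1, -1, -1, 1, -1, 1, 1, 1, -1, 1, -1, -1, 1, -1, 1, -5, -1, -3, -3, -1, 1],
  [1, -1, -1, 1, -1, -1, 1, -1, 1, 1, 1, -1, 1, -1, -1, 1, -1, 1, 3, -1, -3, -3, -1, 1],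
  [0, -2, -2, 0, 2, -2, 0, -2, 0, 0, 0, 2, 0, 2, 2, 0, 2, 0, 2, -2, 0, 0, -2, 0],
  [-2, 0, 0, 2, 0, 0, -2, 0, -2, -2, 2, 0, 2, 0, 0, -2, 0, 2, 0, 0, -2, 2, 0, 2],
  [1, -3, 1, -1, -1, 1, 1, 1, 1, 1, -1, -1, -1, -1, -1, 1, -1, -1, -1, 1, 1, -1, 1, -1],
  [-1, -5, -1, 1, 1, -1, -1, -1, -1, -1, 1, 1, 1, 1, 1, -1, 1, 1, 1, -1, -1, 1, -1, 1],
  [0, 0, 0, -2, -2, 0, 0, 0, 0, 0, -2, -2, -2, -2, -2, 0, -2, -2, -2, 0, 0, -2, 0, -2],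
  [-2, -2, -2, 0, 0, -2, -2, -2, -2, -2, 0, 0, 0, 0, 0, -2, 0, 0, 0, -2, -2, 0, -2, 0],
  [-1, -1, -1, 1, 1, -1, -1, -1, -1, -1, 1, 1, 1, 1, 1, -1, 1, 1, 1, -1, -1, 5, -1, 1],
  [-1, -1, -1, 1, 1, -1, -1, -1, -1, -1, 1, 1, 1, 1, 1, -1, 1, 1, 1, -1, -1, -3, -1, 1],
  [0, -4, 0, -2, -2, 0, 0, 0, 0, 0, -2, -2, -2, -2, -2, 0, -2, -2, -2, 0, 0, 2, 0, -2],
  [0, -4, 0, 2, 2, 0, 0, 0, 0, 0, 2, 2, 2, 2, 2, 0, 2, 2, 2, 0, 0, -2, 0, 2],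
  [1, -3, 1, -1, -1, 1, 1, 1, 1, 1, -1, -1, -1, -1, -1, 1, -1, -1, 3, 1, -3, -1, 1, -1],
  [-1, -5, -1, 1, 1, -1, -1, -1, -1, -1, 1, 1, 1, 1, 1, -1, 1, 1, -3, -1, 3, 1, -1, 1],
  [0, -4, 0, 2, -2, 0, 0, 0, 0, 0, 2, -2, 2, -2, -2, 0, -2, 2, -2, 0, 0, -2, 0, 2],
  [0, -4, 0, -2, 2, 0, 0, 0, 0, 0, -2, 2, -2, 2, 2, 0, 2, -2, 2, 0, 0, 2, 0, -2],
  [-1, -1, -1, 1, 1, -1, -1, -1, -1, -1, 1, 1, 1, 1, 1, -1, 1, 1, -3, -1, -5, -3, -1, 1],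
  [-1, -1, -1, 1, 1, -1, -1, -1, -1, -1, 1, 1, 1, 1, 1, -1, 1, 1, -3, -1, 3, -3, -1, 1],
  [2, -2, -2, 0, 0, -2, 2, -2, 2, 2, 0, 0, 0, 0, 0, 2, 0, 0, 0, -2, 2, 0, -2, 0],
  [0, 0, 0, 2, -2, 0, 0, 0, 0, 0, 2, -2, 2, -2, -2, 0, -2, 2, -2, 0, 0, 2, 0, 2],
  [2, 0, 0, 0, -2, 0, 2, 0, 2, 2, 0, -2, 0, -2, -2, 2, -2, 0, -2, 0, 2, 0, 0, 0],
  [0, -2, -2, 2, 0, -2, 0, -2, 0, 0, 2, 0, 2, 0, 0, 0, 0, 2, 0, -2, 0, 2, -2, 2],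
  [1, -1, -1, -1, 1, -1, 1, -1, 1, 1, -1, 1, -1, 1, 1, 1, 1, -1, -3, -1, -3, 3, -1, -1],
  [1, -1, -1, -1, 1, -1, 1, -1, 1, 1, -1, 1, -1, 1, 1, 1, 1, -1, -3, -1, -3, -5, -1, -1],
  [2, 0, 0, 0, 2, 0, 2, 0, 2, 2, 0, 2, 0, 2, 2, 2, 2, 0, -2, 0, -2, 0, 0, 0],
  [0, -2, 2, -2, 0, 2, 0, 2, 0, 0, -2, 0, -2, 0, 0, 0, 0, -2, 0, 2, 0, 2, 2, -2],
  [-1, -3, 1, 1, -1, 1, -1, 1, -1, -1, 1, -1, 1, -1, -1, -1, -1, 1, 3, 1, 3, 1, 1, 1],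
  [1, -5, -1, -1, 1, -1, 1, -1, 1, 1, -1, 1, -1, 1, 1, 1, 1, -1, -3, -1, -3, -1, -1, -1],
  [-2, 0, 0, 0, 2, 0, -2, 0, -2, -2, 0, 2, 0, 2, 2, -2, 2, 0, -2, 0, 2, 0, 0, 0],
  [0, -2, 2, 2, 0, 2, 0, 2, 0, 0, 2, 0, 2, 0, 0, 0, 0, 2, 0, 2, 0, -2, 2, 2],
  [1, -1, -1, -1, 1, -1, 1, -1, 1, 1, -1, 1, -1, 1, 1, 1, 1, -1, 1, -1, 1, -5, -1, -1],
  [1, -1, -1, -1, 1, -1, 1, -1, 1, 1, -1, 1, -1, 1, 1, 1, 1, -1, 1, -1, 1, 3, -1, -1],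
  [0, -2, -2, -2, 0, -2, 0, -2, 0, 0, -2, 0, -2, 0, 0, 0, 0, -2, 0, -2, 0, -2, -2, -2],
  [-2, 0, 0, 0, -2, 0, -2, 0, -2, -2, 0, -2, 0, -2, -2, -2, -2, 0, -2, 0, -2, 0, 0, 0],
  [1, -5, -1, -1, 1, -1, 1, -1, 1, 1, -1, 1, -1, 1, 1, 1, 1, -1, 1, -1, 1, -1, -1, -1],
  [-1, -3, 1, 1, -1, 1, -1, 1, -1, -1, 1, -1, 1, -1, -1, -1, -1, 1, -1, 1, -1, 1, 1, 1],
  [0, -2, 0, 0, -2, 0, 0, 0, 0, 0, 0, -2, 0, -2, -2, 0, -2, 0, 0, 0, -2, -2, 0, 0],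
  [0, -6, 0, 0, 2, 0, 0, 0, 0, 0, 0, 2, 0, 2, 2, 0, 2, 0, 0, 0, 2, 2, 0, 0],
  [1, -5, 1, 1, -1, 1, 1, 1, 1, 1, 1, -1, 1, -1, -1, 1, -1, 1, 1, 1, -1, -1, 1, 1],
  [-1, -3, -1, -1, 1, -1, -1, -1, -1, -1, -1, 1, -1, 1, 1, -1, 1, -1, -1, -1, 1, 1, -1, -1],
  [0, -6, 0, 0, -2, 0, 0, 0, 0, 0, 0, -2, 0, -2, -2, 0, -2, 0, 0, 0, -2, 2, 0, 0],
  [0, -2, 0, 0, 2, 0, 0, 0, 0, 0, 0, 2, 0, 2, 2, 0, 2, 0, 0, 0, 2, -2, 0, 0],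
  [1, -1, 1, 1, -1, 1, 1, 1, 1, 1, 1, -1, 1, -1, -1, 1, -1, 1, 1, 1, -1, -5, 1, 1],
  [1, -1, 1, 1, -1, 1, 1, 1, 1, 1, 1, -1, 1, -1, -1, 1, -1, 1, 1, 1, -1, 3, 1, 1],
  [0, -2, 0, 0, -2, 0, 0, 0, 0, 0, 0, -2, 0, -2, -2, 0, -2, 0, -4, 0, 2, -2, 0, 0],
  [0, -2, 0, 0, -2, 0, 0, 0, 0, 0, 0, -2, 0, -2, -2, 0, -2, 0, 4, 0, 2, -2, 0, 0],
  [1, -5, 1, 1, -1, 1, 1, 1, 1, 1, 1, -1, 1, -1, -1, 1, -1, 1, -3, 1, 3, -1, 1, 1],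
  [-1, -3, -1, -1, 1, -1, -1, -1, -1, -1, -1, 1, -1, 1, 1, -1, 1, -1, 3, -1, -3, 1, -1, -1],
  [0, -2, 0, 0, 2, 0, 0, 0, 0, 0, 0, 2, 0, 2, 2, 0, 2, 0, -4, 0, -2, -2, 0, 0],
  [0, -2, 0, 0, 2, 0, 0, 0, 0, 0, 0, 2, 0, 2, 2, 0, 2, 0, 4, 0, -2, -2, 0, 0],
  [1, -1, 1, 1, -1, 1, 1, 1, 1, 1, 1, -1, 1, -1, -1, 1, -1, 1, -3, 1, -5, 3, 1, 1],
  [1, -1, 1, 1, -1, 1, 1, 1, 1, 1, 1, -1, 1, -1, -1, 1, -1, 1, -3, 1, 3, 3, 1, 1],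
  [-1, -5, 1, -1, -1, 1, -1, 1, -1, -1, -1, -1, -1, -1, -1, -1, -1, -1, 1, 1, -3, -3, 1, -1],
  [1, -3, -1, 1, 1, -1, 1, -1, 1, 1, 1, 1, 1, 1, 1, 1, 1, 1, -1, -1, 3, 3, -1, 1],
  [2, -2, 0, 2, -2, 0, 2, 0, 2, 2, 2, -2, 2, -2, -2, 2, -2, 2, 0, 0, 0, 0, 0, 2],
  [0, 0, -2, 0, 0, -2, 0, -2, 0, 0, 0, 0, 0, 0, 0, 0, 0, 0, -2, -2, 2, 2, -2, 0],
  [-1, -1, 1, -1, -1, 1, -1, 1, -1, -1, -1, -1, -1, -1, -1, -1, -1, -1, 1, 1, 5, 1, 1, -1],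
  [-1, -1, 1, -1, -1, 1, -1, 1, -1, -1, -1, -1, -1, -1, -1, -1, -1, -1, 1, 1, -3, 1, 1, -1],
  [0, -4, -2, 0, 0, -2, 0, -2, 0, 0, 0, 0, 0, 0, 0, 0, 0, 0, -2, -2, 2, -2, -2, 0],
  [0, -4, 2, 0, 0, 2, 0, 2, 0, 0, 0, 0, 0, 0, 0, 0, 0, 0, 2, 2, -2, 2, 2, 0],
  [-1, -5, 1, -1, -1, 1, -1, 1, -1, -1, -1, -1, -1, -1, -1, -1, -1, -1, -3, 1, 1, -3, 1, -1],
  [1, -3, -1, 1, 1, -1, 1, -1, 1, 1, 1, 1, 1, 1, 1, 1, 1, 1, 3, -1, -1, 3, -1, 1],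
  [-2, -2, 0, 2, 2, 0, -2, 0, -2, -2, 2, 2, 2, 2, 2, -2, 2, 2, 0, 0, 0, 0, 0, 2],
  [0, 0, 2, 0, 0, 2, 0, 2, 0, 0, 0, 0, 0, 0, 0, 0, 0, 0, -2, 2, 2, -2, 2, 0],
  [-1, -1, 1, -1, -1, 1, -1, 1, -1, -1, -1, -1, -1, -1, -1, -1, -1, -1, 5, 1, 1, 1, 1, -1],
  [-1, -1, 1, -1, -1, 1, -1, 1, -1, -1, -1, -1, -1, -1, -1, -1, -1, -1, -3, 1, 1, 1, 1, -1],
  [0, -4, -2, 0, 0, -2, 0, -2, 0, 0, 0, 0, 0, 0, 0, 0, 0, 0, 2, -2, -2, -2, -2, 0],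
  [0, -4, 2, 0, 0, 2, 0, 2, 0, 0, 0, 0, 0, 0, 0, 0, 0, 0, -2, 2, 2, 2, 2, 0],
  [1, -1, 1, -1, 1, 1, 1, 1, 1, 1, -1, 1, -1, 1, 1, 1, 1, -1, -1, 1, 3, 1, 1, -1],
  [1, -1, 1, -1, 1, 1, 1, 1, 1, 1, -1, 1, -1, 1, 1, 1, 1, -1, -1, 1, -5, 1, 1, -1],
  [0, -2, 0, 2, 0, 0, 0, 0, 0, 0, 2, 0, 2, 0, 0, 0, 0, 2, 2, 0, -2, 0, 0, 2],
  [0, -6, 0, -2, 0, 0, 0, 0, 0, 0, -2, 0, -2, 0, 0, 0, 0, -2, -2, 0, 2, 0, 0, -2],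
  [-1, -3, -1, 1, -1, -1, -1, -1, -1, -1, 1, -1, 1, -1, -1, -1, -1, 1, 1, -1, -3, 3, -1, 1],
  [1, -5, 1, -1, 1, 1, 1, 1, 1, 1, -1, 1, -1, 1, 1, 1, 1, -1, -1, 1, 3, -3, 1, -1],
  [0, -2, 0, -2, 0, 0, 0, 0, 0, 0, -2, 0, -2, 0, 0, 0, 0, -2, -2, 0, 2, 4, 0, -2],
  [0, -2, 0, -2, 0, 0, 0, 0, 0, 0, -2, 0, -2, 0, 0, 0, 0, -2, -2, 0, 2, -4, 0, -2],
  [1, -1, 1, -1, 1, 1, 1, 1, 1, 1, -1, 1, -1, 1, 1, 1, 1, -1, 3, 1, -1, 1, 1, -1],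
  [1, -1, 1, -1, 1, 1, 1, 1, 1, 1, -1, 1, -1, 1, 1, 1, 1, -1, -5, 1, -1, 1, 1, -1],
  [0, -2, 0, 2, 0, 0, 0, 0, 0, 0, 2, 0, 2, 0, 0, 0, 0, 2, -2, 0, 2, 0, 0, 2],
  [0, -6, 0, -2, 0, 0, 0, 0, 0, 0, -2, 0, -2, 0, 0, 0, 0, -2, 2, 0, -2, 0, 0, -2],
  [-1, -3, -1, 1, -1, -1, -1, -1, -1, -1, 1, -1, 1, -1, -1, -1, -1, 1, -3, -1, 1, 3, -1, 1],
  [1, -5, 1, -1, 1, 1, 1, 1, 1, 1, -1, 1, -1, 1, 1, 1, 1, -1, 3, 1, -1, -3, 1, -1],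
  [0, -2, 0, -2, 0, 0, 0, 0, 0, 0, -2, 0, -2, 0, 0, 0, 0, -2, 2, 0, -2, 4, 0, -2],
  [0, -2, 0, -2, 0, 0, 0, 0, 0, 0, -2, 0, -2, 0, 0, 0, 0, -2, 2, 0, -2, -4, 0, -2],
  [-2, -2, 0, 0, 0, 0, -2, 0, -2, -2, 0, 0, 0, 0, 0, -2, 0, 0, 2, 0, -4, -2, 0, 0],
  [-2, -2, 0, 0, 0, 0, -2, 0, -2, -2, 0, 0, 0, 0, 0, -2, 0, 0, 2, 0, 4, -2, 0, 0],
  [-1, -5, 1, 1, 1, 1, -1, 1, -1, -1, 1, 1, 1, 1, 1, -1, 1, 1, 3, 1, -3, -1, 1, 1],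
  [1, -3, -1, -1, -1, -1, 1, -1, 1, 1, -1, -1, -1, -1, -1, 1, -1, -1, -3, -1, 3, 1, -1, -1],
  [2, -2, 0, 0, 0, 0, 2, 0, 2, 2, 0, 0, 0, 0, 0, 2, 0, 0, -2, 0, -4, -2, 0, 0],
  [2, -2, 0, 0, 0, 0, 2, 0, 2, 2, 0, 0, 0, 0, 0, 2, 0, 0, -2, 0, 4, -2, 0, 0],
  [-1, -1, 1, 1, 1, 1, -1, 1, -1, -1, 1, 1, 1, 1, 1, -1, 1, 1, -5, 1, -3, 3, 1, 1],
  [-1, -1, 1, 1, 1, 1, -1, 1, -1, -1, 1, 1, 1, 1, 1, -1, 1, 1, 3, 1, -3, 3, 1, 1],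
  [-2, -2, 0, 0, 0, 0, -2, 0, -2, -2, 0, 0, 0, 0, 0, -2, 0, 0, -2, 0, 0, -2, 0, 0],
  [2, -6, 0, 0, 0, 0, 2, 0, 2, 2, 0, 0, 0, 0, 0, 2, 0, 0, 2, 0, 0, 2, 0, 0],
  [-1, -5, 1, 1, 1, 1, -1, 1, -1, -1, 1, 1, 1, 1, 1, -1, 1, 1, -1, 1, 1, -1, 1, 1],
  [1, -3, -1, -1, -1, -1, 1, -1, 1, 1, -1, -1, -1, -1, -1, 1, -1, -1, 1, -1, -1, 1, -1, -1],
  [-2, -6, 0, 0, 0, 0, -2, 0, -2, -2, 0, 0, 0, 0, 0, -2, 0, 0, -2, 0, 0, 2, 0, 0],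
  [2, -2, 0, 0, 0, 0, 2, 0, 2, 2, 0, 0, 0, 0, 0, 2, 0, 0, 2, 0, 0, -2, 0, 0],
  [-1, -1, 1, 1, 1, 1, -1, 1, -1, -1, 1, 1, 1, 1, 1, -1, 1, 1, -1, 1, 1, -5, 1, 1],
  [-1, -1, 1, 1, 1, 1, -1, 1, -1, -1, 1, 1, 1, 1, 1, -1, 1, 1, -1, 1, 1, 3, 1, 1],
  [1, -1, 1, -1, 1, 1, 1, 1, 1, 1, -1, 1, -1, 1, 1, 1, 1, -1, -1, 1, -1, -3, 1, -1],
  [1, -1, 1, -1, 1, 1, 1, 1, 1, 1, -1, 1, -1, 1, 1, 1, 1, -1, -1, 1, -1, 5, 1, -1],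
  [0, -2, 0, 2, 0, 0, 0, 0, 0, 0, 2, 0, 2, 0, 0, 0, 0, 2, 2, 0, 2, 4, 0, 2],
  [0, -2, 0, 2, 0, 0, 0, 0, 0, 0, 2, 0, 2, 0, 0, 0, 0, 2, 2, 0, 2, -4, 0, 2],
  [1, -5, 1, -1, 1, 1, 1, 1, 1, 1, -1, 1, -1, 1, 1, 1, 1, -1, -1, 1, -1, 1, 1, -1],
  [-1, -3, -1, 1, -1, -1, -1, -1, -1, -1, 1, -1, 1, -1, -1, -1, -1, 1, 1, -1, 1, -1, -1, 1],
  [0, -2, 0, -2, 0, 0, 0, 0, 0, 0, -2, 0, -2, 0, 0, 0, 0, -2, -2, 0, -2, 0, 0, -2],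
  [0, -6, 0, 2, 0, 0, 0, 0, 0, 0, 2, 0, 2, 0, 0, 0, 0, 2, 2, 0, 2, 0, 0, 2],
  [1, -1, 1, -1, 1, 1, 1, 1, 1, 1, -1, 1, -1, 1, 1, 1, 1, -1, -5, 1, 3, -3, 1, -1],
  [1, -1, 1, -1, 1, 1, 1, 1, 1, 1, -1, 1, -1, 1, 1, 1, 1, -1, 3, 1, 3, -3, 1, -1],
  [0, -2, 0, 2, 0, 0, 0, 0, 0, 0, 2, 0, 2, 0, 0, 0, 0, 2, -2, 0, -2, -4, 0, 2],
  [0, -2, 0, 2, 0, 0, 0, 0, 0, 0, 2, 0, 2, 0, 0, 0, 0, 2, -2, 0, -2, 4, 0, 2],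
  [-1, -3, -1, 1, -1, -1, -1, -1, -1, -1, 1, -1, 1, -1, -1, -1, -1, 1, -3, -1, -3, -1, -1, 1],
  [1, -5, 1, -1, 1, 1, 1, 1, 1, 1, -1, 1, -1, 1, 1, 1, 1, -1, 3, 1, 3, 1, 1, -1],
  [0, -6, 0, 2, 0, 0, 0, 0, 0, 0, 2, 0, 2, 0, 0, 0, 0, 2, -2, 0, -2, 0, 0, 2],
  [0, -2, 0, -2, 0, 0, 0, 0, 0, 0, -2, 0, -2, 0, 0, 0, 0, -2, 2, 0, 2, 0, 0, -2],
  [-2, -2, 0, 0, 0, 0, -2, 0, -2, -2, 0, 0, 0, 0, 0, -2, 0, 0, 2, 0, 0, 2, 0, 0],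
  [2, -6, 0, 0, 0, 0, 2, 0, 2, 2, 0, 0, 0, 0, 0, 2, 0, 0, -2, 0, 0, -2, 0, 0],
  [-1, -5, 1, 1, 1, 1, -1, 1, -1, -1, 1, 1, 1, 1, 1, -1, 1, 1, 3, 1, 1, 3, 1, 1],
  [1, -3, -1, -1, -1, -1, 1, -1, 1, 1, -1, -1, -1, -1, -1, 1, -1, -1, -3, -1, -1, -3, -1, -1],
  [2, -2, 0, 0, 0, 0, 2, 0, 2, 2, 0, 0, 0, 0, 0, 2, 0, 0, -2, 0, 0, 2, 0, 0],
  [-2, -6, 0, 0, 0, 0, -2, 0, -2, -2, 0, 0, 0, 0, 0, -2, 0, 0, 2, 0, 0, -2, 0, 0],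
  [-1, -1, 1, 1, 1, 1, -1, 1, -1, -1, 1, 1, 1, 1, 1, -1, 1, 1, 3, 1, 1, -1, 1, 1],
  [-1, -1, 1, 1, 1, 1, -1, 1, -1, -1, 1, 1, 1, 1, 1, -1, 1, 1, -5, 1, 1, -1, 1, 1],
  [-2, -2, 0, 0, 0, 0, -2, 0, -2, -2, 0, 0, 0, 0, 0, -2, 0, 0, -2, 0, 4, 2, 0, 0],
  [-2, -2, 0, 0, 0, 0, -2, 0, -2, -2, 0, 0, 0, 0, 0, -2, 0, 0, -2, 0, -4, 2, 0, 0],
  [1, -3, -1, -1, -1, -1, 1, -1, 1, 1, -1, -1, -1, -1, -1, 1, -1, -1, 1, -1, 3, -3, -1, -1],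
  [-1, -5, 1, 1, 1, 1, -1, 1, -1, -1, 1, 1, 1, 1, 1, -1, 1, 1, -1, 1, -3, 3, 1, 1],
  [2, -2, 0, 0, 0, 0, 2, 0, 2, 2, 0, 0, 0, 0, 0, 2, 0, 0, 2, 0, -4, 2, 0, 0],
  [2, -2, 0, 0, 0, 0, 2, 0, 2, 2, 0, 0, 0, 0, 0, 2, 0, 0, 2, 0, 4, 2, 0, 0],
  [-1, -1, 1, 1, 1, 1, -1, 1, -1, -1, 1, 1, 1, 1, 1, -1, 1, 1, -1, 1, 5, -1, 1, 1],
  [-1, -1, 1, 1, 1, 1, -1, 1, -1, -1, 1, 1, 1, 1, 1, -1, 1, 1, -1, 1, -3, -1, 1, 1],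
  [0, -2, 0, 0, -2, 0, 0, 0, 0, 0, 0, -2, 0, -2, -2, 0, -2, 0, 0, 0, 2, 2, 0, 0],
  [0, -6, 0, 0, 2, 0, 0, 0, 0, 0, 0, 2, 0, 2, 2, 0, 2, 0, 0, 0, -2, -2, 0, 0],
  [1, -5, 1, 1, -1, 1, 1, 1, 1, 1, 1, -1, 1, -1, -1, 1, -1, 1, 1, 1, 3, 3, 1, 1],
  [-1, -3, -1, -1, 1, -1, -1, -1, -1, -1, -1, 1, -1, 1, 1, -1, 1, -1, -1, -1, -3, -3, -1, -1],
  [0, -2, 0, 0, 2, 0, 0, 0, 0, 0, 0, 2, 0, 2, 2, 0, 2, 0, 0, 0, -2, 2, 0, 0],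
  [0, -6, 0, 0, -2, 0, 0, 0, 0, 0, 0, -2, 0, -2, -2, 0, -2, 0, 0, 0, 2, -2, 0, 0],
  [1, -1, 1, 1, -1, 1, 1, 1, 1, 1, 1, -1, 1, -1, -1, 1, -1, 1, 1, 1, 3, -1, 1, 1],
  [1, -1, 1, 1, -1, 1, 1, 1, 1, 1, 1, -1, 1, -1, -1, 1, -1, 1, 1, 1, -5, -1, 1, 1],
  [0, -2, 0, 0, -2, 0, 0, 0, 0, 0, 0, -2, 0, -2, -2, 0, -2, 0, 4, 0, -2, 2, 0, 0],
  [0, -2, 0, 0, -2, 0, 0, 0, 0, 0, 0, -2, 0, -2, -2, 0, -2, 0, -4, 0, -2, 2, 0, 0],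
  [-1, -3, -1, -1, 1, -1, -1, -1, -1, -1, -1, 1, -1, 1, 1, -1, 1, -1, 3, -1, 1, -3, -1, -1],
  [1, -5, 1, 1, -1, 1, 1, 1, 1, 1, 1, -1, 1, -1, -1, 1, -1, 1, -3, 1, -1, 3, 1, 1],
  [0, -2, 0, 0, 2, 0, 0, 0, 0, 0, 0, 2, 0, 2, 2, 0, 2, 0, -4, 0, 2, 2, 0, 0],
  [0, -2, 0, 0, 2, 0, 0, 0, 0, 0, 0, 2, 0, 2, 2, 0, 2, 0, 4, 0, 2, 2, 0, 0],
  [1, -1, 1, 1, -1, 1, 1, 1, 1, 1, 1, -1, 1, -1, -1, 1, -1, 1, 5, 1, -1, -1, 1, 1],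
  [1, -1, 1, 1, -1, 1, 1, 1, 1, 1, 1, -1, 1, -1, -1, 1, -1, 1, -3, 1, -1, -1, 1, 1],
  [-1, -5, 1, -1, -1, 1, -1, 1, -1, -1, -1, -1, -1, -1, -1, -1, -1, -1, 1, 1, 1, 1, 1, -1],
  [1, -3, -1, 1, 1, -1, 1, -1, 1, 1, 1, 1, 1, 1, 1, 1, 1, 1, -1, -1, -1, -1, -1, 1],
  [-2, -2, 0, -2, -2, 0, -2, 0, -2, -2, -2, -2, -2, -2, -2, -2, -2, -2, 0, 0, 0, 0, 0, -2],
  [0, 0, -2, 0, 0, -2, 0, -2, 0, 0, 0, 0, 0, 0, 0, 0, 0, 0, -2, -2, -2, -2, -2, 0],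
  [-1, -1, 1, -1, -1, 1, -1, 1, -1, -1, -1, -1, -1, -1, -1, -1, -1, -1, 1, 1, 1, -3, 1, -1],
  [-1, -1, 1, -1, -1, 1, -1, 1, -1, -1, -1, -1, -1, -1, -1, -1, -1, -1, 1, 1, 1, 5, 1, -1],
  [0, -4, 2, 0, 0, 2, 0, 2, 0, 0, 0, 0, 0, 0, 0, 0, 0, 0, 2, 2, 2, -2, 2, 0],
  [0, -4, -2, 0, 0, -2, 0, -2, 0, 0, 0, 0, 0, 0, 0, 0, 0, 0, -2, -2, -2, 2, -2, 0],
  [1, -3, -1, 1, 1, -1, 1, -1, 1, 1, 1, 1, 1, 1, 1, 1, 1, 1, 3, -1, 3, -1, -1, 1],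
  [-1, -5, 1, -1, -1, 1, -1, 1, -1, -1, -1, -1, -1, -1, -1, -1, -1, -1, -3, 1, -3, 1, 1, -1],
  [0, 0, 2, 0, 0, 2, 0, 2, 0, 0, 0, 0, 0, 0, 0, 0, 0, 0, -2, 2, -2, 2, 2, 0],
  [2, -2, 0, -2, 2, 0, 2, 0, 2, 2, -2, 2, -2, 2, 2, 2, 2, -2, 0, 0, 0, 0, 0, -2],
  [-1, -1, 1, -1, -1, 1, -1, 1, -1, -1, -1, -1, -1, -1, -1, -1, -1, -1, -3, 1, -3, 5, 1, -1],
  [-1, -1, 1, -1, -1, 1, -1, 1, -1, -1, -1, -1, -1, -1, -1, -1, -1, -1, -3, 1, -3, -3, 1, -1],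
  [0, -4, -2, 0, 0, -2, 0, -2, 0, 0, 0, 0, 0, 0, 0, 0, 0, 0, 2, -2, 2, 2, -2, 0],
  [0, -4, 2, 0, 0, 2, 0, 2, 0, 0, 0, 0, 0, 0, 0, 0, 0, 0, -2, 2, -2, -2, 2, 0],
  [-1, -5, -1, 1, 1, -1, -1, -1, -1, -1, 1, 1, 1, 1, 1, -1, 1, 1, 1, -1, 3, -3, -1, 1],
  [1, -3, 1, -1, -1, 1, 1, 1, 1, 1, -1, -1, -1, -1, -1, 1, -1, -1, -1, 1, -3, 3, 1, -1],
  [0, -4, 0, 2, -2, 0, 0, 0, 0, 0, 2, -2, 2, -2, -2, 0, -2, 2, 2, 0, 0, 2, 0, 2],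
  [0, -4, 0, -2, 2, 0, 0, 0, 0, 0, -2, 2, -2, 2, 2, 0, 2, -2, -2, 0, 0, -2, 0, -2],
  [-1, -1, -1, 1, 1, -1, -1, -1, -1, -1, 1, 1, 1, 1, 1, -1, 1, 1, 1, -1, -5, 1, -1, 1],
  [-1, -1, -1, 1, 1, -1, -1, -1, -1, -1, 1, 1, 1, 1, 1, -1, 1, 1, 1, -1, 3, 1, -1, 1],
  [0, 0, 0, -2, 2, 0, 0, 0, 0, 0, -2, 2, -2, 2, 2, 0, 2, -2, -2, 0, 0, 2, 0, -2],
  [2, -2, 2, 0, 0, 2, 2, 2, 2, 2, 0, 0, 0, 0, 0, 2, 0, 0, 0, 2, -2, 0, 2, 0],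
  [1, -3, 1, -1, -1, 1, 1, 1, 1, 1, -1, -1, -1, -1, -1, 1, -1, -1, 3, 1, 1, 3, 1, -1],
  [-1, -5, -1, 1, 1, -1, -1, -1, -1, -1, 1, 1, 1, 1, 1, -1, 1, 1, -3, -1, -1, -3, -1, 1],
  [0, 0, 0, 2, 2, 0, 0, 0, 0, 0, 2, 2, 2, 2, 2, 0, 2, 2, -2, 0, 0, -2, 0, 2],
  [-2, -2, 2, 0, 0, 2, -2, 2, -2, -2, 0, 0, 0, 0, 0, -2, 0, 0, 0, 2, 2, 0, 2, 0],
  [-1, -1, -1, 1, 1, -1, -1, -1, -1, -1, 1, 1, 1, 1, 1, -1, 1, 1, -3, -1, -1, 1, -1, 1],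
  [-1, -1, -1, 1, 1, -1, -1, -1, -1, -1, 1, 1, 1, 1, 1, -1, 1, 1, 5, -1, -1, 1, -1, 1],
  [0, -4, 0, 2, 2, 0, 0, 0, 0, 0, 2, 2, 2, 2, 2, 0, 2, 2, -2, 0, 0, 2, 0, 2],
  [0, -4, 0, -2, -2, 0, 0, 0, 0, 0, -2, -2, -2, -2, -2, 0, -2, -2, 2, 0, 0, -2, 0, -2],
  [-2, -4, 0, 0, -2, 0, -2, 0, -2, -2, 0, -2, 0, -2, -2, -2, -2, 0, 2, 0, -2, 0, 0, 0],
  [2, -4, 0, 0, 2, 0, 2, 0, 2, 2, 0, 2, 0, 2, 2, 2, 2, 0, -2, 0, 2, 0, 0, 0],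
  [1, -1, -1, -1, 1, -1, 1, -1, 1, 1, -1, 1, -1, 1, 1, 1, 1, -1, 5, -1, 1, -1, -1, -1],
  [1, -1, -1, -1, 1, -1, 1, -1, 1, 1, -1, 1, -1, 1, 1, 1, 1, -1, -3, -1, 1, -1, -1, -1],
  [2, -4, 0, 0, -2, 0, 2, 0, 2, 2, 0, -2, 0, -2, -2, 2, -2, 0, -2, 0, -2, 0, 0, 0],
  [-2, -4, 0, 0, 2, 0, -2, 0, -2, -2, 0, 2, 0, 2, 2, -2, 2, 0, 2, 0, 2, 0, 0, 0],
  [-1, -3, 1, 1, -1, 1, -1, 1, -1, -1, 1, -1, 1, -1, -1, -1, -1, 1, 3, 1, -1, -3, 1, 1],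
  [1, -5, -1, -1, 1, -1, 1, -1, 1, 1, -1, 1, -1, 1, 1, 1, 1, -1, -3, -1, 1, 3, -1, -1],
  [-2, -4, 0, 0, -2, 0, -2, 0, -2, -2, 0, -2, 0, -2, -2, -2, -2, 0, -2, 0, 2, 0, 0, 0],
  [2, -4, 0, 0, 2, 0, 2, 0, 2, 2, 0, 2, 0, 2, 2, 2, 2, 0, 2, 0, -2, 0, 0, 0],
  [1, -1, -1, -1, 1, -1, 1, -1, 1, 1, -1, 1, -1, 1, 1, 1, 1, -1, 1, -1, 5, -1, -1, -1],
  [1, -1, -1, -1, 1, -1, 1, -1, 1, 1, -1, 1, -1, 1, 1, 1, 1, -1, 1, -1, -3, -1, -1, -1],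
  [-2, -4, 0, 0, 2, 0, -2, 0, -2, -2, 0, 2, 0, 2, 2, -2, 2, 0, -2, 0, -2, 0, 0, 0],
  [2, -4, 0, 0, -2, 0, 2, 0, 2, 2, 0, -2, 0, -2, -2, 2, -2, 0, 2, 0, 2, 0, 0, 0],
  [-1, -3, 1, 1, -1, 1, -1, 1, -1, -1, 1, -1, 1, -1, -1, -1, -1, 1, -1, 1, 3, -3, 1, 1],
  [1, -5, -1, -1, 1, -1, 1, -1, 1, 1, -1, 1, -1, 1, 1, 1, 1, -1, 1, -1, -3, 3, -1, -1],
  [0, 0, 0, 0, 0, 0, 0, 0, 0, 0, 0, 0, 0, 0, 0, 0, 0, 0, 0, 0, -4, -4, 0, 0],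
  [0, 0, 0, 0, 0, 0, 0, 0, 0, 0, 0, 0, 0, 0, 0, 0, 0, 0, 0, 0, -4, 4, 0, 0],
  [1, -3, 1, 1, 1, 1, 1, 1, 1, 1, 1, 1, 1, 1, 1, 1, 1, 1, 1, 1, -3, -3, 1, 1],
  [-1, -5, -1, -1, -1, -1, -1, -1, -1, -1, -1, -1, -1, -1, -1, -1, -1, -1, -1, -1, 3, 3, -1, -1],
  [0, -4, 0, 0, 0, 0, 0, 0, 0, 0, 0, 0, 0, 0, 0, 0, 0, 0, 0, 0, -4, 0, 0, 0],
  [0, -4, 0, 0, 0, 0, 0, 0, 0, 0, 0, 0, 0, 0, 0, 0, 0, 0, 0, 0, 4, 0, 0, 0],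
  [-1, -1, -1, -1, -1, -1, -1, -1, -1, -1, -1, -1, -1, -1, -1, -1, -1, -1, -1, -1, -5, -1, -1, -1],
  [-1, -1, -1, -1, -1, -1, -1, -1, -1, -1, -1, -1, -1, -1, -1, -1, -1, -1, -1, -1, 3, -1, -1, -1],
  [0, 0, 0, 0, 0, 0, 0, 0, 0, 0, 0, 0, 0, 0, 0, 0, 0, 0, -4, 0, 0, -4, 0, 0],
  [0, 0, 0, 0, 0, 0, 0, 0, 0, 0, 0, 0, 0, 0, 0, 0, 0, 0, -4, 0, 0, 4, 0, 0],
  [1, -3, 1, 1, 1, 1, 1, 1, 1, 1, 1, 1, 1, 1, 1, 1, 1, 1, -3, 1, 1, -3, 1, 1],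
  [-1, -5, -1, -1, -1, -1, -1, -1, -1, -1, -1, -1, -1, -1, -1, -1, -1, -1, 3, -1, -1, 3, -1, -1],
  [0, -4, 0, 0, 0, 0, 0, 0, 0, 0, 0, 0, 0, 0, 0, 0, 0, 0, -4, 0, 0, 0, 0, 0],
  [0, -4, 0, 0, 0, 0, 0, 0, 0, 0, 0, 0, 0, 0, 0, 0, 0, 0, 4, 0, 0, 0, 0, 0],
  [-1, -1, -1, -1, -1, -1, -1, -1, -1, -1, -1, -1, -1, -1, -1, -1, -1, -1, -5, -1, -1, -1, -1, -1],
  [-1, -1, -1, -1, -1, -1, -1, -1, -1, -1, -1, -1, -1, -1, -1, -1, -1, -1, 3, -1, -1, -1, -1, -1],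
  [-1, -3, 1, -1, 1, 1, -1, 1, -1, -1, -1, 1, -1, 1, 1, -1, 1, -1, 1, 1, 3, 3, 1, -1],
  [1, -5, -1, 1, -1, -1, 1, -1, 1, 1, 1, -1, 1, -1, -1, 1, -1, 1, -1, -1, -3, -3, -1, 1],
  [2, 0, 0, 2, 0, 0, 2, 0, 2, 2, 2, 0, 2, 0, 0, 2, 0, 2, 0, 0, -2, -2, 0, 2],
  [0, -2, 2, 0, -2, 2, 0, 2, 0, 0, 0, -2, 0, -2, -2, 0, -2, 0, 2, 2, 0, 0, 2, 0],
  [1, -1, -1, 1, -1, -1, 1, -1, 1, 1, 1, -1, 1, -1, -1, 1, -1, 1, -1, -1, -3, 1, -1, 1],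
  [1, -1, -1, 1, -1, -1, 1, -1, 1, 1, 1, -1, 1, -1, -1, 1, -1, 1, -1, -1, 5, 1, -1, 1],
  [2, -4, 0, 2, 0, 0, 2, 0, 2, 2, 2, 0, 2, 0, 0, 2, 0, 2, 0, 0, -2, 2, 0, 2],
  [-2, -4, 0, -2, 0, 0, -2, 0, -2, -2, -2, 0, -2, 0, 0, -2, 0, -2, 0, 0, 2, -2, 0, -2],
  [1, -5, -1, 1, -1, -1, 1, -1, 1, 1, 1, -1, 1, -1, -1, 1, -1, 1, 3, -1, 1, -3, -1, 1],
  [-1, -3, 1, -1, 1, 1, -1, 1, -1, -1, -1, 1, -1, 1, 1, -1, 1, -1, -3, 1, -1, 3, 1, -1],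
  [-2, -4, 0, 2, 0, 0, -2, 0, -2, -2, 2, 0, 2, 0, 0, -2, 0, 2, 0, 0, 2, 2, 0, 2],
  [2, -4, 0, -2, 0, 0, 2, 0, 2, 2, -2, 0, -2, 0, 0, 2, 0, -2, 0, 0, -2, -2, 0, -2],
  [1, -1, -1, 1, -1, -1, 1, -1, 1, 1, 1, -1, 1, -1, -1, 1, -1, 1, -5, -1, 1, 1, -1, 1],
  [1, -1, -1, 1, -1, -1, 1, -1, 1, 1, 1, -1, 1, -1, -1, 1, -1, 1, 3, -1, 1, 1, -1, 1],
  [2, 0, 0, -2, 0, 0, 2, 0, 2, 2, -2, 0, -2, 0, 0, 2, 0, -2, 0, 0, -2, 2, 0, -2],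
  [0, -2, 2, 0, 2, 2, 0, 2, 0, 0, 0, 2, 0, 2, 2, 0, 2, 0, -2, 2, 0, 0, 2, 0]]

/-- indices of the traces of the generators of the lattice -/
def cov : List ℕ := [10, 168, 95, 56, 39, 144, 90, 198, 56, 187, 254, 250, 110, 224, 9, 5, 1, 232, 5, 224, 5, 224, 224, 1, 232, 1, 232, 232, 224, 232, 1, 228, 5, 236, 13, 5, 1]

/-- generators of the centraliser -/
def gens : List (List Stp) := [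
  [.mono 548519373619860685082363251939354245 0],
  [.mono 337014204410925114804563601764075187 0],
  [.mono 984818244535754528103549039458486304 8126628],
  [.mono 984818244535754528103549039458486304 2392899],
  [.mono 984818244535754528103549039458486304 9835530],
  [.mono 984818244535754528103549039458486304 3237906],
  [.mono 767475469564102961856769386828878849 15356493,
    .mono 984818244535754528103549039458486304 16777215,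
    .xi,
    .mono 193763287585392269760936624449194509 2603848,
    .xi,
    .mono 731154867559091702658897383708563845 13443616]]

/-- their action on the basis classes -/
def imgs : List (List ℕ) := [
  [1, 231, 8, 4, 244, 197, 134, 175],
  [1, 231, 229, 233, 219, 244, 64, 177],
  [1, 177, 5, 8, 67, 123, 160, 59],
  [1, 123, 4, 9, 133, 177, 69, 21],
  [1, 133, 5, 8, 123, 67, 164, 6],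
  [1, 67, 4, 9, 177, 133, 64, 37],
  [68, 2, 164, 123, 232, 197, 83, 9]]

/-- generators of the centraliser in M24 -/
def pgens : List ℕ := [178567945256496434584144170616995463, 227230195408229768781346917295268492]

/-- the centraliser in M24, each as generator times an earlier one -/
def pList : List (ℕ × ℕ × ℕ) := [
  (984818244535754528103549039458486304, 0, 0),
  (178567945256496434584144170616995463, 0, 0),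
  (227230195408229768781346917295268492, 0, 1),
  (501934081817767970698677277931654182, 1, 0),
  (562822567508100945780880945456884393, 1, 1),
  (25497828063603306492041384300942384, 2, 0),
  (263024053368589034006537698781159079, 2, 1),
  (684816572028717437345730381684875926, 3, 0),
  (301220663999496009079903361033110147, 3, 1),
  (974408973713169482862801920744076866, 4, 0),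
  (584890407460268923300425937223568433, 4, 1),
  (499335535494022998598136555248327300, 5, 1),
  (930785789767160487605795400886882886, 6, 0),
  (150156049386423433583218019118945321, 6, 1),
  (179890238528352175555219889502674607, 7, 1),
  (256555632197594486015345174191250475, 8, 0),
  (404513785916031740530107339578290870, 8, 1),
  (222037149611663523316781274122369608, 9, 1),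
  (435729542194029366142048047445975694, 10, 0),
  (468038415512805053115957840002318978, 10, 1),
  (674457409300755939956210468146075692, 11, 0),
  (306409596128080668104447324749631149, 11, 1),
  (642086739009120497757595269264848451, 12, 1),
  (913911811600788940526430081239325329, 13, 1),
  (516189251053457651547119568106852947, 14, 0),
  (565419373266702395264034704077624362, 14, 1),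
  (133278845172834011858545296104826512, 15, 1),
  (88335426463265545520878270811390537, 16, 0),
  (713520852322160921755409933467884591, 16, 1),
  (22880759687599166455692871131769509, 17, 0),
  (270837909838190811029441161296588375, 17, 1),
  (802273748152664228818234706141372075, 18, 1),
  (695225345193184861305359233385444008, 19, 1),
  (383766112657980867641041538709215278, 21, 1),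
  (430516233763085072217399439902784086, 22, 1),
  (639465773608570212270267282590011042, 23, 1),
  (309007766114797109826692331428984384, 24, 1),
  (966642134188204903392751618169602701, 25, 0),
  (582269065723315156334515248315898515, 25, 1),
  (486237321274188521591838241286686755, 26, 0),
  (917802273387746699284060354140292772, 26, 1),
  (350020516203547697991668614735008337, 27, 1),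
  (90932997288154160702197430077269642, 28, 1),
  (130661011730542706124031382290514501, 30, 1),
  (173401554765459920650255140372454455, 32, 1),
  (718710038223990149802938900262141579, 33, 1),
  (810064809211473291727498232107085391, 34, 1),
  (425347584032909437257301250612287528, 35, 1),
  (388962623466582080041356275243825740, 36, 1),
  (237611107494271615300759221751722670, 37, 1),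
  (473255208723106630652582431292821152, 38, 1),
  (652468148749988624486261760405276717, 40, 1),
  (337014204410925114804563601764075187, 42, 1),
  (548519373619860685082363251939354245, 44, 1),
  (105208330078980724482010732484012720, 45, 1),
  (6030651505136275951559138583298634, 46, 1),
  (800979315973841377764055474831081111, 47, 1),
  (727775268869724356852609432997834311, 48, 1),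
  (586187388564028260235112355221096102, 53, 1),
  (335737485914102672000259490555579428, 54, 1)]

/-- the fixed words -/
def fixedWords : List ℕ := [0, 8126628, 2392899, 5800935, 9835530, 15340718, 11704137, 13539309, 3237906, 5073078, 1436497, 6941685, 10976280, 14384316, 8650587, 16777215]

/-- a basis of them -/
def fixedBasis : List ℕ := [8126628, 2392899, 9835530, 3237906]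

/-- the orbit of the class of the cross, each as generator applied to an earlier one -/
def orb : List (ℕ × ℕ × ℕ) := [
  (68, 1, 6),
  (142, 68, 0),
  (165, 68, 1),
  (65, 68, 3),
  (161, 68, 4),
  (247, 68, 6),
  (90, 142, 1),
  (135, 142, 2),
  (99, 142, 3),
  (107, 142, 5),
  (212, 142, 6),
  (44, 165, 6),
  (23, 65, 6),
  (136, 161, 6),
  (246, 247, 0),
  (221, 247, 1),
  (22, 247, 2),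
  (26, 247, 3),
  (27, 247, 4),
  (149, 247, 6),
  (145, 90, 0),
  (178, 90, 3),
  (82, 90, 4),
  (187, 90, 5),
  (194, 90, 6),
  (235, 135, 6),
  (208, 99, 6),
  (171, 107, 6),
  (213, 212, 0),
  (207, 212, 1),
  (209, 212, 3),
  (220, 212, 4),
  (201, 44, 0),
  (248, 44, 1),
  (118, 44, 2),
  (188, 44, 3),
  (78, 44, 4),
  (216, 23, 1),
  (251, 23, 3),
  (250, 23, 4),
  (10, 23, 6),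
  (88, 136, 1),
  (51, 136, 2),
  (28, 136, 3),
  (14, 136, 4),
  (114, 136, 6),
  (39, 221, 1),
  (217, 221, 3),
  (41, 221, 6),
  (124, 149, 2),
  (121, 149, 4),
  (38, 178, 6),
  (185, 82, 6),
  (25, 187, 6),
  (206, 194, 0),
  (42, 194, 2),
  (43, 194, 3),
  (146, 235, 3),
  (109, 235, 4),
  (162, 235, 6),
  (74, 171, 1),
  (215, 171, 3),
  (241, 171, 6),
  (195, 207, 0),
  (101, 201, 6),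
  (55, 248, 1),
  (12, 248, 6),
  (227, 10, 0),
  (141, 10, 4),
  (192, 88, 6),
  (80, 114, 0),
  (155, 185, 0),
  (13, 109, 6),
  (223, 162, 3)]

/-- program of an element normalising the subgroup -/
def progK : List Stp := [.mono 588783442728522672945726545894737952 0]

/-- invariant sets of classes -/
def blocks : List (List ℕ) := [
  [1, 12, 13, 22, 23, 26, 27, 194, 195, 206, 207, 212, 213, 216, 217],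
  [1, 12, 13, 38, 39, 42, 43, 208, 209, 220, 221, 246, 247, 250, 251],
  [10, 22, 28, 68, 78, 82, 88, 135, 141, 145, 155, 195, 201, 213, 223],
  [10, 38, 44, 80, 90, 118, 124, 135, 141, 161, 171, 215, 221, 241, 251],
  [14, 23, 25, 101, 107, 114, 124, 165, 171, 178, 188, 192, 206, 215, 217],
  [14, 39, 41, 68, 74, 99, 109, 149, 155, 178, 188, 209, 223, 246, 248],
  [25, 42, 51, 65, 88, 107, 114, 136, 145, 162, 187, 201, 208, 227, 250],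
  [26, 41, 51, 74, 80, 99, 121, 136, 146, 161, 187, 194, 216, 235, 241],
  [27, 44, 55, 65, 90, 109, 118, 142, 149, 162, 185, 207, 212, 227, 248],
  [28, 43, 55, 78, 82, 101, 121, 142, 146, 165, 185, 192, 220, 235, 247]]

end CfsgLib.Spor.Loc.Five
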