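import Cfsg.Agent.Lib.Spor.Loc.Move
import Cfsg.Agent.Lib.Spor.CentralizerCert

/-!
The centraliser of an element of `2^12:M24` in the automorphism group of the lattice, from a table of
fixed classes, a certified orbit and its stabiliser inside the cross stabiliser.
-/

set_option autoImplicit false
set_option linter.unusedSectionVars false

namespace CfsgLib.Spor.Loc

open Cfsg
open scoped Pointwise symmDiff

/-! ### The action on the fixed classes -/

variable {bh : Co0} {r : ℕ} {tb : List (List ℤ)} (T : Tab bh r tb)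
include T

theorem Tab.smul_fixed {g : Co0} (hg : g * bh = bh * g) (i : Fin (2 ^ r)) :
    ∃ j : Fin (2 ^ r), cl (g • tv tb i) = cl (tv tb j) := by
  obtain ⟨j, hj, h⟩ := T.cover (g • tv tb i) (by
    rw [← mul_smul, ← hg, mul_smul]
    exact cl_smul_congr g (T.fixed i i.2))
  exact ⟨⟨j, hj⟩, h⟩

omit T in
/-- the centraliser of the automorphism -/
abbrev CB (bh : Co0) : Subgroup Co0 := Subgroup.centralizer ({bh} : Set Co0)

/-- the index of the image of a fixed class -/
noncomputable def Tab.img (g : CB bh) (i : Fin (2 ^ r)) : Fin (2 ^ r) :=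
  (T.smul_fixed (Subgroup.mem_centralizer_singleton_iff.1 g.2) i).choose

theorem Tab.img_spec (g : CB bh) (i : Fin (2 ^ r)) :
    cl ((g : Co0) • tv tb i) = cl (tv tb (T.img g i)) :=
  (T.smul_fixed (Subgroup.mem_centralizer_singleton_iff.1 g.2) i).choose_spec

theorem Tab.img_unique (g : CB bh) (i : Fin (2 ^ r)) {j : ℕ} (hj : j < 2 ^ r)
    (h : cl ((g : Co0) • tv tb i) = cl (tv tb j)) : (T.img g i : ℕ) = j :=
  T.inj cl_ne_zero (T.img g i).2 hj ((T.img_spec g i).symm.trans h)

theorem Tab.img_one (i : Fin (2 ^ r)) : T.img 1 i = i :=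
  Fin.ext (T.img_unique 1 i i.2 (by rw [Subgroup.coe_one, one_smul]))

theorem Tab.img_mul (g h : CB bh) (i : Fin (2 ^ r)) : T.img (g * h) i = T.img g (T.img h i) :=
  Fin.ext (T.img_unique (g * h) i (T.img g (T.img h i)).2 (by
    rw [Subgroup.coe_mul, mul_smul, cl_smul_congr _ (T.img_spec h i), T.img_spec]))

/-- the action of the centraliser on the fixed classes -/
noncomputable def Tab.act : CB bh →* Equiv.Perm (Fin (2 ^ r)) where
  toFun g :=
    { toFun := T.img g
      invFun := T.img g⁻¹
      left_inv := fun i => by rw [← T.img_mul, inv_mul_cancel, T.img_one]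
      right_inv := fun i => by rw [← T.img_mul, mul_inv_cancel, T.img_one] }
  map_one' := Equiv.ext fun i => T.img_one i
  map_mul' g h := Equiv.ext fun i => T.img_mul g h i

theorem Tab.act_eq_one {g : CB bh}
    (h : ∀ v : leechLattice, cl (bh • v) = cl v → cl ((g : Co0) • v) = cl v) : T.act g = 1 :=
  Equiv.ext fun i => Fin.ext (T.img_unique g i i.2 (h _ (T.fixed i i.2)))

theorem Tab.act_self : T.act ⟨bh, Subgroup.mem_centralizer_singleton_iff.2 rfl⟩ = 1 :=
  T.act_eq_one fun _ h => h

/-- the extension of a list of images of the basis entries by linearity -/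
theorem Tab.img_of_basis (g : CB bh) {l : List ℕ}
    (hl : ∀ j < r, l.getD j 0 < 2 ^ r)
    (h : ∀ j < r, cl ((g : Co0) • tv tb (2 ^ j)) = cl (tv tb (l.getD j 0))) :
    ∀ i : Fin (2 ^ r), (T.img g i : ℕ) =
      (List.range r).foldr (fun j acc => (if (i : ℕ).testBit j then l.getD j 0 else 0) ^^^ acc) 0 := by
  intro i
  have hlt : ∀ L : List ℕ, (∀ j ∈ L, j < r) →
      L.foldr (fun j acc => (if (i : ℕ).testBit j then l.getD j 0 else 0) ^^^ acc) 0 < 2 ^ r := by
    intro L hL
    induction L with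
    | nil => exact Nat.two_pow_pos r
    | cons a L ih =>
      refine Nat.xor_lt_two_pow ?_ (ih fun j hj => hL j (List.mem_cons_of_mem _ hj))
      split
      · exact hl a (hL a List.mem_cons_self)
      · exact Nat.two_pow_pos r
  refine T.img_unique g i (hlt _ fun j hj => List.mem_range.1 hj) ?_
  have key : ∀ n ≤ r, ∀ m < 2 ^ n, cl ((g : Co0) • tv tb m) = cl (tv tb
      ((List.range n).foldr (fun j acc => (if m.testBit j then l.getD j 0 else 0) ^^^ acc) 0)) := by
    intro n
    induction n with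
    | zero =>
      intro _ m hm
      obtain rfl : m = 0 := by simpa using hm
      rw [List.range_zero, List.foldr_nil, cl_smul_congr _ (show cl (tv tb 0) = cl 0 by rw [T.zero, map_zero]),
        show (g : Co0) • (0 : leechLattice) = 0 from (co0Hom _).map_zero, T.zero, map_zero]
    | succ n ih =>
      intro hn m hm
      have hfold : ∀ (L : List ℕ) (x : ℕ) (F : ℕ → ℕ),
          L.foldr (fun j acc => F j ^^^ acc) x = L.foldr (fun j acc => F j ^^^ acc) 0 ^^^ x := by
        intro L x F
        induction L with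
        | nil => simp
        | cons a L ih => simp only [List.foldr_cons, ih, Nat.xor_assoc]
      rw [List.range_succ, List.foldr_append]
      simp only [List.foldr_cons, List.foldr_nil, Nat.xor_zero]
      rw [hfold _ _ (fun j => if m.testBit j then l.getD j 0 else 0)]
      have hlt' : ∀ q : ℕ, (List.range n).foldr
          (fun j acc => (if q.testBit j then l.getD j 0 else 0) ^^^ acc) 0 < 2 ^ r := by
        intro q
        have : ∀ L : List ℕ, (∀ j ∈ L, j < r) →
            L.foldr (fun j acc => (if q.testBit j then l.getD j 0 else 0) ^^^ acc) 0 < 2 ^ r := by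
          intro L hL
          induction L with
          | nil => exact Nat.two_pow_pos r
          | cons a L ih =>
            refine Nat.xor_lt_two_pow ?_ (ih fun j hj => hL j (List.mem_cons_of_mem _ hj))
            split
            · exact hl a (hL a List.mem_cons_self)
            · exact Nat.two_pow_pos r
        exact this _ fun j hj => lt_of_lt_of_le (List.mem_range.1 hj) (by omega)
      have hn2 : 2 ^ n < 2 ^ r := Nat.pow_lt_pow_right (by norm_num) (by omega)
      by_cases hb : m < 2 ^ n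
      · rw [Nat.testBit_lt_two_pow hb, if_neg Bool.false_ne_true, Nat.xor_zero]
        exact ih (by omega) m hb
      · obtain ⟨k, rfl⟩ : ∃ k, m = 2 ^ n + k := ⟨m - 2 ^ n, by omega⟩
        have hk : k < 2 ^ n := by rw [pow_succ] at hm; omega
        rw [Nat.testBit_two_pow_add_eq, Nat.testBit_lt_two_pow hk, Bool.not_false, if_pos rfl]
        have hx : 2 ^ n + k = k ^^^ 2 ^ n := by
          refine Nat.eq_of_testBit_eq fun j => ?_
          rw [Nat.testBit_xor, Nat.testBit_two_pow]
          rcases lt_trichotomy j n with h' | rfl | h'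
          · rw [Nat.testBit_two_pow_add_gt h', decide_eq_false (by omega), Bool.xor_false]
          · rw [Nat.testBit_two_pow_add_eq, Nat.testBit_lt_two_pow hk]; simp
          · have hlt : 2 ^ n + k < 2 ^ j := lt_of_lt_of_le (by rw [pow_succ] at hm ⊢; omega)
              (Nat.pow_le_pow_right (by norm_num) (show n + 1 ≤ j by omega))
            rw [Nat.testBit_lt_two_pow hlt, Nat.testBit_lt_two_pow (lt_of_le_of_lt (by omega) hlt),
              decide_eq_false (by omega), Bool.xor_false]
        have e1 : cl (tv tb (2 ^ n + k)) = cl (tv tb k + tv tb (2 ^ n)) := by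
          rw [hx, T.xor k (by omega) _ hn2, map_add]
        rw [cl_smul_congr _ e1, coe_smul_add, map_add, h n (by omega), ih (by omega) k hk,
          T.xor _ (hlt' _) _ (hl n (by omega))]
        congr 3
        refine List.foldr_ext _ _ _ fun j hj acc => ?_
        rw [Nat.testBit_two_pow_add_gt (List.mem_range.1 hj)]
  exact key r le_rfl i i.2

omit T

/-! ### A certified generator -/

/-- image of an index under the linear extension of a list of basis images -/
def lext (r : ℕ) (l : List ℕ) (i : ℕ) : ℕ :=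
  (List.range r).foldr (fun j acc => (if i.testBit j then l.getD j 0 else 0) ^^^ acc) 0

/-- the program commutes with `Pb` and moves the basis entries as listed -/
def genOK (Pb P : List Stp) (r : ℕ) (tb : List (List ℤ)) (l : List ℕ) : Bool :=
  P.all Stp.ok && Co1Out.sameOK (Pb ++ P) (P ++ Pb) &&
    ((List.range r).all fun j => Nat.blt (l.getD j 0) (2 ^ r) &&
      congB (Co1Out.runF P (tb.getD (2 ^ j) [])) (tb.getD (l.getD j 0) []))

theorem exists_gen {Pb : List Stp} (hb : ActsAs bh (runP Pb)) (T : Tab bh r tb) {P : List Stp}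
    {l : List ℕ} (h : genOK Pb P r tb l = true) :
    ∃ g : CB bh, ActsAs (g : Co0) (runP P) ∧ ∀ i : Fin (2 ^ r), (T.img g i : ℕ) = lext r l i := by
  simp only [genOK, Bool.and_eq_true, List.all_eq_true (p := fun j => Nat.blt _ _ && _),
    List.mem_range, Nat.blt_eq] at h
  obtain ⟨⟨h1, h2⟩, h3⟩ := h
  obtain ⟨g, -, hg⟩ := exists_prog h1
  have hc : g * bh = bh * g := Co1Out.eq_of_sameOK (Co1Out.actsAs_mul hg hb)
    (Co1Out.actsAs_mul hb hg) h2
  refine ⟨⟨g, Subgroup.mem_centralizer_singleton_iff.2 hc⟩, hg,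
    T.img_of_basis _ (fun j hj => (h3 j hj).1) fun j hj => cl_of_congB ?_⟩
  have hj' : 2 ^ j < 2 ^ r := Nat.pow_lt_pow_right (by norm_num) hj
  rw [hg, tv, tv, lOf_toL (T.entry _ hj'), lOf_toL (T.entry _ (h3 j hj).1), ← Co1Out.runF_eq]
  exact (h3 j hj).2

/-! ### Orbit and stabiliser -/

/-- every entry `(i, parent, generator)` is the image of an earlier one or the base -/
def orbitOK (r t : ℕ) (ls : List (List ℕ)) : List (ℕ × ℕ × ℕ) → List ℕ → Bool
  | [], _ => true
  | (i, par, k) :: rest, seen =>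
    seen.contains par && Nat.blt k ls.length && Nat.blt par (2 ^ r) &&
      Nat.beq (lext r (ls.getD k []) par) i && orbitOK r t ls rest (i :: seen)

theorem reach_orbit (T : Tab bh r tb) {ls : List (List ℕ)} {S : Subgroup (CB bh)}
    (hgens : ∀ k < ls.length, ∃ g ∈ S, ∀ i : Fin (2 ^ r), (T.img g i : ℕ) = lext r (ls.getD k []) i)
    {t : ℕ} (ht : t < 2 ^ r) :
    ∀ (L : List (ℕ × ℕ × ℕ)) (seen : List ℕ),
      (∀ i ∈ seen, i < 2 ^ r ∧ ∃ g ∈ S, (T.img g ⟨t, ht⟩ : ℕ) = i) →
      orbitOK r t ls L seen = true →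
      ∀ i ∈ L.map Prod.fst ++ seen, i < 2 ^ r ∧ ∃ g ∈ S, (T.img g ⟨t, ht⟩ : ℕ) = i
  | [], seen, hs, _, i, hi => hs i (by simpa using hi)
  | (j, par, k) :: rest, seen, hs, h, i, hi => by
    simp only [orbitOK, Bool.and_eq_true, List.contains_iff_mem, Nat.blt_eq, Nat.beq_eq] at h
    obtain ⟨⟨⟨⟨hp, hk⟩, hpr⟩, hj⟩, hrest⟩ := h
    obtain ⟨-, g, hg, hgi⟩ := hs par hp
    obtain ⟨g', hg', hg'i⟩ := hgens k hk
    have hnew : j < 2 ^ r ∧ ∃ g ∈ S, (T.img g ⟨t, ht⟩ : ℕ) = j := by
      have e1 : (T.img (g' * g) ⟨t, ht⟩ : ℕ) = j := by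
        rw [T.img_mul, hg'i, hgi, hj]
      exact ⟨e1 ▸ (T.img _ _).2, g' * g, mul_mem hg' hg, e1⟩
    refine reach_orbit T hgens ht rest (j :: seen) ?_ hrest i ?_
    · intro a ha
      rcases List.mem_cons.1 ha with rfl | ha
      · exact hnew
      · exact hs a ha
    · simp only [List.map_cons, List.cons_append, List.mem_cons, List.mem_append] at hi ⊢
      tauto

/-- The centraliser is generated as soon as its part in the cross stabiliser is and the listed
classes are all that can be reached. -/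
theorem eq_top_of_orbit (T : Tab bh r tb) {t : ℕ} (ht : t < 2 ^ r)
    (htop : cl (tv tb t) = cl eTop) (O : List ℕ) (S : Subgroup (CB bh))
    (hall : ∀ g : CB bh, (T.img g ⟨t, ht⟩ : ℕ) ∈ O)
    (hO : ∀ i ∈ O, ∃ g ∈ S, (T.img g ⟨t, ht⟩ : ℕ) = i)
    (hstab : ∀ g : CB bh, (g : Co0) ∈ crossStab → g ∈ S) : S = ⊤ := by
  refine eq_top_iff.2 fun g _ => ?_
  obtain ⟨h, hh, hhi⟩ := hO _ (hall g)
  have hfix : T.img (h⁻¹ * g) ⟨t, ht⟩ = ⟨t, ht⟩ := by
    rw [T.img_mul, ← show T.img h ⟨t, ht⟩ = T.img g ⟨t, ht⟩ from Fin.ext hhi, ← T.img_mul,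
      inv_mul_cancel, T.img_one]
  have := hstab (h⁻¹ * g) (mem_crossStab_of_cl (by
    rw [cl_smul_congr _ htop.symm, T.img_spec _ ⟨t, ht⟩, hfix, htop]))
  simpa using mul_mem hh this

/-- At most orbit times stabiliser. -/
theorem card_le_orbit (T : Tab bh r tb) {t : ℕ} (ht : t < 2 ^ r)
    (htop : cl (tv tb t) = cl eTop) {O : List ℕ}
    (hall : ∀ g : CB bh, (T.img g ⟨t, ht⟩ : ℕ) ∈ O) {m : ℕ}
    (hstab : Nat.card ↥(crossStab ⊓ CB bh) ≤ m) : Nat.card (CB bh) ≤ O.length * m := by
  classical
  choose! h hh using fun i : ℕ => fun hi : ∃ g : CB bh, (T.img g ⟨t, ht⟩ : ℕ) = i => hi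
  let F : CB bh → O.toFinset × ↥(crossStab ⊓ CB bh) := fun g =>
    (⟨_, List.mem_toFinset.2 (hall g)⟩,
      ⟨((h (T.img g ⟨t, ht⟩ : ℕ))⁻¹ * g : CB bh).1, by
        refine mem_crossStab_of_cl ?_
        have hfix : T.img ((h (T.img g ⟨t, ht⟩ : ℕ))⁻¹ * g) ⟨t, ht⟩ = ⟨t, ht⟩ := by
          have e : T.img (h (T.img g ⟨t, ht⟩ : ℕ)) ⟨t, ht⟩ = T.img g ⟨t, ht⟩ :=
            Fin.ext (hh _ ⟨g, rfl⟩)
          rw [T.img_mul]
          exact (congrArg (T.img _) e.symm).trans
            (by rw [← T.img_mul, inv_mul_cancel, T.img_one])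
        rw [cl_smul_congr _ htop.symm, T.img_spec _ ⟨t, ht⟩, hfix, htop],
        ((h (T.img g ⟨t, ht⟩ : ℕ))⁻¹ * g).2⟩)
  have hinj : Function.Injective F := by
      intro g g' e
      obtain ⟨e1, e2⟩ := Prod.mk.inj e
      have e1' : (T.img g ⟨t, ht⟩ : ℕ) = T.img g' ⟨t, ht⟩ := congrArg Subtype.val e1
      have e2' := congrArg Subtype.val e2
      simp only [e1', Subgroup.coe_mul, Subgroup.coe_inv, mul_right_inj] at e2'
      exact Subtype.ext e2'
  refine (Nat.card_le_card_of_injective F hinj).trans ?_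
  rw [Nat.card_prod, Nat.card_eq_fintype_card, Fintype.card_coe]
  exact Nat.mul_le_mul (List.toFinset_card_le _) hstab

/-- The stabiliser consists of monomial elements from the two listed centralisers. -/
theorem stab_cases {A : ↥M24} (hbh : bh = permEl A) {g : Co0}
    (hg : g ∈ crossStab) (hc : g * bh = bh * g) :
    ∃ (σ : ↥M24) (c : ↥(supports (golayCode : Set (GolayPt → ZMod 2)))),
      σ * A = A * σ ∧ (A : Equiv.Perm GolayPt) • (c : Finset GolayPt) = c ∧
      g = monoEl (σ, c) ∧ g = epsEl c * permEl σ := by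
  obtain ⟨⟨σ, c⟩, rfl⟩ := exists_monoEl_of_mem hg
  rw [hbh, permEl, monoEl_mul, monoEl_mul] at hc
  obtain ⟨h1, h2⟩ := Prod.mk.inj (monoEl_injective hc)
  refine ⟨σ, c, h1, ?_, rfl, ?_⟩
  · have h3 := congrArg Subtype.val h2
    simp only [Finset.smul_finset_empty] at h3
    have e1 : (c : Finset GolayPt) ∆ ∅ = c := symmDiff_bot _
    have e2 : (∅ : Finset GolayPt) ∆ ((A : Equiv.Perm GolayPt) • (c : Finset GolayPt)) =
        (A : Equiv.Perm GolayPt) • (c : Finset GolayPt) := bot_symmDiff _
    rw [e1, e2] at h3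
    exact h3.symm
  · rw [epsEl, permEl, monoEl_mul]
    congr 1
    exact Prod.ext (one_mul σ).symm (Subtype.ext (by
      simp only [Finset.smul_finset_empty]; exact (symmDiff_bot _).symm))

/-- The kernel of a surjection from the centraliser, by counting. -/
theorem ker_of_card {p : ℕ} (hp : p.Prime) (hodd : Odd p) (hord : orderOf bh = p)
    {H : Type*} [Group H] [Finite H] (φ : CB bh →* H) (hs : Function.Surjective φ)
    (hb : φ ⟨bh, Subgroup.mem_centralizer_singleton_iff.2 rfl⟩ = 1)
    (hneg : φ ⟨negEl, Subgroup.mem_centralizer_singleton_iff.2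
      (Subgroup.mem_center_iff.1 negEl_central bh).symm⟩ = 1)
    (hcard : Nat.card (CB bh) ≤ 2 * p * Nat.card H) :
    ∀ g : CB bh, φ g = 1 ↔
      (QuotientGroup.mk (g : Co0) : Cfsg.Spor.Co1) ∈
        Subgroup.zpowers (QuotientGroup.mk bh : Cfsg.Spor.Co1) := by
  classical
  let π : CB bh →* Cfsg.Spor.Co1 := (QuotientGroup.mk' (Subgroup.center Co0)).comp (CB bh).subtype
  set K := (Subgroup.zpowers (QuotientGroup.mk bh : Cfsg.Spor.Co1)).comap π with hK
  let bC : CB bh := ⟨bh, Subgroup.mem_centralizer_singleton_iff.2 rfl⟩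
  have hle : K ≤ φ.ker := by
    intro g hg
    obtain ⟨i, hi⟩ := Subgroup.mem_zpowers_iff.1 hg
    have hcen : (((bC ^ i)⁻¹ * g : CB bh) : Co0) ∈ Subgroup.center Co0 := by
      rw [← QuotientGroup.eq_one_iff, Subgroup.coe_mul, Subgroup.coe_inv, SubgroupClass.coe_zpow,
        QuotientGroup.mk_mul, QuotientGroup.mk_inv, QuotientGroup.mk_zpow, hi]
      exact inv_mul_cancel _
    have h1 : φ ((bC ^ i)⁻¹ * g) = 1 := by
      rcases eq_of_central hcen with h | h
      · rw [show (bC ^ i)⁻¹ * g = 1 from Subtype.ext h, map_one]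
      · rw [show (bC ^ i)⁻¹ * g = ⟨negEl, Subgroup.mem_centralizer_singleton_iff.2
          (Subgroup.mem_center_iff.1 negEl_central bh).symm⟩ from Subtype.ext h, hneg]
    rwa [map_mul, map_inv, map_zpow, hb, one_zpow, inv_one, one_mul] at h1
  have hbig : 2 * p ≤ Nat.card K := by
    let F : Bool × Fin p → K := fun t =>
      ⟨(if t.1 then ⟨negEl, Subgroup.mem_centralizer_singleton_iff.2
          (Subgroup.mem_center_iff.1 negEl_central bh).symm⟩ else 1) * bC ^ (t.2 : ℕ), by
        rw [hK, Subgroup.mem_comap, map_mul, map_pow]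
        refine mul_mem ?_ (pow_mem (Subgroup.mem_zpowers _) _)
        have hneg1 : π ⟨negEl, Subgroup.mem_centralizer_singleton_iff.2
            (Subgroup.mem_center_iff.1 negEl_central bh).symm⟩ = 1 :=
          (QuotientGroup.eq_one_iff _).2 negEl_central
        split_ifs
        · rw [hneg1]; exact one_mem _
        · rw [map_one]; exact one_mem _⟩
    have hF : Function.Injective F := by
      rintro ⟨s, i⟩ ⟨t, j⟩ h
      have h0 : (if s then negEl else 1) * bh ^ (i : ℕ) = (if t then negEl else 1) * bh ^ (j : ℕ) := by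
        have := congrArg (fun x : K => ((x : CB bh) : Co0)) h
        simp only [F, Subgroup.coe_mul, SubmonoidClass.coe_pow] at this
        cases s <;> cases t <;> simpa using this
      have hne : ∀ a c : Fin p, negEl * bh ^ (a : ℕ) ≠ bh ^ (c : ℕ) := by
        intro a c e
        have h2 : negEl = bh ^ (c : ℕ) * (bh ^ (a : ℕ))⁻¹ := eq_mul_inv_of_mul_eq e
        have hnp : negEl ^ p = 1 := by
          rw [h2, ((Commute.pow_pow (Commute.refl bh) _ _).inv_right).mul_pow, ← pow_mul, inv_pow,
            ← pow_mul, mul_comm (c : ℕ), mul_comm (a : ℕ), pow_mul, pow_mul,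
            show bh ^ p = 1 from hord ▸ pow_orderOf_eq_one bh, one_pow, one_pow, inv_one, one_mul]
        obtain ⟨k, hk⟩ := hodd
        have hn2 : negEl ^ 2 = 1 := by
          rw [pow_two]
          exact co0_ext fun i => by rw [mul_smul, negEl_smul, negEl_smul, neg_neg, one_smul]
        rw [hk, pow_succ, pow_mul, hn2, one_pow, one_mul] at hnp
        exact negEl_ne_one hnp
      have hij : ∀ a c : Fin p, bh ^ (a : ℕ) = bh ^ (c : ℕ) → a = c := fun a c e => Fin.ext
        (pow_injOn_Iio_orderOf (Set.mem_Iio.2 (hord ▸ a.2)) (Set.mem_Iio.2 (hord ▸ c.2)) e)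
      cases s <;> cases t <;> simp only [Bool.false_eq_true, if_false, if_true, one_mul,
        mul_right_inj] at h0
      · rw [hij i j h0]
      · exact absurd h0.symm (hne j i)
      · exact absurd h0 (hne i j)
      · rw [hij i j h0]
    have := Nat.card_le_card_of_injective F hF
    simpa [Nat.card_prod, Fintype.card_bool, Nat.card_eq_fintype_card (α := Bool)] using this
  have hkc : Nat.card φ.ker * Nat.card H = Nat.card (CB bh) := by
    rw [← Subgroup.card_mul_index φ.ker, Subgroup.index_ker, MonoidHom.range_eq_top.2 hs,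
      Subgroup.card_top]
  have hH0 : 0 < Nat.card H := Nat.card_pos
  have heq : K = φ.ker := Subgroup.eq_of_le_of_card_ge hle
    (le_trans (Nat.le_of_mul_le_mul_right (hkc.le.trans hcard) hH0) hbig)
  intro g
  rw [← MonoidHom.mem_ker, ← heq]
  rfl

end CfsgLib.Spor.Loc
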