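import Cfsg.Agent.Lib.Spor.Loc.Move

/-!
Involutions inverting an element of odd prime order of the centraliser of `z` in a group of Monster
type, from an involution of the centraliser inverting its image.
-/

set_option autoImplicit false
set_option linter.unusedSectionVars false

namespace CfsgLib.Spor.Loc

open Cfsg CfsgLib.ThreeTransp
open CfsgLib.ThreeTransp.MonsterFrame (qImage up)
open scoped Pointwise

variable {G : Type*} [Group G] [Finite G] {z : G}
  {Q : Subgroup (Subgroup.centralizer ({z} : Set G))} [Q.Normal]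
  {e : (Subgroup.centralizer ({z} : Set G)) ⧸ Q ≃* Cfsg.Spor.Co1}
  {ψ : leechLattice → Q ⧸ Subgroup.center Q}

theorem q_pow_four (M : MonsterFrame z Q e ψ) {x : Subgroup.centralizer ({z} : Set G)} (hx : x ∈ Q) :
    x ^ 4 = 1 := Subtype.ext (up_pow_four M ⟨x, hx⟩)

theorem q_eq_one_of_odd (M : MonsterFrame z Q e ψ) {x : Subgroup.centralizer ({z} : Set G)}
    (hx : x ∈ Q) {n : ℕ} (hn : Odd n) (h : x ^ n = 1) : x = 1 :=
  Subtype.ext (eq_one_of_odd M ⟨x, hx, rfl⟩ hn (congrArg Subtype.val h))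

/-- Two elements of the same odd prime order with the same image are conjugate under `Q`. -/
theorem exists_conj_of_mk_eq (M : MonsterFrame z Q e ψ) {u v : Subgroup.centralizer ({z} : Set G)}
    {p : ℕ} (hp : p.Prime) (hodd : Odd p) (hu : u ^ p = 1) (hv : orderOf v = p)
    (h : (QuotientGroup.mk u : (Subgroup.centralizer ({z} : Set G)) ⧸ Q) = QuotientGroup.mk v) :
    ∃ a ∈ Q, a * v * a⁻¹ = u := by
  haveI : Fact p.Prime := ⟨hp⟩
  have hvp : v ^ p = 1 := hv ▸ pow_orderOf_eq_one v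
  have hune : u ≠ 1 := fun h1 => by
    rw [h1, QuotientGroup.mk_one, eq_comm, QuotientGroup.eq_one_iff] at h
    rw [q_eq_one_of_odd M h hodd hvp, orderOf_one] at hv
    exact hp.one_lt.ne hv
  set H := Subgroup.zpowers v with hH
  set K := Subgroup.zpowers u with hK
  have h2 : IsPGroup 2 Q := fun x => ⟨2, MonsterFrame.up_inj (up_pow_four M x)⟩
  have hcop : (Nat.card Q).Coprime (Nat.card H) := by
    obtain ⟨j, hj⟩ := IsPGroup.iff_card.1 h2
    rw [hj, hH, Nat.card_zpowers, hv]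
    exact (Nat.Coprime.pow_right j (Nat.coprime_two_right.2 hodd)).symm
  have hvu : v⁻¹ * u ∈ Q := QuotientGroup.eq.1 h.symm
  obtain ⟨a, ha, hae⟩ := CfsgLib.Coprime.sz_conj_rel (N := Q) (H := H) (K := K)
    (by rw [Subgroup.normalizer_eq_top]; exact le_top)
    (by rw [Subgroup.normalizer_eq_top]; exact le_top) hcop
    (by rw [hH, hK, Nat.card_zpowers, Nat.card_zpowers, hv, orderOf_eq_prime hu hune])
    (by
      rw [hK, Subgroup.zpowers_le, show u = v * (v⁻¹ * u) by rw [mul_inv_cancel_left]]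
      exact mul_mem (Subgroup.mem_sup_right (Subgroup.mem_zpowers v)) (Subgroup.mem_sup_left hvu))
    (Or.inr (Group.isSolvable_of_comm fun x y => Subtype.ext (by
      obtain ⟨i, hi⟩ := x.2; obtain ⟨j, hj⟩ := y.2
      simp only [Subgroup.coe_mul, ← hi, ← hj]
      exact (Commute.zpow_zpow (Commute.refl v) i j).eq)))
  obtain ⟨w, hw, hwe⟩ := hae.ge (Subgroup.mem_zpowers u)
  replace hwe : a * w * a⁻¹ = u := hwe
  refine ⟨a, ha, ?_⟩
  have haQ : (QuotientGroup.mk a : (Subgroup.centralizer ({z} : Set G)) ⧸ Q) = 1 :=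
    (QuotientGroup.eq_one_iff a).2 ha
  have hwv : v⁻¹ * w ∈ Q := QuotientGroup.eq.1 (h.symm.trans (by
    rw [← hwe, QuotientGroup.mk_mul, QuotientGroup.mk_mul, QuotientGroup.mk_inv, haQ, inv_one,
      one_mul, mul_one]))
  obtain ⟨i, hi⟩ := Subgroup.mem_zpowers_iff.1 (mul_mem (inv_mem (Subgroup.mem_zpowers v)) hw)
  have hwp : (v⁻¹ * w) ^ p = 1 := by
    rw [← hi, ← zpow_natCast, ← zpow_mul, mul_comm, zpow_mul, zpow_natCast, hvp, one_zpow]
  rw [← hwe, inv_mul_eq_one.1 (q_eq_one_of_odd M hwv hodd hwp)]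

/-- An involution inverting the image gives one inverting the element. -/
theorem Over.exists_invol {M : MonsterFrame z Q e ψ} {b : G} {bh : Co0}
    (O : Over M b bh 7) {t : Subgroup.centralizer ({z} : Set G)} (ht : orderOf (t : G) = 2)
    {th : Co0} (hte : e (QuotientGroup.mk t) = QuotientGroup.mk th)
    (hth : th * bh * th = bh ^ 6) :
    ∃ t0 : G, orderOf t0 = 2 ∧ t0 * z = z * t0 ∧ t0 * b * t0⁻¹ = b⁻¹ := by
  obtain ⟨hb, hbe⟩ := O.image
  set bC : Subgroup.centralizer ({z} : Set G) := ⟨b, hb⟩ with hbC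
  have hbCo : orderOf bC = 7 := (Subgroup.orderOf_coe bC).symm.trans O.ord
  have htt : t * t = 1 := Subtype.ext (by
    rw [Subgroup.coe_mul, Subgroup.coe_one, ← pow_two, ← ht]; exact pow_orderOf_eq_one _)
  set w := t * bC * t * bC⁻¹ with hw
  have hew : e (QuotientGroup.mk w) = QuotientGroup.mk bh ^ 5 := by
    rw [hw, QuotientGroup.mk_mul, QuotientGroup.mk_mul, QuotientGroup.mk_mul, QuotientGroup.mk_inv,
      map_mul, map_mul, map_mul, map_inv, hte, ← hbe, ← QuotientGroup.mk_mul, ← QuotientGroup.mk_mul,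
      hth, QuotientGroup.mk_pow]
    group
  have hbh7 : (QuotientGroup.mk bh : Cfsg.Spor.Co1) ^ 7 = 1 := by
    rw [← QuotientGroup.mk_pow, O.pow, QuotientGroup.mk_one]
  have hw7 : w ^ 7 ∈ Q := by
    rw [← QuotientGroup.eq_one_iff, ← e.map_eq_one_iff, QuotientGroup.mk_pow, map_pow, hew,
      ← pow_mul, mul_comm, pow_mul, hbh7, one_pow]
  set v := w ^ 24 with hv
  have hv7 : v ^ 7 = 1 := by
    rw [hv, ← pow_mul, show 24 * 7 = 7 * 4 * 6 by rfl, pow_mul, pow_mul, q_pow_four M hw7, one_pow]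
  have hvb : (QuotientGroup.mk v : (Subgroup.centralizer ({z} : Set G)) ⧸ Q) = QuotientGroup.mk bC := by
    refine e.injective ?_
    rw [hv, QuotientGroup.mk_pow, map_pow, hew, ← hbe, ← pow_mul,
      show 5 * 24 = 7 * 17 + 1 by rfl, pow_succ, pow_mul, hbh7, one_pow, one_mul]
  have htw : t * w * t⁻¹ = w⁻¹ := by
    rw [inv_eq_of_mul_eq_one_right htt, hw]
    calc t * (t * bC * t * bC⁻¹) * t = (t * t) * bC * t * bC⁻¹ * t := by group
      _ = bC * t⁻¹ * bC⁻¹ * t⁻¹ := by rw [htt, one_mul, inv_eq_of_mul_eq_one_right htt]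
      _ = _ := by group
  have htv : t * v * t⁻¹ = v⁻¹ := by rw [hv, ← conj_pow, htw, inv_pow]
  obtain ⟨a, -, hab⟩ := exists_conj_of_mk_eq M (by norm_num) ⟨3, rfl⟩ hv7 hbCo hvb
  refine ⟨((a⁻¹ * t * a : _) : G), ?_, Subgroup.mem_centralizer_singleton_iff.1 (a⁻¹ * t * a).2, ?_⟩
  · rw [Subgroup.orderOf_coe]
    have h1 := MulEquiv.orderOf_eq (MulAut.conj (a⁻¹ : Subgroup.centralizer ({z} : Set G))) t
    simp only [MulAut.conj_apply, inv_inv] at h1
    rw [h1, ← Subgroup.orderOf_coe, ht]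
  · have e2 : a⁻¹ * t * a * bC * (a⁻¹ * t * a)⁻¹ = bC⁻¹ := by
      rw [show a⁻¹ * t * a * bC * (a⁻¹ * t * a)⁻¹ = a⁻¹ * (t * (a * bC * a⁻¹) * t⁻¹) * a by group,
        hab, htv, ← hab]
      group
    have e3 := congrArg (fun x : Subgroup.centralizer ({z} : Set G) => (x : G)) e2
    simpa [bC] using e3

end CfsgLib.Spor.Loc
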