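import Cfsg.Agent.Lib.ThreeTransp.LargeSimple
import Cfsg.Agent.Lib.ThreeTransp.LargeQuotient
import Cfsg.Prelude.Def_MonsterType

/-!
An involution above the central involution of a large extraspecial subgroup of a central quotient
of odd order lies in the layer.
-/

set_option autoImplicit false
set_option linter.style.haveILetI false

namespace CfsgLib.Spor.Loc

open Cfsg Subgroup
open scoped commutatorElement

variable {G : Type*} [Group G] [Finite G]

/-- A component of a quotient by a central subgroup is the image of a component. -/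
theorem component_le_map_layer (B : Subgroup G) [B.Normal] (hB : B ≤ Subgroup.center G)
    {K : Subgroup (G ⧸ B)} (hK : IsComponent K) :
    K ≤ (layer G).map (QuotientGroup.mk' B) := by
  set φ := QuotientGroup.mk' B
  have hφ : Function.Surjective φ := QuotientGroup.mk'_surjective B
  set P := K.comap φ with hP
  have hPK : P.map φ = K := map_comap_eq_self_of_surjective hφ K
  set D := ⁅P, P⁆ with hD
  have hDK : D.map φ = K := by
    rw [hD, map_commutator, hPK, Components.component_commutator_self hK]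
  have hDP : D ≤ P := Components.commutator_self_le P
  have hsplit : ∀ x ∈ P, ∃ d ∈ D, ∃ b ∈ B, x = d * b := by
    intro x hx
    have : φ x ∈ D.map φ := by rw [hDK]; exact hx
    obtain ⟨d, hd, he⟩ := this
    exact ⟨d, hd, d⁻¹ * x, QuotientGroup.eq.1 he, by simp⟩
  have hperf : ⁅D, D⁆ = D := by
    refine le_antisymm (Components.commutator_self_le D) ?_
    refine commutator_le.2 fun x hx y hy => ?_
    obtain ⟨d, hd, b, hb, rfl⟩ := hsplit x hx
    obtain ⟨e, he, c, hc, rfl⟩ := hsplit y hy
    have hbc : ∀ g, g * b = b * g := mem_center_iff.1 (hB hb)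
    have hcc : ∀ g, g * c = c * g := mem_center_iff.1 (hB hc)
    have key : ⁅d * b, e * c⁆ = ⁅d, e⁆ := by
      rw [commutatorElement_def, commutatorElement_def, _root_.mul_inv_rev, _root_.mul_inv_rev]
      calc d * b * (e * c) * (b⁻¹ * d⁻¹) * (c⁻¹ * e⁻¹)
          = d * (b * e) * c * (b⁻¹ * d⁻¹) * (c⁻¹ * e⁻¹) := by group
        _ = d * (e * b) * c * (b⁻¹ * d⁻¹) * (c⁻¹ * e⁻¹) := by rw [hbc e]
        _ = d * e * (b * c) * b⁻¹ * d⁻¹ * c⁻¹ * e⁻¹ := by group
        _ = d * e * (c * b) * b⁻¹ * d⁻¹ * c⁻¹ * e⁻¹ := by rw [hcc b]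
        _ = d * e * (c * d⁻¹) * c⁻¹ * e⁻¹ := by group
        _ = d * e * (d⁻¹ * c) * c⁻¹ * e⁻¹ := by rw [hcc d⁻¹]
        _ = d * e * d⁻¹ * e⁻¹ := by group
    rw [key]
    exact commutator_mem_commutator hd he
  have hsub : D.IsSubnormal :=
    Components.isSubnormal_commutator_self (hK.1.comap φ)
  let f : D →* K := (φ.comp D.subtype).codRestrict K fun x => hDK ▸ mem_map_of_mem φ x.2
  have hf : Function.Surjective f := by
    rintro ⟨y, hy⟩
    rw [← hDK] at hy
    obtain ⟨d, hd, rfl⟩ := hy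
    exact ⟨⟨d, hd⟩, rfl⟩
  haveI : Nontrivial K := Components.quasisimple_nontrivial hK.2
  haveI : Nontrivial D := hf.nontrivial
  have hker : ∀ x : D, f x = 1 → x ∈ Subgroup.center D := fun x hx => by
    have hxB : (x : G) ∈ B := (QuotientGroup.eq_one_iff (x : G)).1 (congrArg Subtype.val hx)
    exact mem_center_iff.2 fun g => Subtype.ext (mem_center_iff.1 (hB hxB) g)
  have hperf' : ⁅(⊤ : Subgroup D), (⊤ : Subgroup D)⁆ = (⊤ : Subgroup D) := by
    refine map_injective D.subtype_injective ?_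
    rw [map_commutator, ← MonoidHom.range_eq_map, range_subtype]
    exact hperf
  have hDcomp : IsComponent D := by
    refine ⟨hsub, Components.isQuasisimple_of_normal_le_center
      (isPerfect_iff.mpr hperf) fun N hN hne => ?_⟩
    haveI := hN
    haveI : (N.map f).Normal := hN.map f hf
    rcases Components.quasisimple_normal_eq_top_or_le_center hK.2 (N.map f) with h | h
    · refine absurd (eq_top_iff.2 ?_) hne
      rw [← hperf', commutator_le]
      intro x _ y _
      obtain ⟨n, hn, hnx⟩ : f x ∈ N.map f := h ▸ mem_top _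
      obtain ⟨m, hm, hmy⟩ : f y ∈ N.map f := h ▸ mem_top _
      have ha : n⁻¹ * x ∈ Subgroup.center D := hker _ (by rw [map_mul, map_inv, hnx, inv_mul_cancel])
      have hb : m⁻¹ * y ∈ Subgroup.center D := hker _ (by rw [map_mul, map_inv, hmy, inv_mul_cancel])
      have e : ⁅x, y⁆ = ⁅n, m⁆ := by
        have hx' : x = n * (n⁻¹ * x) := by simp
        have hy' : y = m * (m⁻¹ * y) := by simp
        generalize n⁻¹ * x = a at ha hx'
        generalize m⁻¹ * y = b at hb hy'
        subst hx' hy'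
        have h1 : ∀ g, g * a = a * g := mem_center_iff.1 ha
        have h2 : ∀ g, g * b = b * g := mem_center_iff.1 hb
        rw [commutatorElement_def, commutatorElement_def, _root_.mul_inv_rev, _root_.mul_inv_rev]
        calc n * a * (m * b) * (a⁻¹ * n⁻¹) * (b⁻¹ * m⁻¹)
            = n * (a * m) * b * (a⁻¹ * n⁻¹) * (b⁻¹ * m⁻¹) := by group
          _ = n * (m * a) * b * (a⁻¹ * n⁻¹) * (b⁻¹ * m⁻¹) := by rw [h1 m]
          _ = n * m * (a * b) * a⁻¹ * n⁻¹ * b⁻¹ * m⁻¹ := by group
          _ = n * m * (b * a) * a⁻¹ * n⁻¹ * b⁻¹ * m⁻¹ := by rw [h2 a]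
          _ = n * m * (b * n⁻¹) * b⁻¹ * m⁻¹ := by group
          _ = n * m * (n⁻¹ * b) * b⁻¹ * m⁻¹ := by rw [h2 n⁻¹]
          _ = n * m * n⁻¹ * m⁻¹ := by group
      rw [e, commutatorElement_def]
      exact mul_mem (mul_mem (mul_mem hn hm) (inv_mem hn)) (inv_mem hm)
    · rw [← commutator_top_left_eq_bot_iff_le_center]
      refine Components.commutator_eq_bot_of_perfect hperf' ?_
      rw [commutator_eq_bot_iff_le_centralizer]
      refine le_trans (commutator_le.2 fun g _ x hx => hker _ ?_) (center_le_centralizer _)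
      have hc := mem_center_iff.1 (h (mem_map_of_mem f hx)) (f g)
      rw [map_commutatorElement, commutatorElement_eq_one_iff_mul_comm]
      exact hc
  intro y hy
  rw [← hDK] at hy
  exact map_mono (Components.component_le_layer hDcomp) hy

/-- The layer of a quotient by a central subgroup is the image of the layer. -/
theorem layer_le_map_layer (B : Subgroup G) [B.Normal] (hB : B ≤ Subgroup.center G) :
    layer (G ⧸ B) ≤ (layer G).map (QuotientGroup.mk' B) :=
  Components.layer_le_iff.2 fun _ hK => component_le_map_layer B hB hK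

/-- An involution whose image is central in a non-weakly-closed large extraspecial subgroup of a
central quotient of odd order lies in the layer. -/
theorem mem_layer_of_setting (B : Subgroup G) [B.Normal] (hB : B ≤ Subgroup.center G)
    (hodd : Odd (Nat.card B)) {z : G} (hz : orderOf z = 2) {w : ℕ}
    {R : Subgroup (Subgroup.centralizer ({(z : G ⧸ B)} : Set (G ⧸ B)))} [R.Normal]
    (hset : IsExtraspecialCentralizerSetting (z : G ⧸ B) R w)
    (hnc : ∃ a b : Subgroup.centralizer ({(z : G ⧸ B)} : Set (G ⧸ B)), a ∈ R ∧ b ∈ R ∧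
      IsConj (z : G ⧸ B) (a : G ⧸ B) ∧ IsConj (z : G ⧸ B) (b : G ⧸ B) ∧ a * b ≠ b * a) :
    z ∈ layer G := by
  obtain ⟨hzo, hF, hE, -, g, ⟨hgC, hgR⟩, hne⟩ := hset
  set R' := R.map (Subgroup.centralizer ({(z : G ⧸ B)} : Set (G ⧸ B))).subtype
  have hE' : IsExtraspecial 2 ↥R' := ThreeTransp.extraspecial_map hE
  obtain ⟨hZ, hC, hN⟩ := ThreeTransp.fstar_setting hzo (Q := R') (by rw [hF]) hE'
  have hL := ThreeTransp.large_of_conj_mem hE' hC hN hZ (g := g) ⟨_, hgR, rfl⟩ hne
  have hmin : ∀ N : Subgroup (G ⧸ B), N.Normal → N ≠ ⊥ → (z : G ⧸ B) ∈ N := fun N hn h =>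
    (ThreeTransp.mem_of_normal hL hzo hZ N (hn := hn)).resolve_left h
  obtain ⟨a, b, -, -, ha, hb, hab⟩ := hnc
  have habel : ∀ N : Subgroup (G ⧸ B), N.Normal → IsMulCommutative N → N = ⊥ := by
    intro N hn hc
    by_contra h
    have hzN := hmin N hn h
    have hconj : ∀ {x : G ⧸ B}, IsConj (z : G ⧸ B) x → x ∈ N := fun hx => by
      obtain ⟨c, rfl⟩ := isConj_iff.1 hx
      exact hn.conj_mem _ hzN c
    refine hab (Subtype.ext ?_)
    have h2 := congrArg Subtype.val (hc.is_comm.comm (⟨_, hconj ha⟩ : N) ⟨_, hconj hb⟩)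
    exact h2
  have hfit : fittingSubgroup (G ⧸ B) = ⊥ := by
    haveI := Base.isNilpotent_fittingSubgroup (G ⧸ B)
    by_contra h
    haveI : Nontrivial (fittingSubgroup (G ⧸ B)) := (nontrivial_iff_ne_bot _).2 h
    have hcen : Subgroup.center (fittingSubgroup (G ⧸ B)) ≠ ⊥ :=
      Group.IsNilpotent.center_ne_bot _
    haveI := Base.fittingSubgroup_normal' (G ⧸ B)
    have h0 := habel ((Subgroup.center (fittingSubgroup (G ⧸ B))).map
      (fittingSubgroup (G ⧸ B)).subtype) inferInstance inferInstance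
    exact hcen ((map_eq_bot_iff_of_injective _ (subtype_injective _)).1 h0)
  have hlay : layer (G ⧸ B) ≠ ⊥ := by
    intro h
    have h1 := Components.centralizer_fstar_le (G := G ⧸ B)
    rw [generalizedFittingSubgroup, h, hfit, bot_sup_eq] at h1
    have h2 : (z : G ⧸ B) ∈ (⊥ : Subgroup (G ⧸ B)) :=
      h1 (mem_centralizer_iff.2 fun x hx => by rw [mem_bot.1 hx, one_mul, mul_one])
    rw [mem_bot.1 h2, orderOf_one] at hzo
    exact absurd hzo (by norm_num)
  obtain ⟨l, hl, hle⟩ := layer_le_map_layer B hB (hmin _ Components.layer_normal hlay)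
  have hb' : l⁻¹ * z ∈ B := QuotientGroup.eq.1 hle
  obtain ⟨k, hk⟩ := hodd
  have hzl : z = l * (l⁻¹ * z) := by simp
  generalize l⁻¹ * z = c at hb' hzl
  have hc1 : c ^ (2 * k + 1) = 1 := by
    rw [← hk]
    exact congrArg Subtype.val (pow_card_eq_one' (x := (⟨c, hb'⟩ : B)))
  have hcomm : Commute l c := (mem_center_iff.1 (hB hb') l)
  have hz2 : z ^ (2 * k + 1) = z := by
    rw [pow_succ, pow_mul, ← hz, pow_orderOf_eq_one, one_pow, one_mul]
  rw [← hz2, hzl, hcomm.mul_pow, hc1, mul_one]
  exact pow_mem hl _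

end CfsgLib.Spor.Loc
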