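import Cfsg.Agent.Lib.Spor.Loc.Local
import Cfsg.Agent.Lib.Coprime.Action

/-!
The centraliser of the image of `z` in the centraliser of the subgroup generated by the element,
modulo it: its normal subgroup of fixed points and the quotient by it.
-/

set_option autoImplicit false
set_option linter.unusedSectionVars false

namespace CfsgLib.Spor.Loc

open Cfsg CfsgLib.ThreeTransp
open CfsgLib.ThreeTransp.MonsterFrame (qImage up)
open CfsgLib.Spor.Co1Out (comm_lift)

variable {G : Type*} [Group G] [Finite G] {z : G}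
  {Q : Subgroup (Subgroup.centralizer ({z} : Set G))} [Q.Normal]
  {e : (Subgroup.centralizer ({z} : Set G)) ⧸ Q ≃* Cfsg.Spor.Co1}
  {ψ : leechLattice → Q ⧸ Subgroup.center Q}

set_option maxHeartbeats 2000000 in
/-- The fixed points and the quotient by them, at the image of `z`. -/
theorem Over.local_quot {M : MonsterFrame z Q e ψ} {b : G} {bh : Co0} {p r w : ℕ}
    (O : Over M b bh p) {tb : List (List ℤ)} (T : Tab bh r tb) (hrw : r = 2 * w) (hw : 0 < w)
    {B : Subgroup G} (hB : B = Subgroup.zpowers b)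
    [(B.subgroupOf (Subgroup.centralizer (B : Set G))).Normal]
    {H : Type*} [Group H] (φ : ↥(Subgroup.centralizer ({bh} : Set Co0)) →* H)
    (hsurj : Function.Surjective φ)
    (hker : ∀ g, φ g = 1 ↔
      (QuotientGroup.mk (g : Co0) : Cfsg.Spor.Co1) ∈
        Subgroup.zpowers (QuotientGroup.mk bh : Cfsg.Spor.Co1)) :
    ∃ (hz : z ∈ Subgroup.centralizer (B : Set G))
      (R : Subgroup (Subgroup.centralizer
        ({((⟨z, hz⟩ : ↥(Subgroup.centralizer (B : Set G))) : ↥(Subgroup.centralizer (B : Set G)) ⧸ B.subgroupOf (Subgroup.centralizer (B : Set G)))} :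
          Set (↥(Subgroup.centralizer (B : Set G)) ⧸ B.subgroupOf (Subgroup.centralizer (B : Set G))))))
      (_ : R.Normal),
      (∀ y : ↥(Subgroup.centralizer (B : Set G)) ⧸ B.subgroupOf (Subgroup.centralizer (B : Set G)),
        y ∈ R.map (Subgroup.subtype _) ↔ ∃ a : ↥(Subgroup.centralizer (B : Set G)), (a : G) ∈ CQ M b ∧ QuotientGroup.mk' (B.subgroupOf (Subgroup.centralizer (B : Set G))) a = y) ∧
      IsExtraspecial 2 R ∧ Nat.card R = 2 ^ (2 * w + 1) ∧
      Nonempty (↥(Subgroup.centralizer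
        ({((⟨z, hz⟩ : ↥(Subgroup.centralizer (B : Set G))) : ↥(Subgroup.centralizer (B : Set G)) ⧸ B.subgroupOf (Subgroup.centralizer (B : Set G)))} :
          Set (↥(Subgroup.centralizer (B : Set G)) ⧸ B.subgroupOf (Subgroup.centralizer (B : Set G))))) ⧸ R ≃* H) := by
  classical
  have : Fact (Nat.Prime 2) := ⟨Nat.prime_two⟩
  obtain ⟨hbC, hbe⟩ := O.image
  set Gb := Subgroup.centralizer (B : Set G) with hGb
  have hmemGb : ∀ x : G, x ∈ Gb ↔ b * x = x * b := fun x => by
    rw [hGb, hB, Subgroup.zpowers_eq_closure, Subgroup.centralizer_closure,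
      Subgroup.mem_centralizer_singleton_iff, eq_comm]
  set N := B.subgroupOf Gb
  set π := QuotientGroup.mk' N with hπ
  have hπ1 : ∀ y : Gb, π y = 1 ↔ (y : G) ∈ B := fun y => by
    rw [hπ, QuotientGroup.mk'_apply, QuotientGroup.eq_one_iff, Subgroup.mem_subgroupOf]
  have hBQ : ∀ x : G, x ∈ B → x ∈ qImage Q → x = 1 := by
    intro x hx hxq
    rw [hB] at hx
    obtain ⟨i, rfl⟩ := Subgroup.mem_zpowers_iff.1 hx
    refine eq_one_of_odd M hxq O.odd ?_
    rw [← zpow_natCast, ← zpow_mul, mul_comm, zpow_mul, zpow_natCast, O.pow_b, one_zpow]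
  have hzb : b * z = z * b := Subgroup.mem_centralizer_singleton_iff.1 O.mem
  let zG : Gb := ⟨z, (hmemGb z).2 hzb⟩
  set z' := π zG with hz'
  -- the centraliser upstairs
  have hzc : ∀ y : Gb, π y ∈ Subgroup.centralizer ({z'} : Set (Gb ⧸ N)) ↔
      (y : G) ∈ Subgroup.centralizer ({z} : Set G) := by
    intro y
    rw [Subgroup.mem_centralizer_singleton_iff, Subgroup.mem_centralizer_singleton_iff, hz',
      ← map_mul, ← map_mul]
    refine ⟨fun h => ?_, fun h => by rw [show y * zG = zG * y from Subtype.ext h]⟩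
    have h1 : ((zG * y)⁻¹ * (y * zG) : Gb).1 ∈ B := (hπ1 _).1 (by
      rw [map_mul, map_inv, h, inv_mul_cancel])
    set c : G := ((zG * y)⁻¹ * (y * zG) : Gb).1 with hc
    have hyz : (y : G) * z * (y : G)⁻¹ = z * ((y : G) * c * (y : G)⁻¹) := by
      rw [hc]; simp only [Subgroup.coe_mul, Subgroup.coe_inv, zG]; group
    rw [hB] at h1
    obtain ⟨i, hi⟩ := Subgroup.mem_zpowers_iff.1 h1
    have hyc : (y : G) * c * (y : G)⁻¹ = c := by
      rw [← hi]
      exact mul_inv_eq_iff_eq_mul.2 (Commute.zpow_right ((hmemGb y).1 y.2).symm i).eq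
    rw [hyc] at hyz
    have hzc' : Commute z c := by rw [← hi]; exact Commute.zpow_right hzb.symm i
    have hsq : c * c = 1 := by
      have e1 : (y : G) * z * (y : G)⁻¹ * ((y : G) * z * (y : G)⁻¹) = 1 := by
        rw [show (y : G) * z * (y : G)⁻¹ * ((y : G) * z * (y : G)⁻¹) = (y : G) * (z * z) * (y : G)⁻¹ by
          group, M.xcent.inv]; group
      rw [hyz, show z * c * (z * c) = z * (c * z) * c by group, ← hzc'.eq,
        show z * (z * c) * c = (z * z) * (c * c) by group, M.xcent.inv, one_mul] at e1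
      exact e1
    have hcp : c ^ p = 1 := by
      rw [← hi, ← zpow_natCast, ← zpow_mul, mul_comm, zpow_mul, zpow_natCast, O.pow_b, one_zpow]
    have hc1 : c = 1 := by
      obtain ⟨k, hk⟩ := O.odd
      rwa [hk, pow_succ, pow_mul, pow_two, hsq, one_pow, one_mul] at hcp
    rw [hc1, mul_one] at hyz
    exact mul_inv_eq_iff_eq_mul.1 hyz
  set D := Subgroup.centralizer ({z'} : Set (Gb ⧸ N))
  let D0 : Subgroup Gb := D.comap π
  let f0 : D0 →* D := (π.comp D0.subtype).codRestrict D fun y => y.2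
  have hf0 : Function.Surjective f0 := by
    rintro ⟨d, hd⟩
    obtain ⟨y, rfl⟩ := QuotientGroup.mk'_surjective N d
    exact ⟨⟨y, hd⟩, rfl⟩
  have hDC : ∀ y : D0, ((y : Gb) : G) ∈ Subgroup.centralizer ({z} : Set G) := fun y =>
    (hzc _).1 y.2
  -- lifts to the automorphism group of the lattice
  have hlift : ∀ y : D0, ∃ g : Co0, g * bh = bh * g ∧
      (QuotientGroup.mk g : Cfsg.Spor.Co1) = e (QuotientGroup.mk ⟨((y : Gb) : G), hDC y⟩) := by
    intro y
    obtain ⟨g, hg⟩ := QuotientGroup.mk_surjective (e (QuotientGroup.mk ⟨((y : Gb) : G), hDC y⟩))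
    refine ⟨g, comm_lift O.odd O.pow ?_, hg⟩
    show (QuotientGroup.mk g : Cfsg.Spor.Co1) * QuotientGroup.mk bh = QuotientGroup.mk bh * QuotientGroup.mk g
    rw [hg, hbe, ← map_mul, ← map_mul, ← QuotientGroup.mk_mul, ← QuotientGroup.mk_mul]
    congr 2
    exact Subtype.ext ((hmemGb _).1 (y : Gb).2).symm
  choose L hLc hLe using hlift
  let L' : D0 → ↥(Subgroup.centralizer ({bh} : Set Co0)) := fun y =>
    ⟨L y, Subgroup.mem_centralizer_singleton_iff.2 (hLc y)⟩
  have hindep : ∀ g g' : ↥(Subgroup.centralizer ({bh} : Set Co0)),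
      (QuotientGroup.mk (g : Co0) : Cfsg.Spor.Co1) = QuotientGroup.mk (g' : Co0) → φ g = φ g' := by
    intro g g' h
    have h1 : φ (g⁻¹ * g') = 1 := (hker _).2 (by
      rw [Subgroup.coe_mul, Subgroup.coe_inv, QuotientGroup.mk_mul, QuotientGroup.mk_inv, h,
        inv_mul_cancel]
      exact one_mem _)
    rwa [map_mul, map_inv, inv_mul_eq_one] at h1
  let θ : D0 →* H :=
    { toFun := fun y => φ (L' y)
      map_one' := by
        rw [← map_one φ]
        refine hindep _ _ ?_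
        rw [Subgroup.coe_one, hLe, QuotientGroup.mk_one,
          show (⟨(((1 : D0) : Gb) : G), hDC 1⟩ : Subgroup.centralizer ({z} : Set G)) = 1 from rfl,
          QuotientGroup.mk_one, map_one]
      map_mul' := fun y y' => by
        rw [← map_mul]
        refine hindep _ _ ?_
        rw [Subgroup.coe_mul, QuotientGroup.mk_mul, hLe, hLe, hLe, ← map_mul, ← QuotientGroup.mk_mul]
        rfl }
  have hθ : ∀ (y : D0) (g : ↥(Subgroup.centralizer ({bh} : Set Co0))),
      (QuotientGroup.mk (g : Co0) : Cfsg.Spor.Co1) =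
        e (QuotientGroup.mk ⟨((y : Gb) : G), hDC y⟩) → θ y = φ g :=
    fun y g hg => hindep _ _ ((hLe y).trans hg.symm)
  have hθsurj : Function.Surjective θ := by
    intro h
    obtain ⟨g, rfl⟩ := hsurj h
    obtain ⟨c0, hc0⟩ := QuotientGroup.mk_surjective (e.symm (QuotientGroup.mk (g : Co0)))
    have hc0' : e (QuotientGroup.mk c0) = QuotientGroup.mk (g : Co0) := by
      rw [hc0, e.apply_symm_apply]
    let bC : Subgroup.centralizer ({z} : Set G) := ⟨b, hbC⟩
    have hfix : ∀ a ∈ Subgroup.zpowers bC, c0⁻¹ * (a * c0 * a⁻¹) ∈ Q := by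
      intro a ha
      obtain ⟨i, rfl⟩ := Subgroup.mem_zpowers_iff.1 ha
      rw [← QuotientGroup.eq_one_iff, ← e.map_eq_one_iff]
      simp only [QuotientGroup.mk_mul, QuotientGroup.mk_inv, QuotientGroup.mk_zpow, map_mul,
        map_inv, map_zpow, hc0']
      rw [show e (QuotientGroup.mk bC) = QuotientGroup.mk bh from hbe.symm]
      have hc : Commute (QuotientGroup.mk bh : Cfsg.Spor.Co1) (QuotientGroup.mk (g : Co0)) :=
        (congrArg (QuotientGroup.mk (s := Subgroup.center Co0))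
          (Subgroup.mem_centralizer_singleton_iff.1 g.2).symm)
      rw [(hc.zpow_left i).eq]
      group
    have h2 : IsPGroup 2 Q := fun x => ⟨2, MonsterFrame.up_inj (up_pow_four M x)⟩
    have hcop : (Nat.card (Subgroup.zpowers bC)).Coprime (Nat.card Q) := by
      obtain ⟨k, hk⟩ := IsPGroup.iff_card.1 h2
      rw [hk, Nat.card_zpowers, show orderOf bC = p from (Subgroup.orderOf_coe bC).symm.trans O.ord]
      exact Nat.Coprime.pow_right k (Nat.coprime_two_right.2 O.odd)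
    obtain ⟨c, hc, hcQ⟩ := CfsgLib.Coprime.exists_centralizing_in_coset (A := Subgroup.zpowers bC)
      (N := Q) (by rw [Subgroup.normalizer_eq_top]; exact le_top) hcop
      (Or.inl (Group.isSolvable_of_comm fun x y => Subtype.ext (by
        obtain ⟨i, hi⟩ := x.2; obtain ⟨j, hj⟩ := y.2
        simp only [Subgroup.coe_mul, ← hi, ← hj]
        exact (Commute.zpow_zpow (Commute.refl bC) i j).eq))) hfix
    have hcG : (c : G) ∈ Gb := (hmemGb _).2
      (congrArg Subtype.val (Subgroup.mem_centralizer_iff.1 hc bC (Subgroup.mem_zpowers bC)))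
    refine ⟨⟨⟨c, hcG⟩, (hzc ⟨c, hcG⟩).2 c.2⟩, hθ _ g ?_⟩
    rw [← hc0']
    exact congrArg e (QuotientGroup.eq.2 hcQ)
  have hθker : ∀ y : D0, θ y = 1 ↔ ∃ i : ℤ, (b ^ i)⁻¹ * ((y : Gb) : G) ∈ CQ M b := by
    intro y
    show φ (L' y) = 1 ↔ _
    rw [hker, show ((L' y : _) : Co0) = L y from rfl, hLe, Subgroup.mem_zpowers_iff]
    constructor
    · rintro ⟨i, hi⟩
      rw [hbe, ← map_zpow, e.injective.eq_iff, ← QuotientGroup.mk_zpow, QuotientGroup.eq] at hi
      refine ⟨i, ⟨_, hi, by simp⟩, ?_⟩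
      refine Subgroup.mem_centralizer_singleton_iff.2 ?_
      exact ((Commute.inv_left (Commute.zpow_left (Commute.refl b) i)).mul_left
        ((hmemGb _).1 (y : Gb).2).symm).eq
    · rintro ⟨i, ⟨q, hq, hqe⟩, -⟩
      refine ⟨i, ?_⟩
      rw [hbe, ← map_zpow, e.injective.eq_iff, ← QuotientGroup.mk_zpow, QuotientGroup.eq]
      rwa [show (⟨b, hbC⟩ ^ i : Subgroup.centralizer ({z} : Set G))⁻¹ * ⟨((y : Gb) : G), hDC y⟩ = q from
        Subtype.ext (by simp [← hqe])]
  have hkle : f0.ker ≤ θ.ker := by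
    intro y hy
    rw [MonoidHom.mem_ker, hθker]
    have h1 : ((y : Gb) : G) ∈ B := (hπ1 _).1 (congrArg Subtype.val hy)
    rw [hB] at h1
    obtain ⟨i, hi⟩ := Subgroup.mem_zpowers_iff.1 h1
    exact ⟨i, by rw [← hi, inv_mul_cancel]; exact one_mem _⟩
  let θb : D →* H := f0.liftOfSurjective hf0 ⟨θ, hkle⟩
  have hθb : ∀ y, θb (f0 y) = θ y := fun y =>
    f0.liftOfRightInverse_comp_apply _ _ ⟨θ, hkle⟩ y
  have hθbsurj : Function.Surjective θb := fun h => by
    obtain ⟨y, rfl⟩ := hθsurj h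
    exact ⟨f0 y, hθb y⟩
  set R := θb.ker with hR
  -- the fixed points as a subgroup downstairs
  have hCQGb : ∀ x ∈ CQ M b, x ∈ Gb := fun x hx =>
    (hmemGb x).2 (Subgroup.mem_centralizer_singleton_iff.1 hx.2).symm
  have hCQz : ∀ x ∈ CQ M b, x ∈ Subgroup.centralizer ({z} : Set G) := fun x hx =>
    Subgroup.mem_centralizer_singleton_iff.2 (M.xcent.comm x hx.1)
  let j : ↥(CQ M b) →* D :=
    { toFun := fun x => f0 ⟨⟨x, hCQGb x x.2⟩, (hzc _).2 (hCQz x x.2)⟩
      map_one' := map_one f0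
      map_mul' := fun x y => map_mul f0 ⟨⟨x, hCQGb x x.2⟩, (hzc _).2 (hCQz x x.2)⟩
        ⟨⟨y, hCQGb y y.2⟩, (hzc _).2 (hCQz y y.2)⟩ }
  have hjinj : Function.Injective j := (injective_iff_map_eq_one j).2 fun x hx => by
    have h1 : (x : G) ∈ B := (hπ1 ⟨x, hCQGb x x.2⟩).1 (congrArg Subtype.val hx)
    exact Subtype.ext (hBQ _ h1 x.2.1)
  have hjR : j.range = R := by
    ext d
    constructor
    · rintro ⟨x, rfl⟩
      show θb (f0 _) = 1
      rw [hθb, hθker]
      exact ⟨0, by simp⟩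
    · intro hd
      obtain ⟨y, rfl⟩ := hf0 d
      rw [hR, MonoidHom.mem_ker, hθb, hθker] at hd
      obtain ⟨i, hi⟩ := hd
      refine ⟨⟨_, hi⟩, Subtype.ext ?_⟩
      refine QuotientGroup.eq.2 (Subgroup.mem_subgroupOf.2 ?_)
      show ((b ^ i)⁻¹ * ((y : Gb) : G))⁻¹ * ((y : Gb) : G) ∈ B
      rw [show ((b ^ i)⁻¹ * ((y : Gb) : G))⁻¹ * ((y : Gb) : G) = ((y : Gb) : G)⁻¹ * b ^ i * ((y : Gb) : G) by
        group, ((Commute.zpow_right ((hmemGb _).1 (y : Gb).2).symm i).inv_left).eq,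
        inv_mul_cancel_right, hB]
      exact Subgroup.zpow_mem_zpowers b i
  let ej : ↥(CQ M b) ≃* R := (MonoidHom.ofInjective hjinj).trans (MulEquiv.subgroupCongr hjR)
  have hEx : IsExtraspecial 2 R :=
    MonsterFrame.extraspecial_equiv ej (O.isExtraspecial_CQ M T (by omega))
  have hcard : Nat.card R = 2 ^ (2 * w + 1) := by
    rw [← Nat.card_congr ej.toEquiv, O.card_CQ M T, hrw, pow_succ']
  refine ⟨(hmemGb z).2 hzb, R, θb.normal_ker, fun y => ⟨?_, ?_⟩, hEx, hcard,
    ⟨QuotientGroup.quotientKerEquivOfSurjective θb hθbsurj⟩⟩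
  · rintro ⟨d, hd, rfl⟩
    obtain ⟨x, rfl⟩ := hjR.ge hd
    exact ⟨⟨x, hCQGb x x.2⟩, x.2, rfl⟩
  · rintro ⟨a, ha, rfl⟩
    exact ⟨j ⟨a, ha⟩, hjR.le ⟨_, rfl⟩, rfl⟩

end CfsgLib.Spor.Loc
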