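import Cfsg.Agent.Lib.Spor.Loc.Local
import Cfsg.Agent.Lib.Coprime.Action

/-!
The extraspecial centraliser setting at the image of `z` in the centraliser of the subgroup
generated by the element, modulo it.
-/

set_option autoImplicit false
set_option linter.unusedSectionVars false

namespace CfsgLib.Spor.Loc

open Cfsg CfsgLib.ThreeTransp
open CfsgLib.ThreeTransp.MonsterFrame (qImage up)
open CfsgLib.Spor.Co1Out (comm_lift)

variable {G : Type*} [Group G] [Finite G] {z : G}
  {Q : Subgroup (Subgroup.centralizer ({z} : Set G))} [Q.Normal]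
  {e : (Subgroup.centralizer ({z} : Set G)) ⧸ Q ≃* Cfsg.Spor.Co1}
  {ψ : leechLattice → Q ⧸ Subgroup.center Q}

set_option maxHeartbeats 2000000 in
/-- The extraspecial centraliser setting in the centraliser of `B` modulo `B`. -/
theorem Over.local_setting {M : MonsterFrame z Q e ψ} {b : G} {bh : Co0} {p r w : ℕ}
    (O : Over M b bh p) {tb : List (List ℤ)} (T : Tab bh r tb) (hrw : r = 2 * w) (hw : 0 < w)
    {B : Subgroup G} (hB : B = Subgroup.zpowers b)
    [(B.subgroupOf (Subgroup.centralizer (B : Set G))).Normal]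
    {H : Type*} [Group H] (φ : ↥(Subgroup.centralizer ({bh} : Set Co0)) →* H)
    (hsurj : Function.Surjective φ)
    (hker : ∀ g, φ g = 1 ↔
      (QuotientGroup.mk (g : Co0) : Cfsg.Spor.Co1) ∈
        Subgroup.zpowers (QuotientGroup.mk bh : Cfsg.Spor.Co1))
    (hfaith : ∀ g : ↥(Subgroup.centralizer ({bh} : Set Co0)), (∀ v : leechLattice, cl (bh • v) = cl v → cl ((g : Co0) • v) = cl v) → φ g = 1)
    (hH : ∀ N : Subgroup H, N.Normal → IsPGroup 2 N → N = ⊥)
    (hconj : ∀ q : Q, up q ∈ CQ M b → IsConj z (up q) → up q ≠ z →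
      ∃ g ∈ Subgroup.centralizer (B : Set G), g * z * g⁻¹ = up q)
    (hex : ∃ i < 2 ^ r, normL (tb.getD i []) = 64) :
    ∃ (hz : z ∈ Subgroup.centralizer (B : Set G))
      (R : Subgroup (Subgroup.centralizer
        ({((⟨z, hz⟩ : ↥(Subgroup.centralizer (B : Set G))) :
            ↥(Subgroup.centralizer (B : Set G)) ⧸ B.subgroupOf (Subgroup.centralizer (B : Set G)))} :
          Set (↥(Subgroup.centralizer (B : Set G)) ⧸ B.subgroupOf (Subgroup.centralizer (B : Set G))))))
      (_ : R.Normal),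
      IsExtraspecialCentralizerSetting
        ((⟨z, hz⟩ : ↥(Subgroup.centralizer (B : Set G))) :
          ↥(Subgroup.centralizer (B : Set G)) ⧸ B.subgroupOf (Subgroup.centralizer (B : Set G))) R w ∧
      Set.ncard {x : Subgroup.centralizer
          ({((⟨z, hz⟩ : ↥(Subgroup.centralizer (B : Set G))) :
            ↥(Subgroup.centralizer (B : Set G)) ⧸ B.subgroupOf (Subgroup.centralizer (B : Set G)))} :
          Set (↥(Subgroup.centralizer (B : Set G)) ⧸ B.subgroupOf (Subgroup.centralizer (B : Set G)))) | x ∈ R ∧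
        IsConj ((⟨z, hz⟩ : ↥(Subgroup.centralizer (B : Set G))) :
          ↥(Subgroup.centralizer (B : Set G)) ⧸ B.subgroupOf (Subgroup.centralizer (B : Set G)))
          (x : ↥(Subgroup.centralizer (B : Set G)) ⧸
            B.subgroupOf (Subgroup.centralizer (B : Set G)))} =
        1 + 2 * ((Finset.range (2 ^ r)).filter fun i => normL (tb.getD i []) = 64).card := by
  classical
  haveI : Fact (Nat.Prime 2) := ⟨Nat.prime_two⟩
  obtain ⟨hbC, hbe⟩ := O.image
  set Gb := Subgroup.centralizer (B : Set G) with hGb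
  have hmemGb : ∀ x : G, x ∈ Gb ↔ b * x = x * b := fun x => by
    rw [hGb, hB, Subgroup.zpowers_eq_closure, Subgroup.centralizer_closure,
      Subgroup.mem_centralizer_singleton_iff, eq_comm]
  set N := B.subgroupOf Gb
  set π := QuotientGroup.mk' N with hπ
  have hπ1 : ∀ y : Gb, π y = 1 ↔ (y : G) ∈ B := fun y => by
    rw [hπ, QuotientGroup.mk'_apply, QuotientGroup.eq_one_iff, Subgroup.mem_subgroupOf]
  have hBQ : ∀ x : G, x ∈ B → x ∈ qImage Q → x = 1 := by
    intro x hx hxq
    rw [hB] at hx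
    obtain ⟨i, rfl⟩ := Subgroup.mem_zpowers_iff.1 hx
    refine eq_one_of_odd M hxq O.odd ?_
    rw [← zpow_natCast, ← zpow_mul, mul_comm, zpow_mul, zpow_natCast, O.pow_b, one_zpow]
  have hzb : b * z = z * b := Subgroup.mem_centralizer_singleton_iff.1 O.mem
  let zG : Gb := ⟨z, (hmemGb z).2 hzb⟩
  set z' := π zG with hz'
  -- the centraliser upstairs
  have hzc : ∀ y : Gb, π y ∈ Subgroup.centralizer ({z'} : Set (Gb ⧸ N)) ↔
      (y : G) ∈ Subgroup.centralizer ({z} : Set G) := by
    intro y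
    rw [Subgroup.mem_centralizer_singleton_iff, Subgroup.mem_centralizer_singleton_iff, hz',
      ← map_mul, ← map_mul]
    refine ⟨fun h => ?_, fun h => by rw [show y * zG = zG * y from Subtype.ext h]⟩
    have h1 : ((zG * y)⁻¹ * (y * zG) : Gb).1 ∈ B := (hπ1 _).1 (by
      rw [map_mul, map_inv, h, inv_mul_cancel])
    set c : G := ((zG * y)⁻¹ * (y * zG) : Gb).1 with hc
    have hyz : (y : G) * z * (y : G)⁻¹ = z * ((y : G) * c * (y : G)⁻¹) := by
      rw [hc]; simp only [Subgroup.coe_mul, Subgroup.coe_inv, zG]; group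
    rw [hB] at h1
    obtain ⟨i, hi⟩ := Subgroup.mem_zpowers_iff.1 h1
    have hyc : (y : G) * c * (y : G)⁻¹ = c := by
      rw [← hi]
      exact mul_inv_eq_iff_eq_mul.2 (Commute.zpow_right ((hmemGb y).1 y.2).symm i).eq
    rw [hyc] at hyz
    have hzc' : Commute z c := by rw [← hi]; exact Commute.zpow_right hzb.symm i
    have hsq : c * c = 1 := by
      have e1 : (y : G) * z * (y : G)⁻¹ * ((y : G) * z * (y : G)⁻¹) = 1 := by
        rw [show (y : G) * z * (y : G)⁻¹ * ((y : G) * z * (y : G)⁻¹) = (y : G) * (z * z) * (y : G)⁻¹ by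
          group, M.xcent.inv]; group
      rw [hyz, show z * c * (z * c) = z * (c * z) * c by group, ← hzc'.eq,
        show z * (z * c) * c = (z * z) * (c * c) by group, M.xcent.inv, one_mul] at e1
      exact e1
    have hcp : c ^ p = 1 := by
      rw [← hi, ← zpow_natCast, ← zpow_mul, mul_comm, zpow_mul, zpow_natCast, O.pow_b, one_zpow]
    have hc1 : c = 1 := by
      obtain ⟨k, hk⟩ := O.odd
      rwa [hk, pow_succ, pow_mul, pow_two, hsq, one_pow, one_mul] at hcp
    rw [hc1, mul_one] at hyz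
    exact mul_inv_eq_iff_eq_mul.1 hyz
  set D := Subgroup.centralizer ({z'} : Set (Gb ⧸ N))
  let D0 : Subgroup Gb := D.comap π
  let f0 : D0 →* D := (π.comp D0.subtype).codRestrict D fun y => y.2
  have hf0 : Function.Surjective f0 := by
    rintro ⟨d, hd⟩
    obtain ⟨y, rfl⟩ := QuotientGroup.mk'_surjective N d
    exact ⟨⟨y, hd⟩, rfl⟩
  have hDC : ∀ y : D0, ((y : Gb) : G) ∈ Subgroup.centralizer ({z} : Set G) := fun y =>
    (hzc _).1 y.2
  -- lifts to the automorphism group of the lattice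
  have hlift : ∀ y : D0, ∃ g : Co0, g * bh = bh * g ∧
      (QuotientGroup.mk g : Cfsg.Spor.Co1) = e (QuotientGroup.mk ⟨((y : Gb) : G), hDC y⟩) := by
    intro y
    obtain ⟨g, hg⟩ := QuotientGroup.mk_surjective (e (QuotientGroup.mk ⟨((y : Gb) : G), hDC y⟩))
    refine ⟨g, comm_lift O.odd O.pow ?_, hg⟩
    show (QuotientGroup.mk g : Cfsg.Spor.Co1) * QuotientGroup.mk bh = QuotientGroup.mk bh * QuotientGroup.mk g
    rw [hg, hbe, ← map_mul, ← map_mul, ← QuotientGroup.mk_mul, ← QuotientGroup.mk_mul]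
    congr 2
    exact Subtype.ext ((hmemGb _).1 (y : Gb).2).symm
  choose L hLc hLe using hlift
  let L' : D0 → ↥(Subgroup.centralizer ({bh} : Set Co0)) := fun y =>
    ⟨L y, Subgroup.mem_centralizer_singleton_iff.2 (hLc y)⟩
  have hindep : ∀ g g' : ↥(Subgroup.centralizer ({bh} : Set Co0)),
      (QuotientGroup.mk (g : Co0) : Cfsg.Spor.Co1) = QuotientGroup.mk (g' : Co0) → φ g = φ g' := by
    intro g g' h
    have h1 : φ (g⁻¹ * g') = 1 := (hker _).2 (by
      rw [Subgroup.coe_mul, Subgroup.coe_inv, QuotientGroup.mk_mul, QuotientGroup.mk_inv, h,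
        inv_mul_cancel]
      exact one_mem _)
    rwa [map_mul, map_inv, inv_mul_eq_one] at h1
  let θ : D0 →* H :=
    { toFun := fun y => φ (L' y)
      map_one' := by
        rw [← map_one φ]
        refine hindep _ _ ?_
        rw [Subgroup.coe_one, hLe, QuotientGroup.mk_one,
          show (⟨(((1 : D0) : Gb) : G), hDC 1⟩ : Subgroup.centralizer ({z} : Set G)) = 1 from rfl,
          QuotientGroup.mk_one, map_one]
      map_mul' := fun y y' => by
        rw [← map_mul]
        refine hindep _ _ ?_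
        rw [Subgroup.coe_mul, QuotientGroup.mk_mul, hLe, hLe, hLe, ← map_mul, ← QuotientGroup.mk_mul]
        rfl }
  have hθ : ∀ (y : D0) (g : ↥(Subgroup.centralizer ({bh} : Set Co0))),
      (QuotientGroup.mk (g : Co0) : Cfsg.Spor.Co1) =
        e (QuotientGroup.mk ⟨((y : Gb) : G), hDC y⟩) → θ y = φ g :=
    fun y g hg => hindep _ _ ((hLe y).trans hg.symm)
  have hθsurj : Function.Surjective θ := by
    intro h
    obtain ⟨g, rfl⟩ := hsurj h
    obtain ⟨c0, hc0⟩ := QuotientGroup.mk_surjective (e.symm (QuotientGroup.mk (g : Co0)))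
    have hc0' : e (QuotientGroup.mk c0) = QuotientGroup.mk (g : Co0) := by
      rw [hc0, e.apply_symm_apply]
    let bC : Subgroup.centralizer ({z} : Set G) := ⟨b, hbC⟩
    have hfix : ∀ a ∈ Subgroup.zpowers bC, c0⁻¹ * (a * c0 * a⁻¹) ∈ Q := by
      intro a ha
      obtain ⟨i, rfl⟩ := Subgroup.mem_zpowers_iff.1 ha
      rw [← QuotientGroup.eq_one_iff, ← e.map_eq_one_iff]
      simp only [QuotientGroup.mk_mul, QuotientGroup.mk_inv, QuotientGroup.mk_zpow, map_mul,
        map_inv, map_zpow, hc0']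
      rw [show e (QuotientGroup.mk bC) = QuotientGroup.mk bh from hbe.symm]
      have hc : Commute (QuotientGroup.mk bh : Cfsg.Spor.Co1) (QuotientGroup.mk (g : Co0)) :=
        (congrArg (QuotientGroup.mk (s := Subgroup.center Co0))
          (Subgroup.mem_centralizer_singleton_iff.1 g.2).symm)
      rw [(hc.zpow_left i).eq]
      group
    have h2 : IsPGroup 2 Q := fun x => ⟨2, MonsterFrame.up_inj (up_pow_four M x)⟩
    have hcop : (Nat.card (Subgroup.zpowers bC)).Coprime (Nat.card Q) := by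
      obtain ⟨k, hk⟩ := IsPGroup.iff_card.1 h2
      rw [hk, Nat.card_zpowers, show orderOf bC = p from (Subgroup.orderOf_coe bC).symm.trans O.ord]
      exact Nat.Coprime.pow_right k (Nat.coprime_two_right.2 O.odd)
    obtain ⟨c, hc, hcQ⟩ := CfsgLib.Coprime.exists_centralizing_in_coset (A := Subgroup.zpowers bC)
      (N := Q) (by rw [Subgroup.normalizer_eq_top]; exact le_top) hcop
      (Or.inl (Group.isSolvable_of_comm fun x y => Subtype.ext (by
        obtain ⟨i, hi⟩ := x.2; obtain ⟨j, hj⟩ := y.2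
        simp only [Subgroup.coe_mul, ← hi, ← hj]
        exact (Commute.zpow_zpow (Commute.refl bC) i j).eq))) hfix
    have hcG : (c : G) ∈ Gb := (hmemGb _).2
      (congrArg Subtype.val (Subgroup.mem_centralizer_iff.1 hc bC (Subgroup.mem_zpowers bC)))
    refine ⟨⟨⟨c, hcG⟩, (hzc ⟨c, hcG⟩).2 c.2⟩, hθ _ g ?_⟩
    rw [← hc0']
    exact congrArg e (QuotientGroup.eq.2 hcQ)
  have hθker : ∀ y : D0, θ y = 1 ↔ ∃ i : ℤ, (b ^ i)⁻¹ * ((y : Gb) : G) ∈ CQ M b := by
    intro y
    show φ (L' y) = 1 ↔ _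
    rw [hker, show ((L' y : _) : Co0) = L y from rfl, hLe, Subgroup.mem_zpowers_iff]
    constructor
    · rintro ⟨i, hi⟩
      rw [hbe, ← map_zpow, e.injective.eq_iff, ← QuotientGroup.mk_zpow, QuotientGroup.eq] at hi
      refine ⟨i, ⟨_, hi, by simp⟩, ?_⟩
      refine Subgroup.mem_centralizer_singleton_iff.2 ?_
      exact ((Commute.inv_left (Commute.zpow_left (Commute.refl b) i)).mul_left
        ((hmemGb _).1 (y : Gb).2).symm).eq
    · rintro ⟨i, ⟨q, hq, hqe⟩, -⟩
      refine ⟨i, ?_⟩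
      rw [hbe, ← map_zpow, e.injective.eq_iff, ← QuotientGroup.mk_zpow, QuotientGroup.eq]
      rwa [show (⟨b, hbC⟩ ^ i : Subgroup.centralizer ({z} : Set G))⁻¹ * ⟨((y : Gb) : G), hDC y⟩ = q from
        Subtype.ext (by simp [← hqe])]
  have hkle : f0.ker ≤ θ.ker := by
    intro y hy
    rw [MonoidHom.mem_ker, hθker]
    have h1 : ((y : Gb) : G) ∈ B := (hπ1 _).1 (congrArg Subtype.val hy)
    rw [hB] at h1
    obtain ⟨i, hi⟩ := Subgroup.mem_zpowers_iff.1 h1
    exact ⟨i, by rw [← hi, inv_mul_cancel]; exact one_mem _⟩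
  let θb : D →* H := f0.liftOfSurjective hf0 ⟨θ, hkle⟩
  have hθb : ∀ y, θb (f0 y) = θ y := fun y =>
    f0.liftOfRightInverse_comp_apply _ _ ⟨θ, hkle⟩ y
  have hθbsurj : Function.Surjective θb := fun h => by
    obtain ⟨y, rfl⟩ := hθsurj h
    exact ⟨f0 y, hθb y⟩
  set R := θb.ker with hR
  -- the fixed points as a subgroup downstairs
  have hCQGb : ∀ x ∈ CQ M b, x ∈ Gb := fun x hx =>
    (hmemGb x).2 (Subgroup.mem_centralizer_singleton_iff.1 hx.2).symm
  have hCQz : ∀ x ∈ CQ M b, x ∈ Subgroup.centralizer ({z} : Set G) := fun x hx =>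
    Subgroup.mem_centralizer_singleton_iff.2 (M.xcent.comm x hx.1)
  let j : ↥(CQ M b) →* D :=
    { toFun := fun x => f0 ⟨⟨x, hCQGb x x.2⟩, (hzc _).2 (hCQz x x.2)⟩
      map_one' := map_one f0
      map_mul' := fun x y => map_mul f0 ⟨⟨x, hCQGb x x.2⟩, (hzc _).2 (hCQz x x.2)⟩
        ⟨⟨y, hCQGb y y.2⟩, (hzc _).2 (hCQz y y.2)⟩ }
  have hjinj : Function.Injective j := (injective_iff_map_eq_one j).2 fun x hx => by
    have h1 : (x : G) ∈ B := (hπ1 ⟨x, hCQGb x x.2⟩).1 (congrArg Subtype.val hx)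
    exact Subtype.ext (hBQ _ h1 x.2.1)
  have hjR : j.range = R := by
    ext d
    constructor
    · rintro ⟨x, rfl⟩
      show θb (f0 _) = 1
      rw [hθb, hθker]
      exact ⟨0, by simp⟩
    · intro hd
      obtain ⟨y, rfl⟩ := hf0 d
      rw [hR, MonoidHom.mem_ker, hθb, hθker] at hd
      obtain ⟨i, hi⟩ := hd
      refine ⟨⟨_, hi⟩, Subtype.ext ?_⟩
      refine QuotientGroup.eq.2 (Subgroup.mem_subgroupOf.2 ?_)
      show ((b ^ i)⁻¹ * ((y : Gb) : G))⁻¹ * ((y : Gb) : G) ∈ B
      rw [show ((b ^ i)⁻¹ * ((y : Gb) : G))⁻¹ * ((y : Gb) : G) = ((y : Gb) : G)⁻¹ * b ^ i * ((y : Gb) : G) by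
        group, ((Commute.zpow_right ((hmemGb _).1 (y : Gb).2).symm i).inv_left).eq,
        inv_mul_cancel_right, hB]
      exact Subgroup.zpow_mem_zpowers b i
  let ej : ↥(CQ M b) ≃* R := (MonoidHom.ofInjective hjinj).trans (MulEquiv.subgroupCongr hjR)
  have hEx : IsExtraspecial 2 R :=
    MonsterFrame.extraspecial_equiv ej (O.isExtraspecial_CQ M T (by omega))
  have hcard : Nat.card R = 2 ^ (2 * w + 1) := by
    rw [← Nat.card_congr ej.toEquiv, O.card_CQ M T, hrw, pow_succ']
  have hord : orderOf z' = 2 := by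
    refine orderOf_eq_prime (by rw [hz', ← map_pow, show zG ^ 2 = 1 from Subtype.ext (by
      rw [pow_two]; exact M.xcent.inv), map_one]) fun h => ?_
    exact M.xcent.ne_one (hBQ z ((hπ1 zG).1 h) M.xcent.mem)
  -- the centraliser of the extraspecial group
  have hcent : Subgroup.centralizer (R : Set D) ≤ R := by
    intro d hd
    obtain ⟨y, rfl⟩ := hf0 d
    rw [hR, MonoidHom.mem_ker, hθb]
    refine hfaith _ fun v hv => ?_
    obtain ⟨q, hq⟩ := M.psi_lift v
    have hqC := (O.mem_CQ M hq).2 hv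
    have h1 := M.iso.2.2.2 ⟨((y : Gb) : G), hDC y⟩ (L y) (hLe y) v q hq
    rw [← psi_eq_iff M, show ((L' y : _) : Co0) = L y from rfl, h1, hq]
    congr 1
    apply MonsterFrame.up_inj
    show ((y : Gb) : G) * up q * ((y : Gb) : G)⁻¹ = up q
    have hc := Subgroup.mem_centralizer_iff.1 hd (j ⟨_, hqC⟩) (hjR.le ⟨_, rfl⟩)
    have hc' : π ((y : Gb) * ⟨up q, hCQGb _ hqC⟩ * (y : Gb)⁻¹ * ⟨up q, hCQGb _ hqC⟩⁻¹) = 1 := by
      rw [map_mul, map_mul, map_mul, map_inv, map_inv]
      have e1 : π ⟨up q, hCQGb _ hqC⟩ * π (y : Gb) = π (y : Gb) * π ⟨up q, hCQGb _ hqC⟩ :=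
        congrArg Subtype.val hc
      rw [← e1]; group
    have h3 := (hπ1 _).1 hc'
    simp only [Subgroup.coe_mul, Subgroup.coe_inv] at h3
    exact mul_inv_eq_one.1 (hBQ _ h3 (mul_mem (M.xcent.norm _
      (Subgroup.mem_centralizer_singleton_iff.1 (hDC y)) _ (M.mem_QG q)) (inv_mem (M.mem_QG q))))
  have hRp : IsPGroup 2 R := hEx.1.1
  have hfit : fittingSubgroup D = R := by
    refine le_antisymm ?_ (CfsgLib.Base.le_fittingSubgroup
      (CfsgLib.Base.isNilpotent_of_isPGroup hRp))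
    rw [CfsgLib.Base.fittingSubgroup_eq_iSup_pCore]
    refine iSup_le fun q => ?_
    haveI := Fact.mk q.2
    obtain ⟨n, hn⟩ := CfsgLib.Base.pCore_eq_pow_card (q : ℕ) D
    by_cases hq2 : (q : ℕ) = 2
    · have hp2 : IsPGroup 2 (pCore 2 D) := by
        rw [← hq2]
        exact IsPGroup.iff_card.2 ⟨n, hn⟩
      have hbot : (pCore 2 D).map θb = ⊥ :=
        hH _ ((pCore_normal 2 D).map θb hθbsurj) (hp2.map θb)
      rw [hq2, hR]
      exact (Subgroup.map_eq_bot_iff _).1 hbot
    · refine le_trans (fun x hx => Subgroup.mem_centralizer_iff.2 fun y hy => ?_) hcent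
      refine Subgroup.commute_of_normal_of_disjoint R (pCore (q : ℕ) D) inferInstance
        (pCore_normal _ D) ?_ y x hy hx
      rw [disjoint_iff, ← Subgroup.card_eq_one]
      refine Nat.eq_one_of_dvd_coprimes ?_ (Subgroup.card_dvd_of_le inf_le_left)
        (Subgroup.card_dvd_of_le inf_le_right)
      rw [hcard, hn]
      exact Nat.Coprime.pow _ _ ((Nat.coprime_primes Nat.prime_two q.2).2 (Ne.symm hq2))
  have hlayer : layer D = ⊥ := by
    rw [CfsgLib.Components.layer_eq_bot_iff]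
    intro K hK
    have h1 : K ≤ R := le_trans (le_trans (CfsgLib.Components.component_le_centralizer_fitting hK)
      (Subgroup.centralizer_le (show (R : Set D) ⊆ (fittingSubgroup D : Set D) from hfit.ge))) hcent
    exact CfsgLib.Components.component_not_le_of_isSolvable hK
      (haveI := hRp.isNilpotent; inferInstance) h1
  have hF : generalizedFittingSubgroup D = R := by
    rw [generalizedFittingSubgroup, hlayer, hfit, bot_sup_eq]
  -- the conjugates
  obtain ⟨F, hFinj, hFmem, hFsur, hF0⟩ := O.exists_param M T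
  have hnorm : ∀ i, i < 2 ^ r → sqNorm ((tv tb i : leechLattice) : GolayPt → ℤ) = normL (tb.getD i []) :=
    fun i hi => by rw [sqNorm_lOf, tv, lOf_toL (T.entry i hi)]
  have hpred : ∀ t, IsConj z (up (F t)) ↔
      (t.2.1 = 0 ∧ t.1 = true) ∨ normL (tb.getD t.2 []) = 64 := by
    rintro ⟨s, i⟩
    by_cases h0 : i.1 = 0
    · obtain rfl : i = ⟨0, Nat.two_pow_pos r⟩ := Fin.ext h0
      rw [hF0]
      have hn0 : normL (tb.getD 0 []) ≠ 64 := by
        intro h
        exact cl_ne_zero (tv tb 0) (by rw [hnorm 0 (Nat.two_pow_pos r)]; omega) T.zero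
      cases s
      · simp only [Bool.false_eq_true, if_false, and_false, false_or, hn0, iff_false]
        exact fun h => M.xcent.ne_one (isConj_one_left.1 h)
      · simp only [if_true, and_self, true_or, iff_true]
        exact IsConj.refl z
    · simp only [h0, false_and, false_or]
      rw [← hnorm i i.2]
      have hψ := (hFmem (s, i)).2
      rcases T.norm i i.2 h0 with h | h | h <;> rw [h]
      · simp only [show (32 : ℤ) ≠ 64 by norm_num, iff_false]
        exact M.not_conj_of_norm32 h hψ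
      · simp only [show (48 : ℤ) ≠ 64 by norm_num, iff_false]
        intro hc
        obtain ⟨g, hg⟩ := isConj_iff.1 hc
        exact M.sq_ne_one h hψ (MonsterFrame.conj_sq hg M.xcent.inv)
      · simp only [iff_true]
        exact ((M.norm64_iff (F (s, i))).2 ⟨_, h, hψ⟩).1
  have hiff : ∀ x : ↥(CQ M b), IsConj z' ((j x : D) : Gb ⧸ N) ↔ IsConj z (x : G) := by
    intro x
    constructor
    · intro h
      obtain ⟨g, hg⟩ := isConj_iff.1 h
      obtain ⟨g, rfl⟩ := QuotientGroup.mk'_surjective N g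
      have h1 : π (g * zG * g⁻¹ * (⟨x, hCQGb x x.2⟩ : Gb)⁻¹) = 1 := by
        rw [map_mul, map_mul, map_mul, map_inv, map_inv, hg]
        exact mul_inv_cancel _
      have h2 := (hπ1 _).1 h1
      simp only [Subgroup.coe_mul, Subgroup.coe_inv, zG] at h2
      rw [hB] at h2
      obtain ⟨i, hi⟩ := Subgroup.mem_zpowers_iff.1 h2
      have hxb : Commute (x : G) b := Subgroup.mem_centralizer_singleton_iff.1 x.2.2
      have hy : (g : G) * z * (g : G)⁻¹ = b ^ i * x := by rw [hi]; simp [mul_assoc]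
      have hsq : (b ^ i * (x : G)) * (b ^ i * x) = 1 := by
        rw [← hy, show (g : G) * z * (g : G)⁻¹ * ((g : G) * z * (g : G)⁻¹) = (g : G) * (z * z) * (g : G)⁻¹ by
          group, M.xcent.inv]; group
      have hb1 : b ^ i = 1 := by
        have h4 : (b ^ i) ^ 4 = 1 := by
          have e2 : (b ^ i) ^ 2 * (x : G) ^ 2 = 1 := by
            rw [← (hxb.symm.zpow_left i).mul_pow, pow_two]; exact hsq
          have e3 := congrArg (· ^ 2) e2
          simp only [((hxb.symm.zpow_left i).pow_pow 2 2).mul_pow, ← pow_mul, one_pow] at e3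
          obtain ⟨q, hq, hqe⟩ := x.2.1
          rw [← hqe] at e3
          rwa [show ((Subgroup.centralizer ({z} : Set G)).subtype q) ^ (2 * 2) = 1 from
            up_pow_four M ⟨q, hq⟩, mul_one] at e3
        have hp' : (b ^ i) ^ p = 1 := by
          rw [← zpow_natCast, ← zpow_mul, mul_comm, zpow_mul, zpow_natCast, O.pow_b, one_zpow]
        have := pow_gcd_eq_one.2 ⟨hp', h4⟩
        rwa [show Nat.gcd p 4 = 1 from by
          rw [show (4 : ℕ) = 2 ^ 2 by rfl]
          exact Nat.Coprime.pow_right 2 (Nat.coprime_two_right.2 O.odd), pow_one] at this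
      rw [hb1, one_mul] at hy
      exact isConj_iff.2 ⟨g, hy⟩
    · intro h
      by_cases hxz : (x : G) = z
      · rw [show ((j x : D) : Gb ⧸ N) = z' from
          congrArg π (Subtype.ext hxz : (⟨x, hCQGb x x.2⟩ : Gb) = zG)]
      · obtain ⟨q, hq, hqe⟩ := x.2.1
        obtain ⟨g, hg, hge⟩ := hconj ⟨q, hq⟩ (by rw [show up (⟨q, hq⟩ : Q) = x from hqe]; exact x.2)
          (by rw [show up (⟨q, hq⟩ : Q) = x from hqe]; exact h)
          (by rw [show up (⟨q, hq⟩ : Q) = x from hqe]; exact hxz)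
        refine isConj_iff.2 ⟨π ⟨g, hg⟩, ?_⟩
        rw [hz', ← map_inv, ← map_mul, ← map_mul]
        exact congrArg π (Subtype.ext (hge.trans hqe))
  have hcount : Set.ncard {x : D | x ∈ R ∧ IsConj z' (x : Gb ⧸ N)} =
      1 + 2 * ((Finset.range (2 ^ r)).filter fun i => normL (tb.getD i []) = 64).card := by
    let jF : Bool × Fin (2 ^ r) → D := fun t => j ⟨up (F t), (hFmem t).1⟩
    have hjF : Function.Injective jF := fun s t h =>
      hFinj (MonsterFrame.up_inj (congrArg (fun x : ↥(CQ M b) => (x : G)) (hjinj h)))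
    have hset : {x : D | x ∈ R ∧ IsConj z' (x : Gb ⧸ N)} =
        jF '' {t | (t.2.1 = 0 ∧ t.1 = true) ∨ normL (tb.getD t.2 []) = 64} := by
      ext x
      constructor
      · rintro ⟨hxR, hx⟩
        obtain ⟨y, rfl⟩ := hjR.ge hxR
        obtain ⟨t, ht⟩ := hFsur y y.2
        exact ⟨t, (hpred t).1 (by rw [ht]; exact (hiff y).1 hx), congrArg j (Subtype.ext ht)⟩
      · rintro ⟨t, ht, rfl⟩
        exact ⟨hjR.le ⟨_, rfl⟩, (hiff _).2 ((hpred t).2 ht)⟩
    rw [hset, Set.ncard_image_of_injective _ hjF]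
    set S := (Finset.range (2 ^ r)).filter fun i => normL (tb.getD i []) = 64
    let S' : Finset (Fin (2 ^ r)) := Finset.univ.filter fun i => normL (tb.getD i []) = 64
    have hSS : S'.card = S.card := Finset.card_bij (fun i _ => i.1)
      (fun i hi => by simp [S, i.2]; simpa [S'] using hi) (fun a _ c _ h => Fin.ext h)
      (fun c hc => by
        simp only [S, Finset.mem_filter, Finset.mem_range] at hc
        exact ⟨⟨c, hc.1⟩, Finset.mem_filter.2 ⟨Finset.mem_univ _, hc.2⟩, rfl⟩)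
    have h0' : (true, (⟨0, Nat.two_pow_pos r⟩ : Fin (2 ^ r))) ∉ (Finset.univ : Finset Bool) ×ˢ S' := by
      simp only [Finset.mem_product, Finset.mem_univ, true_and, S', Finset.mem_filter]
      intro h
      exact cl_ne_zero (tv tb 0) (by rw [hnorm 0 (Nat.two_pow_pos r)]; omega) T.zero
    have he : {t : Bool × Fin (2 ^ r) | (t.2.1 = 0 ∧ t.1 = true) ∨ normL (tb.getD t.2 []) = 64} =
        ↑(insert (true, (⟨0, Nat.two_pow_pos r⟩ : Fin (2 ^ r))) ((Finset.univ : Finset Bool) ×ˢ S')) := by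
      ext ⟨s, i⟩
      simp only [Set.mem_setOf_eq, Finset.coe_insert, Set.mem_insert_iff, Finset.mem_coe,
        Finset.mem_product, Finset.mem_univ, true_and, S', Finset.mem_filter, Prod.mk.injEq,
        Fin.ext_iff]
      tauto
    rw [he, Set.ncard_coe_finset, Finset.card_insert_of_notMem h0', Finset.card_product, hSS,
      Finset.card_univ, Fintype.card_bool, Nat.add_comm]
  refine ⟨zG.2, R, MonoidHom.normal_ker θb, ⟨hord, hF, hEx, hcard, ?_⟩, hcount⟩
  obtain ⟨i, hi, h64⟩ := hex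
  have hx := (hpred (false, ⟨i, hi⟩)).2 (Or.inr h64)
  obtain ⟨g, hg⟩ := isConj_iff.1 ((hiff ⟨_, (hFmem (false, ⟨i, hi⟩)).1⟩).2 hx)
  refine ⟨g, ⟨?_, ?_⟩, ?_⟩
  · show g * z' * g⁻¹ ∈ D
    rw [hg]; exact (j _).2
  · exact hjR.le ⟨⟨_, (hFmem (false, ⟨i, hi⟩)).1⟩, Subtype.ext hg.symm⟩
  · show g * z' * g⁻¹ ≠ z'
    rw [hg]
    intro h
    have hzF : up (F (false, ⟨i, hi⟩)) = z := by
      have e1 : j ⟨_, (hFmem (false, ⟨i, hi⟩)).1⟩ = j ⟨z, O.z_mem_CQ M⟩ := Subtype.ext h
      exact congrArg Subtype.val (hjinj e1)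
    have := hFinj (MonsterFrame.up_inj (hzF.trans (by simpa using (hF0 true).symm)) :
      F (false, ⟨i, hi⟩) = F (true, ⟨0, Nat.two_pow_pos r⟩))
    simp at this

end CfsgLib.Spor.Loc
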