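import Cfsg.Agent.Lib.Spor.Loc.Setup
import Cfsg.Agent.Lib.Spor.Loc.Quot
import Cfsg.Agent.Lib.Spor.Loc.SevenData
import Cfsg.Agent.Lib.Spor.SevenNorm
import Cfsg.Agent.Lib.Spor.TransvectionFive
import Cfsg.Agent.Lib.Small.A6Centralizer
import Cfsg.Agent.Lib.Classical.PSLSimple

/-!
The centraliser in the automorphism group of the lattice of an element of order 7 with six
dimensional fixed space: it is generated by the listed programs and maps onto `SL(3,2)` through an
invariant three dimensional space of fixed classes.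
-/

set_option autoImplicit false
set_option maxRecDepth 100000
set_option Elab.async false

namespace CfsgLib.Spor.Loc.Seven

open Cfsg
open CfsgLib.Spor CfsgLib.Spor.BlockData
open CfsgLib.MathieuOut (canon canon_mem_dfs powP normP canon_eq_normP canon_injective)
open CfsgLib.Spor.Co1Out (eq_of_sameOK actsAs_mul actsAs_one actsAs_pow actsAs_permEl sameOK runP_append)
open scoped Pointwise

theorem perm_ok : isM24P permA = true ∧ Nat.beq permA m24e7 = true ∧
    Nat.beq (compP permA permAi) CfsgLib.MathieuOut.idP = true ∧ isM24P permAi = true := by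
  decide +kernel

/-- the element of order 7 of M24 -/
noncomputable def A : ↥M24 :=
  ⟨(exists_rep_M24 perm_ok.1).choose, (exists_rep_M24 perm_ok.1).choose_spec.1⟩

theorem rep_A : Rep (A : Equiv.Perm GolayPt) permA := (exists_rep_M24 perm_ok.1).choose_spec.2

theorem rep_A' : Rep (A : Equiv.Perm GolayPt) m24e7 := by
  rw [← Nat.eq_of_beq_eq_true perm_ok.2.1]; exact rep_A

theorem rep_Ai : Rep ((A⁻¹ : ↥M24) : Equiv.Perm GolayPt) permAi := by
  obtain ⟨τ, hτ, hr⟩ := exists_rep_M24 perm_ok.2.2.2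
  have h := rep_A.mul hr
  rw [Nat.eq_of_beq_eq_true perm_ok.2.2.1] at h
  have h1 : (A : Equiv.Perm GolayPt) * τ = 1 := h.inj CfsgLib.MathieuOut.rep_idP
  rw [Subgroup.coe_inv, ← eq_inv_of_mul_eq_one_right h1]
  exact hr

/-- the automorphism of order 7 -/
noncomputable def bh : Co0 := permEl A

/-- its program -/
def progB : List Stp := [Stp.mono permAi 0]

theorem actsAs_bh : ActsAs bh (runP progB) := actsAs_permEl rep_Ai

theorem bh_mem : bh ∈ crossStab := monoEl_mem_crossStab _

theorem bh_checks : sameOK (List.replicate 7 progB).flatten [] = true ∧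
    sameOK progB [] = false ∧ sameOK progB Co1Out.progNeg = false := by decide +kernel

theorem bh_pow : bh ^ 7 = 1 := eq_of_sameOK (actsAs_pow actsAs_bh 7) actsAs_one bh_checks.1

theorem sameOK_of_eq {g h : Co0} {P R : List Stp} (hg : ActsAs g (runP P)) (hh : ActsAs h (runP R))
    (e : g = h) : sameOK P R = true := by
  simp only [sameOK, List.all_eq_true, decide_eq_true_eq, List.mem_range, Co1Out.runF_eq]
  intro i hi
  rw [show Co1Out.bigL i = lOf ((ThreeTransp.CoReduce.bigE (pt i) : leechLattice) : GolayPt → ℤ) by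
    rw [Co1Out.lOf_bigE, idx_pt hi], ← hg, ← hh, e]

theorem bh_mk_ne : (QuotientGroup.mk bh : Cfsg.Spor.Co1) ≠ 1 := by
  intro h
  rcases eq_of_central ((QuotientGroup.eq_one_iff bh).1 h) with e | e
  · have := sameOK_of_eq actsAs_bh actsAs_one e
    rw [bh_checks.2.1] at this; exact absurd this (by decide)
  · have := sameOK_of_eq actsAs_bh Co1Out.actsAs_negEl e
    rw [bh_checks.2.2] at this; exact absurd this (by decide)

theorem bh_order : orderOf bh = 7 := by
  haveI : Fact (Nat.Prime 7) := ⟨by norm_num⟩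
  exact orderOf_eq_prime bh_pow fun h => bh_mk_ne (by rw [h]; rfl)

theorem tab_ok : tabOK progB 7 6 tb cov = true := by decide +kernel

theorem tab : Tab bh 6 tb := tab_of_ok actsAs_bh (by decide) tab_ok

theorem one_lt : 1 < 2 ^ 6 := by norm_num

theorem top_cl : cl (tv tb 1) = cl eTop := by
  refine cl_of_congB ?_
  rw [tv, lOf_toL (tab.entry 1 one_lt), show ((eTop : leechLattice) : GolayPt → ℤ) =
    ((ThreeTransp.CoReduce.bigE none : leechLattice) : GolayPt → ℤ) from rfl, Co1Out.lOf_bigE]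
  decide +kernel

/-! ### The generators -/

theorem gens_ok : ((List.range gens.length).all fun k =>
    genOK progB (gens.getD k []) 6 tb (imgs.getD k [])) = true ∧ gens.length = 6 ∧
    imgs.length = 6 := by decide +kernel

theorem exists_g (k : ℕ) (hk : k < 6) : ∃ g : CB bh, ActsAs (g : Co0) (runP (gens.getD k [])) ∧
    ∀ i : Fin (2 ^ 6), (tab.img g i : ℕ) = lext 6 (imgs.getD k []) i :=
  exists_gen actsAs_bh tab
    (List.all_eq_true.1 gens_ok.1 k (List.mem_range.2 (gens_ok.2.1.symm ▸ hk)))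

/-- the generators -/
noncomputable def g (k : Fin 6) : CB bh := (exists_g k k.2).choose

theorem g_acts (k : Fin 6) : ActsAs (g k : Co0) (runP (gens.getD k [])) :=
  (exists_g k k.2).choose_spec.1

theorem g_img (k : Fin 6) : ∀ i : Fin (2 ^ 6), (tab.img (g k) i : ℕ) = lext 6 (imgs.getD k []) i :=
  (exists_g k k.2).choose_spec.2

/-- the subgroup of the generators -/
noncomputable def S : Subgroup (CB bh) := Subgroup.closure (Set.range g)

theorem g_mem (k : Fin 6) : g k ∈ S := Subgroup.subset_closure ⟨k, rfl⟩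

theorem stab_checks : fixedOK permA fixedWords = true ∧
    fixedWords.all (fun m => (spanList fixedBasis).any (Nat.beq m)) = true ∧
    fixedBasis.all (fun m => inCode m && Nat.blt m 16777216) = true ∧
    ((List.range 3).all fun i =>
      decide (gens.getD (2 + i) [] matches [Stp.mono _ _]) &&
      sameOK (gens.getD (2 + i) []) [Stp.mono CfsgLib.MathieuOut.idP (fixedBasis.getD i 0)]) = true ∧
    ((List.range 2).all fun i =>
      isM24P (pgens.getD i 0) &&
      ((List.range 24).all fun j => decide (Co1Out.runF (gens.getD i []) (Co1Out.bigL j) =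
        Co1Out.bigL (getP (pgens.getD i 0) j)))) = true ∧
    pgens.length = 2 ∧ fixedBasis.length = 3 ∧
    permClosOK pgens pList [] = true ∧
    (sevenTo 1).all (fun t => (pList.map fun e => normP e.1).any (Nat.beq t)) = true ∧
    (sevenTo 1).length = 42 ∧ fixedWords.length = 8 ∧ sevenTo 3 = [] := by decide +kernel

theorem eps_gen (i : ℕ) (hi : i < 3) (e : Co0)
    (he : ActsAs e (runP [Stp.mono CfsgLib.MathieuOut.idP (fixedBasis.getD i 0)])) :
    e ∈ S.map (CB bh).subtype := by
  have h := List.all_eq_true.1 stab_checks.2.2.2.1 i (List.mem_range.2 hi)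
  simp only [Bool.and_eq_true] at h
  exact ⟨g ⟨2 + i, by omega⟩, g_mem _, eq_of_sameOK (g_acts ⟨2 + i, by omega⟩) he h.2⟩

theorem perm_gen (i : ℕ) (hi : i < 2) : ∃ σ : ↥M24,
    Rep (σ : Equiv.Perm GolayPt) (pgens.getD i 0) ∧ permEl σ ∈ S.map (CB bh).subtype := by
  have h := List.all_eq_true.1 stab_checks.2.2.2.2.1 i (List.mem_range.2 hi)
  simp only [Bool.and_eq_true, List.all_eq_true, List.mem_range, decide_eq_true_eq,
    Co1Out.runF_eq] at h
  obtain ⟨σ, hσ, hr⟩ := exists_rep_M24 h.1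
  refine ⟨⟨σ, hσ⟩, hr, g ⟨i, by omega⟩, g_mem _, co0_ext fun p => Subtype.ext (lOf_inj ?_)⟩
  rw [Subgroup.coe_subtype, g_acts, Co1Out.lOf_bigE, h.2 _ (idx_lt p), permEl, monoEl_smul]
  rw [show getP (pgens.getD i 0) (idx p) = idx (σ p) by rw [hr _ (idx_lt p), pt_idx],
    ← Co1Out.lOf_bigE]
  congr 1
  rw [bigE_coe, bigE_coe, signedPerm_single]
  simp

theorem perm_stab {σ : ↥M24} (hσ : σ * A = A * σ) : permEl σ ∈ S.map (CB bh).subtype := by
  have hm := mem_sevenTo (k := 1) σ.2 rep_A'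
    (by rw [pow_one]; exact congrArg Subtype.val hσ)
  have h := List.all_eq_true.1 stab_checks.2.2.2.2.2.2.2.2.1 _ hm
  simp only [List.any_eq_true, List.mem_map, Nat.beq_eq] at h
  obtain ⟨x, ⟨e, he, rfl⟩, hx⟩ := h
  have key := perm_mem (S.map (CB bh).subtype) (pg := pgens)
    (fun k hk => perm_gen k (stab_checks.2.2.2.2.2.1 ▸ hk)) pList [] (by simp) (by simp)
    stab_checks.2.2.2.2.2.2.2.1 e.1 (by simpa using ⟨e.2.1, e.2.2, he⟩)
  have hall : ∀ v ∈ pList.map Prod.fst, isM24P v = true :=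
    List.all_eq_true.1 (show (pList.map Prod.fst).all isM24P = true by decide +kernel)
  obtain ⟨τ, hτ, hτr⟩ := exists_rep_M24 (hall e.1 (List.mem_map_of_mem he))
  have : σ = ⟨τ, hτ⟩ := Subtype.ext (canon_injective (by rw [hx, canon_eq_normP hτr]))
  exact this ▸ key ⟨τ, hτ⟩ hτr

theorem eps_stab {c : ↥(supports (golayCode : Set (GolayPt → ZMod 2)))}
    (hc : (A : Equiv.Perm GolayPt) • (c : Finset GolayPt) = c) :
    epsEl c ∈ S.map (CB bh).subtype := by
  have hm := fixed_word rep_A stab_checks.1 c.2 hc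
  have h := List.all_eq_true.1 stab_checks.2.1 _ hm
  simp only [List.any_eq_true, Nat.beq_eq] at h
  obtain ⟨m, hm', he⟩ := h
  refine eps_mem _ stab_checks.2.2.1 (fun m hm e he' => ?_) m hm' c (by rw [← he, toSet_mask])
  obtain ⟨i, hi, rfl⟩ := List.getElem_of_mem hm
  have hi3 : i < 3 := stab_checks.2.2.2.2.2.2.1 ▸ hi
  exact eps_gen i hi3 e (by rw [List.getD_eq_getElem _ 0 hi]; exact he')

theorem stab_le (x : CB bh) (hx : (x : Co0) ∈ crossStab) : x ∈ S := by
  obtain ⟨σ, c, hσ, hc, -, he⟩ :=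
    stab_cases (A := A) rfl hx (Subgroup.mem_centralizer_singleton_iff.1 x.2)
  have h : (x : Co0) ∈ S.map (CB bh).subtype := he ▸ mul_mem (eps_stab hc) (perm_stab hσ)
  obtain ⟨y, hy, hyx⟩ := h
  rwa [show x = y from Subtype.ext hyx.symm]

theorem card_stab : Nat.card ↥(crossStab ⊓ CB bh) ≤ 336 := by
  refine (card_stab_le (A := A) rfl rep_A stab_checks.1 (L := sevenTo 1) fun σ hσ => ?_).trans ?_
  · exact mem_sevenTo σ.2 rep_A' (by rw [pow_one]; exact congrArg Subtype.val hσ)
  · rw [stab_checks.2.2.2.2.2.2.2.2.2.1, stab_checks.2.2.2.2.2.2.2.2.2.2.1]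

/-! ### The orbit -/

/-- indices of the orbit -/
def orbIdx : List ℕ := orb.map Prod.fst ++ [1]

theorem orbit_checks : orbitOK 6 1 imgs orb [1] = true ∧ progK.all Stp.ok = true ∧
    sameOK (progB ++ progK) (progK ++ (List.replicate 5 progB).flatten) = true ∧
    ((List.range 64).all fun i => !decide (normL (tb.getD i []) = 64) ||
      orbIdx.any (Nat.beq i) ||
      orbIdx.any fun w => congB (Co1Out.runF progK (tb.getD w [])) (tb.getD i [])) = true ∧
    orbIdx.length = 7 ∧ orbIdx.all (fun i => Nat.blt i 64) = true := by decide +kernel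

theorem orbit_mem {i : ℕ} (hi : i ∈ orbIdx) :
    ∃ x ∈ S, (tab.img x ⟨1, one_lt⟩ : ℕ) = i := by
  refine (reach_orbit tab (fun k hk => ⟨g ⟨k, gens_ok.2.2 ▸ hk⟩, g_mem _, g_img ⟨k, gens_ok.2.2 ▸ hk⟩⟩)
    one_lt orb [1] (fun j hj => ?_) orbit_checks.1 i hi).2
  rw [List.mem_singleton.1 hj]
  exact ⟨one_lt, 1, one_mem S, by rw [tab.img_one]⟩

/-- the element raising the automorphism to its fifth power -/
noncomputable def kEl : Co0 := (exists_prog orbit_checks.2.1).choose

theorem kEl_acts : ActsAs kEl (runP progK) := (exists_prog orbit_checks.2.1).choose_spec.2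

theorem kEl_conj : kEl * bh * kEl⁻¹ = bh ^ 5 := by
  rw [mul_inv_eq_iff_eq_mul]
  exact eq_of_sameOK (actsAs_mul kEl_acts actsAs_bh)
    (actsAs_mul (actsAs_pow actsAs_bh 5) kEl_acts) orbit_checks.2.2.1

theorem orbit_all (x : CB bh) : (tab.img x ⟨1, one_lt⟩ : ℕ) ∈ orbIdx := by
  set j := tab.img x ⟨1, one_lt⟩
  have h := List.all_eq_true.1 orbit_checks.2.2.2.1 (j : ℕ) (List.mem_range.2 (by simpa using j.2))
  rw [tab.img_norm one_lt top_cl x] at h
  simp only [decide_true, Bool.not_true, Bool.false_or, Bool.or_eq_true, List.any_eq_true,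
    Nat.beq_eq, Co1Out.runF_eq] at h
  rcases h with ⟨w, hw, hwj⟩ | ⟨w, hw, hwj⟩
  · rwa [hwj]
  exfalso
  have hw64 : w < 64 := by simpa using List.all_eq_true.1 orbit_checks.2.2.2.2.2 w hw
  obtain ⟨y, -, hy⟩ := orbit_mem hw
  have h1 : cl (kEl • tv tb w) = cl (tv tb (j : ℕ)) := cl_of_congB (by
    rw [kEl_acts, tv, tv, lOf_toL (tab.entry w hw64), lOf_toL (tab.entry _ j.2)]
    exact hwj)
  have h2 : cl ((y : Co0) • eTop) = cl (tv tb w) := by
    rw [cl_smul_congr _ top_cl.symm, tab.img_spec y ⟨1, one_lt⟩, hy]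
  have h3 : cl ((x : Co0) • eTop) = cl ((kEl * y) • eTop) := by
    rw [mul_smul, cl_smul_congr _ h2, h1, cl_smul_congr _ top_cl.symm]
    exact tab.img_spec x ⟨1, one_lt⟩
  have hm : (kEl * (y : Co0))⁻¹ * (x : Co0) ∈ crossStab := mem_crossStab_of_cl (by
    rw [mul_smul, cl_smul_congr _ h3, inv_smul_smul])
  have hy' := Subgroup.mem_centralizer_singleton_iff.1 y.2
  have hx' := Subgroup.mem_centralizer_singleton_iff.1 x.2
  have hk3 : kEl⁻¹ * bh * kEl = bh ^ 3 := by
    have e1 : bh = (bh ^ 5) ^ 3 := by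
      rw [← pow_mul, show 5 * 3 = 7 * 2 + 1 by rfl, pow_succ, pow_mul, bh_pow, one_pow, one_mul]
    conv_lhs => rw [e1, ← kEl_conj, conj_pow]
    group
  set m := (kEl * (y : Co0))⁻¹ * (x : Co0) with hmdef
  have hc : m * bh = bh ^ 3 * m := by
    have ey : Commute (y : Co0)⁻¹ (bh ^ 3) := (Commute.inv_left hy').pow_right 3
    calc m * bh = (kEl * (y : Co0))⁻¹ * ((x : Co0) * bh) := by rw [hmdef]; group
      _ = (y : Co0)⁻¹ * (kEl⁻¹ * bh * kEl) * (kEl⁻¹ * (x : Co0)) := by rw [hx']; group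
      _ = ((y : Co0)⁻¹ * bh ^ 3) * (kEl⁻¹ * (x : Co0)) := by rw [hk3]
      _ = bh ^ 3 * m := by rw [ey.eq, hmdef]; group
  obtain ⟨⟨σ, c⟩, he⟩ := exists_monoEl_of_mem hm
  rw [← he, bh, ← permEl_pow, permEl, permEl, monoEl_mul, monoEl_mul] at hc
  have h4 : σ * A = A ^ 3 * σ := congrArg Prod.fst (monoEl_injective hc)
  have h5 := mem_sevenTo (k := 3) σ.2 rep_A' (congrArg Subtype.val h4)
  rw [stab_checks.2.2.2.2.2.2.2.2.2.2.2] at h5
  simp at h5

theorem S_top : S = ⊤ :=
  eq_top_of_orbit tab one_lt top_cl orbIdx S orbit_all (fun _ hi => orbit_mem hi) stab_le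

theorem card_CB : Nat.card (CB bh) ≤ 2352 := by
  refine (card_le_orbit tab one_lt top_cl orbit_all card_stab).trans ?_
  rw [orbit_checks.2.2.2.2.1]

/-! ### The map onto `SL(3,2)` -/

/-- the eight classes of the invariant space -/
def wTab : List ℕ := [0, 1, 30, 31, 50, 51, 44, 45]

/-- number of a vector -/
def toEight (v : Fin 3 → ZMod 2) : Fin 8 :=
  ⟨(v 0).val + 2 * (v 1).val + 4 * (v 2).val, by
    have := ZMod.val_lt (v 0); have := ZMod.val_lt (v 1); have := ZMod.val_lt (v 2); omega⟩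

/-- vector of a number -/
def ofEight (i : Fin 8) : Fin 3 → ZMod 2 := fun j => if (i : ℕ).testBit j then 1 else 0

theorem eight_inv : (∀ i, toEight (ofEight i) = i) ∧ ∀ v, ofEight (toEight v) = v := by
  decide +kernel

theorem toEight_injective : Function.Injective toEight := fun u v h => by
  rw [← eight_inv.2 u, h, eight_inv.2]

/-- `SL(3,2)` on the eight vectors -/
def slPerm : Matrix.SpecialLinearGroup (Fin 3) (ZMod 2) →* Equiv.Perm (Fin 8) where
  toFun M :=
    { toFun := fun i => toEight ((M : Matrix (Fin 3) (Fin 3) (ZMod 2)).mulVec (ofEight i))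
      invFun := fun i => toEight ((M⁻¹ : Matrix.SpecialLinearGroup (Fin 3) (ZMod 2)).1.mulVec (ofEight i))
      left_inv := fun i => by
        simp only [eight_inv.2, Matrix.mulVec_mulVec, ← Matrix.SpecialLinearGroup.coe_mul,
          inv_mul_cancel, Matrix.SpecialLinearGroup.coe_one, Matrix.one_mulVec, eight_inv.1]
      right_inv := fun i => by
        simp only [eight_inv.2, Matrix.mulVec_mulVec, ← Matrix.SpecialLinearGroup.coe_mul,
          mul_inv_cancel, Matrix.SpecialLinearGroup.coe_one, Matrix.one_mulVec, eight_inv.1] }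
  map_one' := Equiv.ext fun i => by
    simp [eight_inv.1]
  map_mul' M N := Equiv.ext fun i => by
    simp [eight_inv.2, Matrix.mulVec_mulVec]

theorem slPerm_injective : Function.Injective slPerm := by
  intro M N h
  refine Subtype.ext (Matrix.toLin'.injective (LinearMap.ext fun v => ?_))
  have h1 := DFunLike.congr_fun h (toEight v)
  have h2 : toEight ((M : Matrix (Fin 3) (Fin 3) (ZMod 2)).mulVec (ofEight (toEight v))) =
      toEight ((N : Matrix (Fin 3) (Fin 3) (ZMod 2)).mulVec (ofEight (toEight v))) := h1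
  rw [eight_inv.2] at h2
  exact toEight_injective h2

/-- the matrices of the generators -/
def mats : Fin 6 → Matrix.SpecialLinearGroup (Fin 3) (ZMod 2) :=
  ![⟨!![1, 0, 0; 0, 0, 1; 0, 1, 0], by decide⟩, ⟨!![1, 0, 0; 0, 1, 0; 0, 1, 1], by decide⟩,
    ⟨!![1, 1, 0; 0, 1, 0; 0, 0, 1], by decide⟩, ⟨!![1, 1, 1; 0, 1, 0; 0, 0, 1], by decide⟩,
    ⟨!![1, 0, 1; 0, 1, 0; 0, 0, 1], by decide⟩, ⟨!![0, 1, 0; 1, 1, 0; 0, 1, 1], by decide⟩]

theorem mats_checks : (∀ k : Fin 6, ∀ i : Fin 8,
    lext 6 (imgs.getD k []) (wTab.getD i 0) = wTab.getD (slPerm (mats k) i) 0) ∧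
    wTab.Nodup ∧ wTab.length = 8 ∧ ∀ i : Fin 8, wTab.getD i 0 < 64 := by decide +kernel

/-- the blocks -/
def blk (i : Fin 8) : Finset (Fin (2 ^ 6)) := {⟨wTab.getD i 0, mats_checks.2.2.2 i⟩}

theorem blk_injective : Function.Injective blk := by
  intro i j h
  have h1 : wTab.getD i 0 = wTab.getD j 0 := congrArg Fin.val (Finset.singleton_injective h)
  have hl := mats_checks.2.2.1
  have hi : (i : ℕ) < wTab.length := by omega
  have hj : (j : ℕ) < wTab.length := by omega
  rw [List.getD_eq_getElem _ 0 hi, List.getD_eq_getElem _ 0 hj] at h1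
  exact Fin.ext ((List.Nodup.getElem_inj_iff mats_checks.2.1).1 h1)

theorem blk_img (k : Fin 6) (i : Fin 8) :
    (blk i).image (tab.img (g k)) = blk (slPerm (mats k) i) := by
  rw [blk, Finset.image_singleton, blk]
  congr 1
  refine Fin.ext ?_
  rw [g_img]
  exact mats_checks.1 k i

theorem exists_phi0 : ∃ φ : CB bh →* Equiv.Perm (Fin 8),
    ∀ x i, (blk i).image (tab.img x) = blk (φ x i) :=
  tab.exists_setsHom blk blk_injective (Set.range g) S_top (by
    rintro _ ⟨k, rfl⟩ i
    exact ⟨_, blk_img k i⟩)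

/-- the action on the eight classes -/
noncomputable def phi0 : CB bh →* Equiv.Perm (Fin 8) := exists_phi0.choose

theorem phi0_g (k : Fin 6) : phi0 (g k) = slPerm (mats k) :=
  Equiv.ext fun i => blk_injective (by
    show blk (exists_phi0.choose (g k) i) = _
    rw [← exists_phi0.choose_spec, blk_img])

theorem phi0_range (x : CB bh) : phi0 x ∈ slPerm.range := by
  have hx : x ∈ S := S_top ▸ Subgroup.mem_top x
  induction hx using Subgroup.closure_induction with
  | mem x hx => obtain ⟨k, rfl⟩ := hx; exact ⟨mats k, (phi0_g k).symm⟩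
  | one => rw [map_one]; exact one_mem _
  | mul a b _ _ ha hb => rw [map_mul]; exact mul_mem ha hb
  | inv a _ ha => rw [map_inv]; exact inv_mem ha

/-- the map onto `SL(3,2)` -/
noncomputable def phi : CB bh →* Matrix.SpecialLinearGroup (Fin 3) (ZMod 2) :=
  (MonoidHom.ofInjective slPerm_injective).symm.toMonoidHom.comp
    (phi0.codRestrict slPerm.range phi0_range)

theorem phi_g (k : Fin 6) : phi (g k) = mats k := by
  refine slPerm_injective ?_
  rw [← phi0_g]
  exact MonoidHom.apply_ofInjective_symm slPerm_injective ⟨_, phi0_range _⟩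

theorem phi_eq_one {x : CB bh} (h : tab.act x = 1) : phi x = 1 := by
  refine slPerm_injective ?_
  rw [map_one, ← setsHom_eq_one tab blk_injective exists_phi0.choose_spec h]
  exact MonoidHom.apply_ofInjective_symm slPerm_injective ⟨_, phi0_range _⟩

theorem transvection_words :
    (mats 2).1 = Matrix.transvection 0 1 1 ∧
    (mats 4).1 = Matrix.transvection 0 2 1 ∧
    (mats 2 * mats 5 * mats 1).1 = Matrix.transvection 1 0 1 ∧
    (mats 0 * mats 1 * mats 0).1 = Matrix.transvection 1 2 1 ∧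
    (mats 2 * mats 5 * mats 2 * mats 5).1 = Matrix.transvection 2 0 1 ∧
    (mats 1).1 = Matrix.transvection 2 1 1 := by decide +kernel

theorem phi_surjective : Function.Surjective phi := by
  rw [← MonoidHom.range_eq_top, eq_top_iff]
  rintro ⟨M, hM⟩ -
  have hm : ∀ k, mats k ∈ phi.range := fun k => ⟨g k, phi_g k⟩
  have z2 : ∀ a : ZMod 2, a ≠ 0 → a = 1 := by decide
  suffices h : ∀ N : Matrix (Fin 3) (Fin 3) (ZMod 2), N.det ≠ 0 →
      ∀ hN : N.det = 1, (⟨N, hN⟩ : Matrix.SpecialLinearGroup (Fin 3) (ZMod 2)) ∈ phi.range from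
    h M (by rw [hM]; exact one_ne_zero) hM
  intro N hN
  refine Matrix.diagonal_transvection_induction_of_det_ne_zero
    (fun N => ∀ hN : N.det = 1,
      (⟨N, hN⟩ : Matrix.SpecialLinearGroup (Fin 3) (ZMod 2)) ∈ phi.range) N hN ?_ ?_ ?_
  · intro D hD h1
    have e : ∀ i, D i = 1 := fun i => z2 _ fun h => hD (by
      rw [Matrix.det_diagonal]; exact Finset.prod_eq_zero (Finset.mem_univ i) h)
    rw [show (⟨Matrix.diagonal D, h1⟩ : Matrix.SpecialLinearGroup (Fin 3) (ZMod 2)) = (1 : Matrix.SpecialLinearGroup (Fin 3) (ZMod 2)) from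
      Subtype.ext (by simp [funext e, Matrix.SpecialLinearGroup.coe_one])]
    exact one_mem _
  · rintro ⟨i, j, hij, c⟩ h1
    by_cases hc : c = 0
    · subst hc
      rw [show (⟨_, h1⟩ : Matrix.SpecialLinearGroup (Fin 3) (ZMod 2)) = (1 : Matrix.SpecialLinearGroup (Fin 3) (ZMod 2)) from
        Subtype.ext (by simp [Matrix.TransvectionStruct.toMatrix, Matrix.SpecialLinearGroup.coe_one])]
      exact one_mem _
    · obtain rfl := z2 c hc
      obtain ⟨e01, e02, e10, e12, e20, e21⟩ := transvection_words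
      fin_cases i <;> fin_cases j <;> simp at hij <;>
        first
          | (rw [show (⟨_, h1⟩ : Matrix.SpecialLinearGroup (Fin 3) (ZMod 2)) = mats 2 from
              Subtype.ext e01.symm]; exact hm 2)
          | (rw [show (⟨_, h1⟩ : Matrix.SpecialLinearGroup (Fin 3) (ZMod 2)) = mats 4 from
              Subtype.ext e02.symm]; exact hm 4)
          | (rw [show (⟨_, h1⟩ : Matrix.SpecialLinearGroup (Fin 3) (ZMod 2)) = mats 2 * mats 5 * mats 1 from
              Subtype.ext e10.symm]; exact mul_mem (mul_mem (hm 2) (hm 5)) (hm 1))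
          | (rw [show (⟨_, h1⟩ : Matrix.SpecialLinearGroup (Fin 3) (ZMod 2)) = mats 0 * mats 1 * mats 0 from
              Subtype.ext e12.symm]; exact mul_mem (mul_mem (hm 0) (hm 1)) (hm 0))
          | (rw [show (⟨_, h1⟩ : Matrix.SpecialLinearGroup (Fin 3) (ZMod 2)) =
              mats 2 * mats 5 * mats 2 * mats 5 from Subtype.ext e20.symm]
             exact mul_mem (mul_mem (mul_mem (hm 2) (hm 5)) (hm 2)) (hm 5))
          | (rw [show (⟨_, h1⟩ : Matrix.SpecialLinearGroup (Fin 3) (ZMod 2)) = mats 1 from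
              Subtype.ext e21.symm]; exact hm 1)
  · intro A B hA hB ha hb h1
    have hA1 : A.det = 1 := z2 _ hA
    have hB1 : B.det = 1 := z2 _ hB
    exact mul_mem (ha hA1) (hb hB1)

theorem phi_ker : ∀ x : CB bh, phi x = 1 ↔
    (QuotientGroup.mk (x : Co0) : Cfsg.Spor.Co1) ∈
      Subgroup.zpowers (QuotientGroup.mk bh : Cfsg.Spor.Co1) :=
  ker_of_card (by norm_num : Nat.Prime 7) (by decide) bh_order phi phi_surjective
    (phi_eq_one tab.act_self) (phi_eq_one tab.act_neg)
    (card_CB.trans (by rw [CfsgLib.Spor.Tv5.card_SL3]))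

theorem phi_faith (x : CB bh)
    (h : ∀ v : leechLattice, cl (bh • v) = cl v → cl ((x : Co0) • v) = cl v) : phi x = 1 :=
  phi_eq_one (tab.act_eq_one h)

theorem sl_no_two (N : Subgroup (Matrix.SpecialLinearGroup (Fin 3) (ZMod 2))) (hN : N.Normal)
    (h2 : IsPGroup 2 N) : N = ⊥ := by
  haveI : IsSimpleGroup (Matrix.SpecialLinearGroup (Fin 3) (ZMod 2)) := by
    haveI : Nontrivial (Matrix.SpecialLinearGroup (Fin 3) (ZMod 2)) :=
      ⟨⟨mats 2, 1, fun h => absurd (congrArg Subtype.val h) (by decide +kernel)⟩⟩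
    haveI := CfsgLib.Classical.isSimpleGroup_PSL_fin (F := ZMod 2) 3 (by norm_num) (by norm_num)
    exact IsSimpleGroup.isSimpleGroup_of_surjective
      (H := Matrix.SpecialLinearGroup (Fin 3) (ZMod 2))
      ((QuotientGroup.quotientMulEquivOfEq CfsgLib.Small.center_SL_three_two).trans
        QuotientGroup.quotientBot).toMonoidHom (MulEquiv.surjective _)
  refine hN.eq_bot_or_eq_top.resolve_right fun h => ?_
  haveI : Fact (Nat.Prime 2) := ⟨Nat.prime_two⟩
  obtain ⟨k, hk⟩ := IsPGroup.iff_card.1 h2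
  rw [h, Subgroup.card_top, CfsgLib.Spor.Tv5.card_SL3] at hk
  have h7 : 7 ∣ 2 ^ k := hk ▸ (by norm_num)
  exact absurd ((Nat.Prime.dvd_of_dvd_pow (by norm_num) h7)) (by norm_num)

theorem count_checks : (∃ i < 2 ^ 6, normL (tb.getD i []) = 64) ∧
    ((Finset.range (2 ^ 6)).filter fun i => normL (tb.getD i []) = 64).card = 14 :=
  ⟨⟨1, one_lt, by decide +kernel⟩, by decide +kernel⟩

end CfsgLib.Spor.Loc.Seven
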