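import Cfsg.Agent.Lib.Spor.Loc.SevenMain
import Cfsg.Agent.Lib.Spor.Loc.QuotZ
import Cfsg.Agent.Lib.Spor.Loc.Layer
import Cfsg.Agent.Lib.PGroups.Extraspecial

/-!
The automiser of a Sylow 7-subgroup of the joint centraliser of two conjugates in a group of Monster
type, and the outer action of an inverting involution on the layer of the centraliser.
-/

set_option autoImplicit false
set_option linter.unusedSectionVars false

namespace CfsgLib.Spor.Loc

open Cfsg CfsgLib.ThreeTransp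
open CfsgLib.ThreeTransp.MonsterFrame (qImage up)

variable {G : Type*} [Group G] [Finite G] {z : G}
  {Q : Subgroup (Subgroup.centralizer ({z} : Set G))} [Q.Normal]
  {e : (Subgroup.centralizer ({z} : Set G)) ⧸ Q ≃* Cfsg.Spor.Co1}
  {ψ : leechLattice → Q ⧸ Subgroup.center Q}

/-- An element of order 7 carried to its fifth power has full automiser. -/
theorem relIndex_seven {b c : G} (hb : orderOf b = 7) (hcz : c * z = z * c)
    (hc : c * b * c⁻¹ = b ^ 5) :
    (Subgroup.centralizer (Subgroup.zpowers b : Set G)).relIndex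
      (Subgroup.normalizer (Subgroup.zpowers b : Set G)) = 6 := by
  set B := Subgroup.zpowers b with hBdef
  have hcard : Nat.card B = 7 := by rw [hBdef, Nat.card_zpowers, hb]
  rw [Subgroup.relIndex, ← Subgroup.normalizerMonoidHom_ker, Subgroup.index_ker]
  have htop : B.normalizerMonoidHom.range = ⊤ := by
    rw [eq_top_iff]
    intro φ _
    set bB : B := ⟨b, Subgroup.mem_zpowers b⟩
    obtain ⟨i, hi⟩ : ∃ i : ℕ, bB ^ i = φ bB :=
      mem_powers_iff_mem_zpowers.2 (Subgroup.mem_zpowers_iff.2 (by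
        obtain ⟨j, hj⟩ := Subgroup.mem_zpowers_iff.1 (φ bB).2
        exact ⟨j, Subtype.ext (by simpa [bB] using hj)⟩))
    have hi7 : ¬ 7 ∣ i := fun ⟨m, hm⟩ => by
      have h1 : φ bB = 1 := by
        rw [← hi, hm, pow_mul, show bB ^ 7 = 1 from
          Subtype.ext (by rw [SubgroupClass.coe_pow, Subgroup.coe_one, ← hb]; exact pow_orderOf_eq_one b),
          one_pow]
      rw [map_eq_one_iff _ φ.injective] at h1
      have h2 : b = 1 := congrArg Subtype.val h1
      rw [h2, orderOf_one] at hb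
      omega
    obtain ⟨d, -, hd⟩ := aut_seven hb hcz hc hi7
    have hdn : d ∈ Subgroup.normalizer (B : Set G) := by
      have hmap : B.map (MulAut.conj d).toMonoidHom = B := by
        refine Subgroup.eq_of_le_of_card_ge ?_ (by
          rw [Subgroup.card_map_of_injective (f := (MulAut.conj d).toMonoidHom) (MulAut.conj d).injective])
        rw [hBdef, MonoidHom.map_zpowers, Subgroup.zpowers_le]
        exact ⟨(i : ℤ), by simpa using hd.symm⟩
      refine Subgroup.mem_normalizer_iff.2 fun x => ?_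
      conv_rhs => rw [← hmap]
      rw [Subgroup.mem_map_equiv]
      simp [mul_assoc]
    refine ⟨⟨d, hdn⟩, ?_⟩
    refine MulEquiv.ext fun x => ?_
    obtain ⟨j, hj⟩ := Subgroup.mem_zpowers_iff.1 x.2
    have hx : x = bB ^ j := Subtype.ext (by rw [← hj]; rfl)
    rw [hx, map_zpow, map_zpow]
    congr 1
    refine Subtype.ext ?_
    rw [← hi, SubgroupClass.coe_pow]
    exact hd
  haveI : IsCyclic B := by rw [hBdef]; infer_instance
  rw [htop, Subgroup.card_top, Nat.card_congr (IsCyclic.mulAutMulEquiv B).toEquiv, hcard,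
    Nat.card_eq_fintype_card, ZMod.card_units_eq_totient]
  rfl

/-- Conjugation by an element normalising a subgroup preserves its layer. -/
theorem layer_conj_mem {H : Subgroup G} {t : G} (ht : ∀ x, x ∈ H → t * x * t⁻¹ ∈ H) :
    ∀ x ∈ (layer H).map H.subtype, t * x * t⁻¹ ∈ (layer H).map H.subtype := by
  have hmap : H.map (MulAut.conj t).toMonoidHom = H :=
    Subgroup.eq_of_le_of_card_ge (by rintro _ ⟨x, hx, rfl⟩; exact ht x hx) (by
      rw [Subgroup.card_map_of_injective (f := (MulAut.conj t).toMonoidHom) (MulAut.conj t).injective])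
  let ε : H ≃* H := ((MulAut.conj t).subgroupMap H).trans (MulEquiv.subgroupCongr hmap)
  rintro _ ⟨x, hx, rfl⟩
  exact ⟨ε x, (CfsgLib.Components.layer_map_equiv ε).le ⟨x, hx, rfl⟩, rfl⟩

/-- `z` lies in the layer of the centraliser of the Sylow 7-subgroup, with all its conjugates there. -/
theorem mem_layer_seven {M : MonsterFrame z Q e ψ} {b : G} (O : Over M b Seven.bh 7) {B : Subgroup G}
    (hBb : B = Subgroup.zpowers b)
    (hconj : ∀ q : Q, up q ∈ CQ M b → IsConj z (up q) → up q ≠ z →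
      ∃ g ∈ Subgroup.centralizer (B : Set G), g * z * g⁻¹ = up q) :
    z ∈ (layer (Subgroup.centralizer (B : Set G))).map (Subgroup.centralizer (B : Set G)).subtype ∧
      ∀ g ∈ Subgroup.centralizer (B : Set G), g * z * g⁻¹ ∈
        (layer (Subgroup.centralizer (B : Set G))).map (Subgroup.centralizer (B : Set G)).subtype := by
  classical
  haveI : Fact (Nat.Prime 2) := ⟨Nat.prime_two⟩
  set H := Subgroup.centralizer (B : Set G) with hH
  have hBH : B ≤ H := by
    rw [hH, hBb]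
    intro x hx
    refine Subgroup.mem_centralizer_iff.2 fun y hy => ?_
    obtain ⟨i, rfl⟩ := Subgroup.mem_zpowers_iff.1 hx
    obtain ⟨j, rfl⟩ := Subgroup.mem_zpowers_iff.1 hy
    exact (Commute.zpow_zpow (Commute.refl b) j i).eq
  have hcen : B.subgroupOf H ≤ Subgroup.center H := fun x hx => Subgroup.mem_center_iff.2 fun g =>
    Subtype.ext (Subgroup.mem_centralizer_iff.1 g.2 x (Subgroup.mem_subgroupOf.1 hx)).symm
  haveI : (B.subgroupOf H).Normal := ⟨fun n hn g => by
    rwa [Subgroup.mem_center_iff.1 (hcen hn) g, mul_inv_cancel_right]⟩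
  obtain ⟨hzH, R, hR, hset, hcount⟩ := O.local_setting Seven.tab (w := 3) rfl (by norm_num) hBb
    Seven.phi Seven.phi_surjective Seven.phi_ker Seven.phi_faith Seven.sl_no_two hconj
    Seven.count_checks.1
  haveI := hR
  rw [Seven.count_checks.2] at hcount
  have hnc : ∃ u v : Subgroup.centralizer ({((⟨z, hzH⟩ : H) : H ⧸ B.subgroupOf H)} : Set (H ⧸ B.subgroupOf H)),
      u ∈ R ∧ v ∈ R ∧ IsConj ((⟨z, hzH⟩ : H) : H ⧸ B.subgroupOf H) (u : H ⧸ B.subgroupOf H) ∧
      IsConj ((⟨z, hzH⟩ : H) : H ⧸ B.subgroupOf H) (v : H ⧸ B.subgroupOf H) ∧ u * v ≠ v * u := by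
    by_contra hno
    push Not at hno
    set S := {x | x ∈ R ∧ IsConj ((⟨z, hzH⟩ : H) : H ⧸ B.subgroupOf H) (x : H ⧸ B.subgroupOf H)}
    set A : Subgroup R := Subgroup.closure (Subtype.val ⁻¹' S) with hA
    have hab : A ≤ Subgroup.centralizer (A : Set R) := by
      rw [hA, Subgroup.centralizer_closure, Subgroup.closure_le]
      intro u hu
      refine Subgroup.mem_centralizer_iff.2 fun v hv => Subtype.ext ?_
      exact hno v u hv.1 hu.1 hv.2 hu.2
    have h16 := CfsgLib.PGroups.Extraspecial.card_le_of_abelian hset.2.2.1 hab (n := 3) hset.2.2.2.1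
    have h29 : S.ncard ≤ Nat.card A := by
      rw [← Nat.card_coe_set_eq]
      exact Nat.card_le_card_of_injective
        (fun x : S => (⟨⟨x.1, x.2.1⟩, Subgroup.subset_closure x.2⟩ : A))
        fun x y h => Subtype.ext (congrArg (fun a : A => (a : R).1) h)
    omega
  have hodd : Odd (Nat.card (B.subgroupOf H)) := by
    rw [Nat.card_congr (Subgroup.subgroupOfEquivOfLe hBH).toEquiv, hBb, Nat.card_zpowers, O.ord]
    exact O.odd
  have hz2 : orderOf (⟨z, hzH⟩ : H) = 2 := (Subgroup.orderOf_coe _).symm.trans M.setting.1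
  have hmem := mem_layer_of_setting (B.subgroupOf H) hcen hodd hz2 hset hnc
  refine ⟨⟨_, hmem, rfl⟩, fun g hg => ⟨⟨g, hg⟩ * ⟨z, hzH⟩ * ⟨g, hg⟩⁻¹,
    (CfsgLib.Components.layer_normal (G := H)).conj_mem _ hmem ⟨g, hg⟩, rfl⟩⟩

/-- No element centralising `z` and `x` inverts `b`. -/
theorem not_inverting {M : MonsterFrame z Q e ψ} {b : G} (O : Over M b Seven.bh 7) {x : Q}
    (hx : ψ eTop = QuotientGroup.mk x) {d : G} (hdz : d * z = z * d)
    (hdx : d * up x = up x * d) (hd : d * b * d⁻¹ = b⁻¹) : False := by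
  obtain ⟨hb, hbe⟩ := O.image
  let dC : Subgroup.centralizer ({z} : Set G) := ⟨d, Subgroup.mem_centralizer_singleton_iff.2 hdz⟩
  obtain ⟨g, hg⟩ := QuotientGroup.mk_surjective (e (QuotientGroup.mk dC))
  have hcross : g ∈ crossStab := mem_crossStab_of_cl (by
    rw [← psi_eq_iff M, M.iso.2.2.2 dC g hg eTop x hx, hx]
    congr 1
    exact MonsterFrame.up_inj (mul_inv_eq_iff_eq_mul.2 hdx))
  have h1 : dC * ⟨b, hb⟩ * dC⁻¹ = (⟨b, hb⟩ : Subgroup.centralizer ({z} : Set G))⁻¹ :=
    Subtype.ext hd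
  have h2 : (QuotientGroup.mk (g * Seven.bh * g⁻¹ * Seven.bh) : Cfsg.Spor.Co1) = 1 := by
    rw [QuotientGroup.mk_mul, QuotientGroup.mk_mul, QuotientGroup.mk_mul, QuotientGroup.mk_inv, hg,
      hbe, ← map_inv, ← map_mul, ← map_mul, ← map_mul, ← QuotientGroup.mk_inv,
      ← QuotientGroup.mk_mul, ← QuotientGroup.mk_mul, ← QuotientGroup.mk_mul, h1, inv_mul_cancel,
      QuotientGroup.mk_one, map_one]
  have h3 : g * Seven.bh * g⁻¹ * Seven.bh = 1 := by
    set y := g * Seven.bh * g⁻¹ * Seven.bh with hy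
    have hyc : y ∈ Subgroup.center Co0 := (QuotientGroup.eq_one_iff _).1 h2
    have hconj : g * Seven.bh * g⁻¹ = y * Seven.bh⁻¹ := by rw [hy]; group
    have hy7 : y ^ 7 = 1 := by
      have e2 := congrArg (· ^ 7) hconj
      simp only [conj_pow, Seven.bh_pow, mul_one, mul_inv_cancel] at e2
      rw [Commute.mul_pow (Subgroup.mem_center_iff.1 hyc Seven.bh⁻¹).symm, inv_pow, Seven.bh_pow,
        inv_one, mul_one] at e2
      exact e2.symm
    rcases eq_of_central hyc with e1 | e1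
    · exact e1
    · have hn : negEl ^ 2 = 1 := co0_ext fun i => by
        rw [pow_two, mul_smul, negEl_smul, negEl_smul, neg_neg, one_smul]
      rw [e1, pow_succ, show (6 : ℕ) = 2 * 3 by rfl, pow_mul, hn, one_pow, one_mul] at hy7
      rw [e1, hy7]
  have h4 : g * Seven.bh = Seven.bh ^ 6 * g := by
    have e6 : Seven.bh⁻¹ = Seven.bh ^ 6 :=
      inv_eq_of_mul_eq_one_right (by rw [← pow_succ', Seven.bh_pow])
    rw [← e6, ← mul_inv_eq_iff_eq_mul]
    exact mul_eq_one_iff_eq_inv.1 h3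
  obtain ⟨⟨σ, c⟩, he⟩ := exists_monoEl_of_mem hcross
  rw [← he, Seven.bh, ← permEl_pow, permEl, permEl, monoEl_mul, monoEl_mul] at h4
  have h5 : σ * Seven.A = Seven.A ^ 6 * σ := congrArg Prod.fst (monoEl_injective h4)
  have h6 := CfsgLib.Spor.mem_sevenTo (k := 6) σ.2 Seven.rep_A' (congrArg Subtype.val h5)
  rw [CfsgLib.Spor.seven_checks.2.2.2.2.2.2.2.2.2.2.1] at h6
  simp at h6

/-- S5418, given an involution inverting `b`. -/
theorem seven_automiser {M : MonsterFrame z Q e ψ} {b : G} (O : Over M b Seven.bh 7) {x : Q}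
    (hx : ψ eTop = QuotientGroup.mk x) {B : Subgroup G} (hBb : B = Subgroup.zpowers b)
    (hbx : b * up x = up x * b) (hxz : IsConj z (up x))
    (hconj : ∀ q : Q, up q ∈ CQ M b → IsConj z (up q) → up q ≠ z →
      ∃ g ∈ Subgroup.centralizer (B : Set G), g * z * g⁻¹ = up q)
    {t : G} (ht : t * b * t⁻¹ = b⁻¹) :
    (∀ x ∈ B, t * x * t⁻¹ = x⁻¹) ∧
      (∀ x ∈ (layer (Subgroup.centralizer (B : Set G))).map (Subgroup.centralizer (B : Set G)).subtype,
        t * x * t⁻¹ ∈
          (layer (Subgroup.centralizer (B : Set G))).map (Subgroup.centralizer (B : Set G)).subtype) ∧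
      ¬ ∃ l ∈ (layer (Subgroup.centralizer (B : Set G))).map (Subgroup.centralizer (B : Set G)).subtype,
        ∀ x ∈ (layer (Subgroup.centralizer (B : Set G))).map (Subgroup.centralizer (B : Set G)).subtype,
          t * x * t⁻¹ = l * x * l⁻¹ := by
  obtain ⟨hzL, hcL⟩ := mem_layer_seven O hBb hconj
  have hinv : ∀ y ∈ B, t * y * t⁻¹ = y⁻¹ := by
    intro y hy
    rw [hBb] at hy
    obtain ⟨i, rfl⟩ := Subgroup.mem_zpowers_iff.1 hy
    rw [← conj_zpow, ht, inv_zpow]
  refine ⟨hinv, layer_conj_mem fun y hy => ?_, ?_⟩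
  · refine Subgroup.mem_centralizer_iff.2 fun u hu => ?_
    have h1 := Subgroup.mem_centralizer_iff.1 hy u⁻¹ (inv_mem hu)
    have h2 : t * u⁻¹ * t⁻¹ = u := by rw [hinv u⁻¹ (inv_mem hu), inv_inv]
    have e1 : u * t = t * u⁻¹ := (mul_inv_eq_iff_eq_mul.1 h2).symm
    have e2 : t⁻¹ * u = u⁻¹ * t⁻¹ := by
      calc t⁻¹ * u = t⁻¹ * (t * u⁻¹ * t⁻¹) := by rw [h2]
        _ = _ := by group
    calc u * (t * y * t⁻¹) = (u * t) * y * t⁻¹ := by group
      _ = t * (u⁻¹ * y) * t⁻¹ := by rw [e1]; group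
      _ = t * (y * u⁻¹) * t⁻¹ := by rw [h1]
      _ = t * y * (t⁻¹ * u) := by rw [e2]; group
      _ = _ := by group
  rintro ⟨l, hl, hle⟩
  have hne : up x ≠ z := fun h =>
    M.noncentral (Or.inr (Or.inr rfl)) (CfsgLib.Spor.sqNorm_bigE none) hx (M.mem_center_of (Or.inr h))
  obtain ⟨g, hg, hgx⟩ := hconj x ⟨M.mem_QG x, Subgroup.mem_centralizer_singleton_iff.2 hbx.symm⟩ hxz hne
  have hxL := hgx ▸ hcL g hg
  have hlb : l * b = b * l := by
    obtain ⟨l', -, rfl⟩ := hl
    exact (Subgroup.mem_centralizer_iff.1 l'.2 b (hBb ▸ Subgroup.mem_zpowers b)).symm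
  have key : ∀ y, t * y * t⁻¹ = l * y * l⁻¹ → l⁻¹ * t * y = y * (l⁻¹ * t) := fun y hy => by
    calc l⁻¹ * t * y = l⁻¹ * (t * y * t⁻¹) * t := by group
      _ = _ := by rw [hy]; group
  refine not_inverting O hx (key z (hle z hzL)) (key _ (hle _ hxL)) ?_
  calc l⁻¹ * t * b * (l⁻¹ * t)⁻¹ = l⁻¹ * (t * b * t⁻¹) * l := by group
    _ = l⁻¹ * b⁻¹ * l := by rw [ht]
    _ = b⁻¹ := by
      have hc : Commute l⁻¹ b⁻¹ := Commute.inv_inv hlb
      rw [hc.eq, inv_mul_cancel_right]

end CfsgLib.Spor.Loc
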