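import Cfsg.Agent.Lib.Spor.Loc.Move

/-!
In a group of Monster type every non-trivial sign change of the standard frame lifts to an
involution of the centraliser of `z`.
-/

set_option autoImplicit false
set_option linter.unusedSectionVars false

namespace CfsgLib.Spor.Loc

open Cfsg CfsgLib.ThreeTransp
open CfsgLib.ThreeTransp.MonsterFrame (qImage up)
open CfsgLib.ThreeTransp.CoReduce (bigE)
open scoped Pointwise symmDiff

variable {G : Type*} [Group G] [Finite G] {z : G}
  {Q : Subgroup (Subgroup.centralizer ({z} : Set G))} [Q.Normal]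
  {e : (Subgroup.centralizer ({z} : Set G)) ⧸ Q ≃* Cfsg.Spor.Co1}
  {ψ : leechLattice → Q ⧸ Subgroup.center Q}

/-- A subgroup of the frame stabiliser normalised by it, of exponent dividing 4 and of order at
least `2^12`, contains every sign change. -/
theorem epsEl_mem_of_normal (F : Subgroup Co0) (hF : F ≤ crossStab)
    (hn : ∀ a ∈ crossStab, ∀ f ∈ F, a * f * a⁻¹ ∈ F) (h4 : ∀ f ∈ F, f ^ 4 = 1)
    (hcard : 4096 ≤ Nat.card F) (c : ↥(supports (golayCode : Set (GolayPt → ZMod 2)))) :
    epsEl c ∈ F := by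
  classical
  have hpart : permPart F = ⊥ := by
    have hS : (permPart F).Normal := ⟨fun σ ⟨c, hc⟩ τ => ⟨⟨(τ : Equiv.Perm GolayPt) • c.1,
      smul_supports τ.2 c.2⟩, by
        convert hn _ (monoEl_mem_crossStab (τ, ⟨∅, empty_supports⟩)) _ hc using 1
        show _ = permEl τ * _ * (permEl τ)⁻¹
        rw [← permEl_inv, permEl, permEl, monoEl_mul, monoEl_mul]
        congr 1
        exact Prod.ext rfl (Subtype.ext (by simp [Finset.smul_finset_empty]))⟩⟩
    have := isSimpleGroup_M24
    refine (IsSimpleGroup.eq_bot_or_eq_top_of_normal _ hS).resolve_right fun htop => ?_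
    obtain ⟨c, hc⟩ : (⟨gT, gT_mem⟩ : ↥M24) ∈ permPart F := htop ▸ Subgroup.mem_top _
    have h4' := h4 _ hc
    rw [show (4 : ℕ) = 2 * 2 by rfl, pow_mul, pow_two, pow_two, monoEl_mul, monoEl_mul] at h4'
    have h5 := congrArg Prod.fst (monoEl_injective (h4'.trans monoEl_one.symm))
    have h6 : orderOf (⟨gT, gT_mem⟩ : ↥M24) ∣ 4 := orderOf_dvd_of_pow_eq_one (by
      rw [show (4 : ℕ) = 2 * 2 by rfl, pow_mul, pow_two, pow_two]; exact h5)
    rw [orderOf_gT] at h6
    norm_num at h6
  have hFeps : ∀ f : F, ∃ c, epsEl c = (f : Co0) := fun f => by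
    obtain ⟨p, hp⟩ := exists_monoEl_of_mem (hF f.2)
    have : p.1 ∈ permPart F := ⟨p.2, by show monoEl (p.1, p.2) ∈ F; rw [Prod.mk.eta, hp]; exact f.2⟩
    rw [hpart, Subgroup.mem_bot] at this
    exact ⟨p.2, by rw [← hp, epsEl]; congr 1; exact Prod.ext this.symm rfl⟩
  choose cF hcF using hFeps
  have hinj : Function.Injective cF := fun a b hab => Subtype.ext (by rw [← hcF a, ← hcF b, hab])
  have hbij : Function.Bijective cF :=
    (Nat.bijective_iff_injective_and_card cF).2 ⟨hinj,
      le_antisymm (Nat.card_le_card_of_injective cF hinj) (by rw [natCard_supports]; exact hcard)⟩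
  obtain ⟨a, rfl⟩ := hbij.2 c
  rw [hcF a]
  exact a.2

/-- Non-trivial sign changes lift to involutions. -/
theorem exists_sign_invol (M : MonsterFrame z Q e ψ) {x : Q} (hx : ψ eTop = QuotientGroup.mk x)
    (hxc : IsConj z (up x)) (c : ↥(supports (golayCode : Set (GolayPt → ZMod 2))))
    (hc : (QuotientGroup.mk (epsEl c) : Cfsg.Spor.Co1) ≠ 1) :
    ∃ a : Subgroup.centralizer ({z} : Set G), orderOf (a : G) = 2 ∧
      e (QuotientGroup.mk a) = QuotientGroup.mk (epsEl c) := by
  classical
  have hxz := M.noncentral (Or.inr (Or.inr rfl)) (sqNorm_bigE none) hx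
  have hne : up x ≠ z := fun he => hxz (M.mem_center_of (Or.inr he))
  obtain ⟨g, hg⟩ := isConj_iff.1 hxc
  obtain ⟨hI, hEX, hnorm, hEel, hE11, -⟩ := M.frame_structure hx hg _ _ rfl rfl
  set P := (qImage Q).map (MulAut.conj g).toMonoidHom with hP
  set X := ((Subgroup.centralizer ({z} : Set G) ⊓
      Subgroup.centralizer ({up x} : Set G)).subgroupOf
        (Subgroup.centralizer ({z} : Set G))).map (QuotientGroup.mk' Q) with hX
  set E := ((P ⊓ Subgroup.centralizer ({z} : Set G)).subgroupOf
        (Subgroup.centralizer ({z} : Set G))).map (QuotientGroup.mk' Q) with hE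
  have h := M.xcent
  have h' : XCent P (up x) := hg ▸ h.conj g
  -- the preimage in the automorphism group of the lattice
  let π : Co0 →* Cfsg.Spor.Co1 := QuotientGroup.mk' (Subgroup.center Co0)
  let F : Subgroup Co0 := (E.map e.toMonoidHom).comap π
  have hFcross : F ≤ crossStab := by
    rintro f ⟨k, hk, hkf⟩
    obtain ⟨a, ha, rfl⟩ := hEX hk
    refine mem_crossStab_of_cl ?_
    rw [← psi_eq_iff M, M.iso.2.2.2 a f hkf.symm eTop x hx, hx]
    congr 1
    exact MonsterFrame.up_inj (mul_inv_eq_iff_eq_mul.2 (Subgroup.mem_centralizer_singleton_iff.1 ha.2))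
  have hXfrom : ∀ g' ∈ crossStab, ∃ k ∈ X, (QuotientGroup.mk g' : Cfsg.Spor.Co1) = e k := by
    intro g' hg'
    have hfix : ψ (g' • eTop) = QuotientGroup.mk x := by
      rw [← hx, psi_eq_iff M]
      exact cl_eTop_of_mem hg'
    obtain ⟨a, ha, hax⟩ := M.exists_lift hxz hx hfix
    exact ⟨QuotientGroup.mk a,
      ⟨a, ⟨a.2, Subgroup.mem_centralizer_singleton_iff.2 (mul_inv_eq_iff_eq_mul.1 hax)⟩, rfl⟩, ha⟩
  have hFnorm : ∀ a ∈ crossStab, ∀ f ∈ F, a * f * a⁻¹ ∈ F := by
    rintro a ha f ⟨k, hk, hkf⟩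
    obtain ⟨l, hl, hle⟩ := hXfrom a ha
    refine ⟨l * k * l⁻¹, hnorm l hl k hk, ?_⟩
    show e (l * k * l⁻¹) = π (a * f * a⁻¹)
    rw [map_mul, map_mul, map_inv, map_mul, map_mul, map_inv, ← hle, ← hkf]
    rfl
  have hF4 : ∀ f ∈ F, f ^ 4 = 1 := by
    rintro f ⟨k, hk, hkf⟩
    have h2 : π (f ^ 2) = 1 := by
      rw [map_pow, ← hkf]
      show (e k) ^ 2 = 1
      rw [← map_pow, hEel.2 k hk, map_one]
    rw [show (4 : ℕ) = 2 * 2 by rfl, pow_mul]
    rcases eq_of_central ((QuotientGroup.eq_one_iff _).1 h2) with h1 | h1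
    · rw [h1, one_pow]
    · rw [h1, pow_two]
      exact co0_ext fun i => by rw [mul_smul, negEl_smul, negEl_smul, neg_neg, one_smul]
  have hFcard : Nat.card F = 2 * Nat.card E := by
    have h1 := Subgroup.card_mul_index F
    have h2 := Subgroup.card_mul_index (E.map e.toMonoidHom)
    have h3 : F.index = (E.map e.toMonoidHom).index :=
      Subgroup.index_comap_of_surjective _ (QuotientGroup.mk'_surjective _)
    rw [natCard_Co0, h3] at h1
    rw [Subgroup.card_map_of_injective e.injective, natCard_co1] at h2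
    refine Nat.eq_of_mul_eq_mul_right (Nat.pos_of_ne_zero
      (Subgroup.FiniteIndex.index_ne_zero (H := E.map e.toMonoidHom))) ?_
    rw [h1, mul_assoc, h2]; norm_num
  obtain ⟨k, ⟨a, ⟨haP, -⟩, hak⟩, hkc⟩ := epsEl_mem_of_normal F hFcross hFnorm hF4
    (by rw [hFcard, hE11]; norm_num) c
  have ha : e (QuotientGroup.mk a) = QuotientGroup.mk (epsEl c) := by
    rw [← hak] at hkc; exact hkc
  have haQ : a ∉ Q := fun hq => hc (by rw [← ha, (QuotientGroup.eq_one_iff a).2 hq, map_one])
  have hane : (a : G) ≠ 1 := fun h1 => haQ (by rw [show a = 1 from Subtype.ext h1]; exact one_mem Q)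
  rcases h'.sq _ haP with h2 | h2
  · exact ⟨a, orderOf_eq_prime (by rw [pow_two]; exact h2) hane, ha⟩
  -- an element of the intersection not commuting with `a`
  obtain ⟨y, hyQ, hyP, hya⟩ : ∃ y, y ∈ qImage Q ∧ y ∈ P ∧ (y * (a : G) ≠ (a : G) * y) := by
    by_contra hno
    push Not at hno
    haveI : Fact (Nat.Prime 2) := ⟨Nat.prime_two⟩
    have hPes : IsExtraspecial 2 ↥P :=
      MonsterFrame.extraspecial_equiv ((MulAut.conj g).subgroupMap (qImage Q))
        (extraspecial_map M.setting.2.2.1)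
    have hPcard : Nat.card P = 2 ^ 25 := by
      rw [hP, Subgroup.card_map_of_injective (f := (MulAut.conj g).toMonoidHom) (MulAut.conj g).injective,
        Subgroup.card_map_of_injective (Subgroup.subtype_injective _), M.setting.2.2.2.1]
    let I : Subgroup P := (qImage Q ⊓ P).subgroupOf P
    have hIcard : Nat.card I = 2 ^ 13 :=
      (Nat.card_congr (Subgroup.subgroupOfEquivOfLe inf_le_right).toEquiv).trans hI
    have hcen : Subgroup.center P ≤ I := by
      intro d hd
      refine Subgroup.mem_subgroupOf.2 ⟨?_, d.2⟩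
      rcases h'.center (d : G) d.2 (fun q hq =>
        congrArg Subtype.val (Subgroup.mem_center_iff.1 hd ⟨q, hq⟩)) with e1 | e1 <;> rw [e1]
      · exact one_mem _
      · exact M.mem_QG x
    have hab : I ≤ Subgroup.centralizer (I : Set P) := fun u hu => Subgroup.mem_centralizer_iff.2
      fun v hv => Subtype.ext <| by
        rcases h.commEl (v : G) (Subgroup.mem_subgroupOf.1 hv).1 u (Subgroup.mem_subgroupOf.1 hu).1
          with h1 | h1
        · exact mul_inv_eq_iff_eq_mul.1 h1
        rcases h'.commEl (v : G) v.2 u u.2 with h2 | h2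
        · exact mul_inv_eq_iff_eq_mul.1 h2
        exact absurd (mul_right_cancel (h2.symm.trans h1)) hne
    have hmul := CfsgLib.PGroups.Extraspecial.card_mul_card_centralizer hPes hcen
    rw [hIcard, hPcard] at hmul
    have heq : I = Subgroup.centralizer (I : Set P) := Subgroup.eq_of_le_of_card_ge hab (by
      rw [hIcard]; omega)
    have haI : (⟨a, haP⟩ : P) ∈ I := by
      rw [heq]
      exact Subgroup.mem_centralizer_iff.2 fun v hv => Subtype.ext
        (hno v (Subgroup.mem_subgroupOf.1 hv).1 v.2)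
    obtain ⟨w, hw, hwe⟩ := (Subgroup.mem_subgroupOf.1 haI).1
    exact haQ (by rwa [show a = w from Subtype.ext hwe.symm])
  have hy2 : y * y = 1 := by
    rcases h.sq y hyQ with h3 | h3
    · exact h3
    rcases h'.sq y hyP with h4 | h4
    · exact h4
    exact absurd (h4.symm.trans h3) hne
  have hyc : y * (a : G) = up x * (a : G) * y :=
    mul_inv_eq_iff_eq_mul.1 ((h'.commEl y hyP a haP).resolve_left fun h1 => hya (mul_inv_eq_iff_eq_mul.1 h1))
  obtain ⟨w, hw, rfl⟩ := hyQ
  simp only [Subgroup.coe_subtype] at hya hy2 hyc hyP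
  refine ⟨a * w, orderOf_eq_prime ?_ ?_, ?_⟩
  · rw [pow_two, Subgroup.coe_mul]
    calc (a : G) * w * ((a : G) * w) = (a : G) * ((w : G) * a) * w := by group
      _ = (a : G) * (up x * (a : G) * w) * w := by rw [hyc]
      _ = ((a : G) * up x) * (a : G) * ((w : G) * w) := by group
      _ = (a : G) * up x * (a : G) := by rw [hy2, mul_one]
      _ = up x * ((a : G) * a) := by rw [show (a : G) * up x = up x * a from h'.comm _ haP, mul_assoc]
      _ = 1 := by rw [show (a : G) * a = up x from h2]; exact h'.inv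
  · intro h1
    refine haQ ?_
    rw [show a = w⁻¹ from eq_inv_of_mul_eq_one_left (Subtype.ext h1)]
    exact inv_mem hw
  · rw [QuotientGroup.mk_mul, map_mul, (QuotientGroup.eq_one_iff w).2 hw, map_one, mul_one, ha]

end CfsgLib.Spor.Loc
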