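import Cfsg.Agent.Lib.Spor.Loc.SevenAut
import Cfsg.Agent.Lib.Spor.Loc.SignLift
import Cfsg.Agent.Lib.Spor.Loc.Invert

/-!
An involution of the centraliser of `z` inverting a Sylow 7-subgroup of the joint centraliser, from
a sign change conjugate to an automorphism of the lattice inverting the element of order 7.
-/

set_option autoImplicit false
set_option maxRecDepth 100000
set_option linter.unusedSectionVars false

namespace CfsgLib.Spor.Loc

open Cfsg CfsgLib.ThreeTransp
open CfsgLib.Spor CfsgLib.Spor.Co1Out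
open CfsgLib.ThreeTransp.MonsterFrame (qImage up)

/-- a word of the code -/
def Seven.invWord : ℕ := 6228582

/-- a program conjugating the sign change to an inverting involution -/
def Seven.invProg : List Stp := [
  Stp.xi,
  Stp.mono 435345686832536801535730524473282592 0,
  Stp.xi,
  Stp.mono 734037293496713532787914414571918944 0,
  Stp.xi,
  Stp.mono 860066829929633555795568272255125536 0,
  Stp.xi,
  Stp.mono 226000840888600776297657903335118912 0]

/-- its inverse -/
def Seven.invProgI : List Stp := [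
  Stp.mono 640289693484837454105367806784210016 0,
  Stp.xi,
  Stp.mono 651906342241249583071411133945055264 0,
  Stp.xi,
  Stp.mono 670705120579818603724093828873264384 0,
  Stp.xi,
  Stp.mono 178123217704473270984882995891683360 0,
  Stp.xi]

/-- the program of the inverting involution -/
def Seven.invT : List Stp :=
  Seven.invProgI ++ ([Stp.mono CfsgLib.MathieuOut.idP Seven.invWord] ++ Seven.invProg)

theorem Seven.inv_checks : inCode Seven.invWord = true ∧ Seven.invWord < 2 ^ 24 ∧
    Seven.invProg.all Stp.ok = true ∧ Seven.invProgI.all Stp.ok = true ∧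
    sameOK (Seven.invProgI ++ Seven.invProg) [] = true ∧
    sameOK [Stp.mono CfsgLib.MathieuOut.idP Seven.invWord] [] = false ∧
    sameOK [Stp.mono CfsgLib.MathieuOut.idP Seven.invWord] progNeg = false ∧
    sameOK (Seven.invT ++ (Seven.progB ++ Seven.invT))
      (List.replicate 6 Seven.progB).flatten = true := by decide +kernel

variable {G : Type*} [Group G] [Finite G] {z : G}
  {Q : Subgroup (Subgroup.centralizer ({z} : Set G))} [Q.Normal]
  {e : (Subgroup.centralizer ({z} : Set G)) ⧸ Q ≃* Cfsg.Spor.Co1}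
  {ψ : leechLattice → Q ⧸ Subgroup.center Q}

theorem exists_inverting_seven {M : MonsterFrame z Q e ψ} {b : G} (O : Over M b Seven.bh 7) {x : Q}
    (hx : ψ eTop = QuotientGroup.mk x) (hxz : IsConj z (up x)) :
    ∃ t : G, orderOf t = 2 ∧ t * z = z * t ∧ t * b * t⁻¹ = b⁻¹ := by
  obtain ⟨h1, h2, h3, h4, h5, h6, h7, h8⟩ := Seven.inv_checks
  let c : ↥(supports (golayCode : Set (GolayPt → ZMod 2))) :=
    ⟨toSet Seven.invWord, toSet_supports_of_inCode h1 h2⟩
  have hc := actsAs_epsEl h1 h2
  have hne : (QuotientGroup.mk (epsEl c) : Cfsg.Spor.Co1) ≠ 1 := by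
    intro h
    rcases eq_of_central ((QuotientGroup.eq_one_iff _).1 h) with h' | h'
    · exact absurd (Seven.sameOK_of_eq hc actsAs_one h') (by simp [h6])
    · exact absurd (Seven.sameOK_of_eq hc actsAs_negEl h') (by simp [h7])
  obtain ⟨a, ha2, hae⟩ := exists_sign_invol M hx hxz c hne
  obtain ⟨g, -, hg⟩ := exists_prog h3
  obtain ⟨gi, -, hgi⟩ := exists_prog h4
  have hgg : g * gi = 1 := eq_of_sameOK (actsAs_mul hg hgi) actsAs_one h5
  obtain ⟨hC, hhC⟩ := QuotientGroup.mk_surjective (e.symm (QuotientGroup.mk g))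
  have hhC' : e (QuotientGroup.mk hC) = QuotientGroup.mk g := by rw [hhC, e.apply_symm_apply]
  have hT : ActsAs (g * epsEl c * gi) (runP Seven.invT) := actsAs_mul (actsAs_mul hg hc) hgi
  refine O.exists_invol (t := hC * a * hC⁻¹) ?_ (th := g * epsEl c * gi) ?_
    (eq_of_sameOK (actsAs_mul (actsAs_mul hT Seven.actsAs_bh) hT)
      (actsAs_pow Seven.actsAs_bh 6) h8)
  · rw [Subgroup.orderOf_coe] at ha2 ⊢
    exact ((MulAut.conj hC).orderOf_eq a).trans ha2
  · rw [QuotientGroup.mk_mul, QuotientGroup.mk_mul, QuotientGroup.mk_inv, map_mul, map_mul, map_inv,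
      hhC', hae, eq_inv_of_mul_eq_one_right hgg]
    rfl

/-- S5418 -/
theorem seven_aut_main (hM : IsOfMonsterType z Q) {s : G}
    (hsQ : ∃ hsc : s ∈ Subgroup.centralizer ({z} : Set G),
      (⟨s, hsc⟩ : Subgroup.centralizer ({z} : Set G)) ∈ Q)
    (hs : IsConj z s) (hs1 : s ≠ z) {B : Subgroup G}
    (hB : B ≤ Subgroup.centralizer ({z, s} : Set G))
    (hBp : Nat.card B = 7 ^ (Nat.card ↥(Subgroup.centralizer ({z, s} : Set G))).factorization 7) :
    (Subgroup.centralizer (B : Set G)).relIndex (Subgroup.normalizer (B : Set G)) = 6 ∧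
      ∃ t : G, orderOf t = 2 ∧ (∀ b ∈ B, t * b * t⁻¹ = b⁻¹) ∧
        (∀ x ∈ (layer ↥(Subgroup.centralizer (B : Set G))).map (Subgroup.centralizer (B : Set G)).subtype,
          t * x * t⁻¹ ∈ (layer ↥(Subgroup.centralizer (B : Set G))).map
            (Subgroup.centralizer (B : Set G)).subtype) ∧
        ¬ ∃ l ∈ (layer ↥(Subgroup.centralizer (B : Set G))).map
            (Subgroup.centralizer (B : Set G)).subtype,
          ∀ x ∈ (layer ↥(Subgroup.centralizer (B : Set G))).map
            (Subgroup.centralizer (B : Set G)).subtype, t * x * t⁻¹ = l * x * l⁻¹ := by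
  obtain ⟨e', ψ', M', b, x, hxs, hx, hBb, O, ⟨c, hc, hcb⟩, hconj⟩ :=
    seven_position hM hsQ hs hs1 hB hBp
  have hxz : IsConj z (up x) := hxs.symm ▸ hs
  have hbx : b * up x = up x * b := by
    rw [hxs]
    exact ((Subgroup.mem_centralizer_iff.1 (hB (hBb ▸ Subgroup.mem_zpowers b))) s (by simp)).symm
  obtain ⟨t, ht2, -, htb⟩ := exists_inverting_seven O hx hxz
  obtain ⟨h1, h2, h3⟩ := seven_automiser O hx hBb hbx hxz hconj htb
  refine ⟨?_, t, ht2, h1, h2, h3⟩
  rw [hBb]
  exact relIndex_seven O.ord (Subgroup.mem_centralizer_singleton_iff.1 hc) hcb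

end CfsgLib.Spor.Loc
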