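import Cfsg.Agent.Lib.Spor.Loc.Seven

/-!
In a group of Monster type the centraliser of a Sylow 7-subgroup of the joint centraliser of two
conjugate involutions, modulo that subgroup, is of Held type.
-/

set_option autoImplicit false
set_option linter.unusedSectionVars false

namespace CfsgLib.Spor.Loc

open Cfsg CfsgLib.ThreeTransp
open CfsgLib.ThreeTransp.MonsterFrame (qImage up)

variable {G : Type*} [Group G] [Finite G] {z : G}
  {Q : Subgroup (Subgroup.centralizer ({z} : Set G))} [Q.Normal]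
  {e : (Subgroup.centralizer ({z} : Set G)) ⧸ Q ≃* Cfsg.Spor.Co1}
  {ψ : leechLattice → Q ⧸ Subgroup.center Q}

/-- Joint centralisers of `z` with any of its conjugates in `Q` have the same order. -/
theorem card_joint (M : MonsterFrame z Q e ψ) {x y : Q} (hx : IsConj z (up x)) (hx1 : up x ≠ z)
    (hy : IsConj z (up y)) (hy1 : up y ≠ z) :
    Nat.card ↥(Subgroup.centralizer ({z, up x} : Set G)) =
      Nat.card ↥(Subgroup.centralizer ({z, up y} : Set G)) := by
  obtain ⟨h, hh, he⟩ := M.transitive_conjugates x y hx hy hx1 hy1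
  have hzz : h * z * h⁻¹ = z := mul_inv_eq_iff_eq_mul.2 (Subgroup.mem_centralizer_singleton_iff.1 hh)
  have hmap : (Subgroup.centralizer ({z, up x} : Set G)).map (MulAut.conj h).toMonoidHom =
      Subgroup.centralizer ({z, up y} : Set G) := by
    ext a
    rw [Subgroup.mem_map_equiv, Subgroup.mem_centralizer_iff, Subgroup.mem_centralizer_iff]
    simp only [Set.mem_insert_iff, Set.mem_singleton_iff, forall_eq_or_imp, forall_eq,
      MulAut.conj_symm_apply]
    have key : ∀ u : G, u * (h⁻¹ * a * h) = h⁻¹ * a * h * u ↔ h * u * h⁻¹ * a = a * (h * u * h⁻¹) :=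
      fun u => ⟨fun e => by
        have := congrArg (fun t => h * t * h⁻¹) e
        simpa [mul_assoc] using this, fun e => by
        have := congrArg (fun t => h⁻¹ * t * h) e
        simpa [mul_assoc] using this⟩
    rw [key, key, hzz, he]
  rw [← hmap, Subgroup.card_map_of_injective (f := (MulAut.conj h).toMonoidHom) (MulAut.conj h).injective]

/-- The automiser of a generator is full as soon as a fifth power is induced. -/
theorem aut_seven {b c : G} (hb : orderOf b = 7) (hcz : c * z = z * c)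
    (hc : c * b * c⁻¹ = b ^ 5) {k : ℕ} (hk : ¬ 7 ∣ k) :
    ∃ d : G, d * z = z * d ∧ d * b * d⁻¹ = b ^ k := by
  have hpow : ∀ j : ℕ, c ^ j * b * (c ^ j)⁻¹ = b ^ (5 ^ j) := by
    intro j
    induction j with
    | zero => simp
    | succ j ih =>
      calc c ^ (j + 1) * b * (c ^ (j + 1))⁻¹ = c ^ j * (c * b * c⁻¹) * (c ^ j)⁻¹ := by
            rw [pow_succ]; group
        _ = (c ^ j * b * (c ^ j)⁻¹) ^ 5 := by rw [hc, conj_pow]
        _ = _ := by rw [ih, ← pow_mul, ← pow_succ]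
  obtain ⟨j, hj⟩ : ∃ j, 5 ^ j % 7 = k % 7 := by
    have h7 : k % 7 < 7 := Nat.mod_lt _ (by norm_num)
    have h0 : k % 7 ≠ 0 := fun h => hk (Nat.dvd_of_mod_eq_zero h)
    obtain h | h | h | h | h | h : k % 7 = 1 ∨ k % 7 = 2 ∨ k % 7 = 3 ∨ k % 7 = 4 ∨ k % 7 = 5 ∨ k % 7 = 6 := by
      omega
    exacts [⟨0, by rw [h]; rfl⟩, ⟨4, by rw [h]; rfl⟩, ⟨5, by rw [h]; rfl⟩, ⟨2, by rw [h]; rfl⟩,
      ⟨1, by rw [h]; rfl⟩, ⟨3, by rw [h]; rfl⟩]
  refine ⟨c ^ j, (Commute.pow_left hcz j).eq, ?_⟩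
  rw [hpow, ← pow_mod_orderOf b (5 ^ j), hb, hj, ← hb, pow_mod_orderOf]

/-- The standard position for a Sylow 7-subgroup. -/
theorem seven_position (hM : IsOfMonsterType z Q) {s : G}
    (hsQ : ∃ hsc : s ∈ Subgroup.centralizer ({z} : Set G),
      (⟨s, hsc⟩ : Subgroup.centralizer ({z} : Set G)) ∈ Q)
    (hs : IsConj z s) (hs1 : s ≠ z) {B : Subgroup G}
    (hB : B ≤ Subgroup.centralizer ({z, s} : Set G))
    (hBp : Nat.card B = 7 ^ (Nat.card ↥(Subgroup.centralizer ({z, s} : Set G))).factorization 7) :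
    ∃ (e' : (Subgroup.centralizer ({z} : Set G)) ⧸ Q ≃* Cfsg.Spor.Co1)
      (ψ' : leechLattice → Q ⧸ Subgroup.center Q) (M' : MonsterFrame z Q e' ψ') (b : G) (x : Q),
      up x = s ∧ ψ' eTop = QuotientGroup.mk x ∧ B = Subgroup.zpowers b ∧
      Over M' b Seven.bh 7 ∧
      (∃ c ∈ Subgroup.centralizer ({z} : Set G), c * b * c⁻¹ = b ^ 5) ∧
      ∀ q : Q, up q ∈ CQ M' b → IsConj z (up q) → up q ≠ z →
        ∃ g ∈ Subgroup.centralizer (B : Set G), g * z * g⁻¹ = up q := by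
  classical
  obtain ⟨hset, e, ψ, hψ⟩ := hM
  obtain ⟨hsc, hsQ'⟩ := hsQ
  let x : Q := ⟨⟨s, hsc⟩, hsQ'⟩
  have M : MonsterFrame z Q e ψ := ⟨hset, hψ⟩
  haveI : Fact (Nat.Prime 7) := ⟨by norm_num⟩
  obtain ⟨e', ψ', M', b, hx, hB7, hBb, O⟩ := exists_over M (s := x) hs hs1 hB (by norm_num : Nat.Prime 7)
    (by decide) (by norm_num) (by norm_num) hBp Seven.bh_mem Seven.bh_pow Seven.bh_mk_ne
  obtain ⟨c, hc, hcb⟩ := O.exists_normalizer Seven.kEl_conj
  refine ⟨e', ψ', M', b, x, rfl, hx, hBb, O, ⟨c, hc, hcb⟩, fun q hq hqc hqz => ?_⟩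
  have hbz : b * z = z * b := Subgroup.mem_centralizer_singleton_iff.1 O.mem
  have hbq : b * up q = up q * b := (Subgroup.mem_centralizer_singleton_iff.1 hq.2).symm
  have hL : Nat.card ↥(Subgroup.centralizer ({z, up q} : Set G)) =
      Nat.card ↥(Subgroup.centralizer ({z, s} : Set G)) :=
    card_joint M' (x := q) (y := x) hqc hqz hs hs1
  have hfac : (Nat.card ↥(Subgroup.centralizer ({z, up q} : Set G))).factorization 7 = 1 := by
    rw [hL]
    rw [hB7] at hBp
    exact (Nat.pow_right_injective (by norm_num : 2 ≤ 7) (hBp.symm.trans (pow_one 7).symm))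
  set L := Subgroup.centralizer ({z, up q} : Set G)
  have hmemL : ∀ a : G, a ∈ L ↔ a * z = z * a ∧ a * up q = up q * a := fun a => by
    rw [Subgroup.mem_centralizer_iff]
    exact ⟨fun h => ⟨(h z (Set.mem_insert z _)).symm, (h (up q) (Set.mem_insert_of_mem z rfl)).symm⟩,
      fun h u hu => by
        rcases hu with rfl | hu
        · exact h.1.symm
        · rw [Set.mem_singleton_iff] at hu; subst hu; exact h.2.symm⟩
  rw [hBb]
  refine exists_conj_centralizer (by norm_num : Nat.Prime 7) O.ord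
    (exists_swap M' hqc hqz) hbz hbq (fun g hg1 hg2 => ?_)
    (fun k hk => aut_seven O.ord (Subgroup.mem_centralizer_singleton_iff.1 hc) hcb hk)
  have hbL : b ∈ L := (hmemL b).2 ⟨hbz, hbq⟩
  have hgL : g * b * g⁻¹ ∈ L := by
    refine (hmemL _).2 ⟨?_, ?_⟩
    · rw [← hg2]
      calc g * b * g⁻¹ * (g * up q * g⁻¹) = g * (b * up q) * g⁻¹ := by group
        _ = g * (up q * b) * g⁻¹ := by rw [hbq]
        _ = _ := by group
    · rw [← hg1]
      calc g * b * g⁻¹ * (g * z * g⁻¹) = g * (b * z) * g⁻¹ := by group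
        _ = g * (z * b) * g⁻¹ := by rw [hbz]
        _ = _ := by group
  let S1 : Sylow 7 L := Sylow.ofCard (Subgroup.zpowers (⟨g * b * g⁻¹, hgL⟩ : L)) (by
    rw [Nat.card_zpowers, ← Subgroup.orderOf_coe, hfac, pow_one]
    exact ((MulAut.conj g).orderOf_eq b).trans O.ord)
  let S2 : Sylow 7 L := Sylow.ofCard (Subgroup.zpowers (⟨b, hbL⟩ : L)) (by
    rw [Nat.card_zpowers, ← Subgroup.orderOf_coe, hfac, pow_one]
    exact O.ord)
  obtain ⟨l, hl⟩ := MulAction.exists_smul_eq L S1 S2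
  refine ⟨l, ((hmemL _).1 l.2).1, ((hmemL _).1 l.2).2, ?_⟩
  have h := congrArg (fun R : Sylow 7 L => (R : Subgroup L)) hl
  simp only [Sylow.coe_subgroup_smul] at h
  have hmem : l * ⟨g * b * g⁻¹, hgL⟩ * l⁻¹ ∈ Subgroup.zpowers (⟨b, hbL⟩ : L) :=
    h.le ⟨⟨g * b * g⁻¹, hgL⟩, Subgroup.mem_zpowers _, rfl⟩
  obtain ⟨i, hi⟩ := Subgroup.mem_zpowers_iff.1 hmem
  refine Subgroup.mem_zpowers_iff.2 ⟨i, ?_⟩
  simpa using congrArg Subtype.val hi

/-- S5416 -/
theorem held_type (hM : IsOfMonsterType z Q) {s : G}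
    (hsQ : ∃ hsc : s ∈ Subgroup.centralizer ({z} : Set G),
      (⟨s, hsc⟩ : Subgroup.centralizer ({z} : Set G)) ∈ Q)
    (hs : IsConj z s) (hs1 : s ≠ z) {B : Subgroup G}
    (hB : B ≤ Subgroup.centralizer ({z, s} : Set G))
    (hBp : Nat.card B = 7 ^ (Nat.card ↥(Subgroup.centralizer ({z, s} : Set G))).factorization 7)
    [(B.subgroupOf (Subgroup.centralizer (B : Set G))).Normal] :
    IsOfHeldType (↥(Subgroup.centralizer (B : Set G)) ⧸
      B.subgroupOf (Subgroup.centralizer (B : Set G))) := by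
  obtain ⟨e', ψ', M', b, x, -, -, hBb, O, -, hconj⟩ := seven_position hM hsQ hs hs1 hB hBp
  obtain ⟨z', R, hR, hset, hiso, hcount⟩ := O.local_type Seven.tab (w := 3) rfl (by norm_num) hBb
    Seven.phi Seven.phi_surjective Seven.phi_ker Seven.phi_faith Seven.sl_no_two hconj
    Seven.count_checks.1
  refine ⟨z', R, hR, hset, hiso, ?_⟩
  rw [hcount, Seven.count_checks.2]

end CfsgLib.Spor.Loc
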