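import Cfsg.Agent.Lib.Spor.Loc.SevenMeetFrame
import Cfsg.Agent.Lib.Spor.Loc.QuotIso
import Cfsg.Agent.Lib.Spor.Loc.QuotZ
import Cfsg.Agent.Lib.Spor.HeTri.MeetType

/-!
In a group of Monster type the centraliser of the Sylow 7-subgroup of a joint centraliser, modulo
it, is of Held type with meets that are not fused.
-/

set_option autoImplicit false
set_option maxRecDepth 100000
set_option linter.unusedSectionVars false

namespace CfsgLib.Spor.Loc

open Cfsg CfsgLib.ThreeTransp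
open CfsgLib.ThreeTransp.MonsterFrame (qImage up)

variable {G : Type*} [Group G] [Finite G] {z : G}
  {Q : Subgroup (Subgroup.centralizer ({z} : Set G))} [Q.Normal]
  {e : (Subgroup.centralizer ({z} : Set G)) ⧸ Q ≃* Cfsg.Spor.Co1}
  {ψ : leechLattice → Q ⧸ Subgroup.center Q}

omit [Finite G] in
/-- Elements of exponent dividing four with the same image modulo `B` are equal. -/
theorem eq_of_mk_eq {B : Subgroup G} {b : G} {p : ℕ} (hB : B = Subgroup.zpowers b) (hp : Odd p)
    (hb : b ^ p = 1) [(B.subgroupOf (Subgroup.centralizer (B : Set G))).Normal]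
    {a a' : Subgroup.centralizer (B : Set G)}
    (h : QuotientGroup.mk' (B.subgroupOf (Subgroup.centralizer (B : Set G))) a =
      QuotientGroup.mk' (B.subgroupOf (Subgroup.centralizer (B : Set G))) a')
    (ha : (a : G) ^ 4 = 1) (ha' : (a' : G) ^ 4 = 1) : (a : G) = a' := by
  have hc : ((a : G)⁻¹ * a') ∈ B := Subgroup.mem_subgroupOf.1 (QuotientGroup.eq.1 h)
  set c := (a : G)⁻¹ * a' with hcdef
  have hac : Commute (a : G) c := (Subgroup.mem_centralizer_iff.1 a.2 c hc).symm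
  have he : (a' : G) = a * c := by rw [hcdef]; group
  have hc4 : c ^ 4 = 1 := by
    rw [he, hac.mul_pow, ha, one_mul] at ha'
    exact ha'
  obtain ⟨i, hi⟩ := Subgroup.mem_zpowers_iff.1 (hB ▸ hc)
  have hcp : c ^ p = 1 := by
    rw [← hi, ← zpow_natCast, ← zpow_mul, mul_comm, zpow_mul, zpow_natCast, hb, one_zpow]
  have := pow_gcd_eq_one.2 ⟨hcp, hc4⟩
  rw [show Nat.gcd p 4 = 1 from by
    rw [show (4 : ℕ) = 2 ^ 2 by rfl]
    exact Nat.Coprime.pow_right 2 (Nat.coprime_two_right.2 hp), pow_one] at this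
  rw [he, this, mul_one]

theorem qImage_pow_four (M : MonsterFrame z Q e ψ) {a : G} (ha : a ∈ qImage Q) : a ^ 4 = 1 := by
  obtain ⟨q, hq, rfl⟩ := ha
  exact up_pow_four M ⟨q, hq⟩

namespace Seven

theorem plane_checks : wTab.Nodup ∧ wTab.length = 8 ∧
    (∀ i ∈ wTab, i < 64 ∧ normL (tb.getD i []) % 32 = 0) ∧
    wTab.all (fun i => wTab.all fun j => wTab.any fun k =>
      congB (addL (tb.getD i []) (tb.getD j [])) (tb.getD k [])) = true := by decide +kernel

theorem lOf_tv {i : ℕ} (hi : i < 64) :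
    lOf ((tv tb i : leechLattice) : GolayPt → ℤ) = tb.getD i [] := by
  rw [tv, lOf_toL (tab.entry i hi)]

end Seven

attribute [local irreducible] toL cl in
/-- Sixteen fixed elements forming an elementary abelian group. -/
theorem exists_plane (M : MonsterFrame z Q e ψ) {b : G} (O : Over M b Seven.bh 7) :
    ∃ W : Subgroup G, W ≤ CQ M b ∧ Nat.card W = 16 ∧ ∀ w ∈ W, w * w = 1 := by
  classical
  obtain ⟨hnd, hlen, hnorm, hclos⟩ := Seven.plane_checks
  let P : G → Prop := fun y => ∃ (q : Q) (i : ℕ), i ∈ Seven.wTab ∧ up q = y ∧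
    ψ (tv Seven.tb i) = QuotientGroup.mk q
  have hP1 : P 1 := ⟨1, 0, by decide, rfl, by
    rw [QuotientGroup.mk_one, ← M.psi_zero, psi_eq_iff M, Seven.tab.zero, map_zero]⟩
  have hmul : ∀ {a c}, P a → P c → P (a * c) := by
    rintro _ _ ⟨q, i, hi, rfl, hqi⟩ ⟨r, j, hj, rfl, hrj⟩
    have h1 := List.all_eq_true.1 (List.all_eq_true.1 hclos i hi) j hj
    obtain ⟨k, hk, hck⟩ := List.any_eq_true.1 h1
    refine ⟨q * r, k, hk, rfl, ?_⟩
    have hcl : cl (tv Seven.tb i + tv Seven.tb j) = cl (tv Seven.tb k) := cl_of_congB (by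
      rwa [AddSubgroup.coe_add, lOf_add, Seven.lOf_tv (hnorm i hi).1, Seven.lOf_tv (hnorm j hj).1,
        Seven.lOf_tv (hnorm k hk).1])
    rw [← (psi_eq_iff M).2 hcl, M.iso.1, hqi, hrj, QuotientGroup.mk_mul]
  have hsq : ∀ {a}, P a → a * a = 1 := by
    rintro _ ⟨q, i, hi, rfl, hqi⟩
    refine (M.sq_iff hqi).2 ?_
    rw [sqNorm_lOf, Seven.lOf_tv (hnorm i hi).1]
    exact Int.dvd_of_emod_eq_zero (hnorm i hi).2
  let W : Subgroup G :=
    { carrier := {y | P y}
      one_mem' := hP1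
      mul_mem' := hmul
      inv_mem' := fun {a} ha => by
        show P a⁻¹
        rwa [inv_eq_of_mul_eq_one_right (hsq ha)] }
  have hle : W ≤ CQ M b := by
    rintro _ ⟨q, i, hi, rfl, hqi⟩
    exact (O.mem_CQ M hqi).2 (Seven.tab.fixed i (hnorm i hi).1)
  refine ⟨W, hle, ?_, fun w hw => @hsq w hw⟩
  obtain ⟨F, hinj, hmem, hsur, -⟩ := O.exists_param M Seven.tab
  have hlt : ∀ k : Fin 8, Seven.wTab.getD k 0 ∈ Seven.wTab := fun k => by
    rw [List.getD_eq_getElem _ 0 (by omega)]; exact List.getElem_mem _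
  let f : Bool × Fin 8 → W := fun t =>
    ⟨up (F (t.1, ⟨Seven.wTab.getD t.2 0, (hnorm _ (hlt t.2)).1⟩)),
      show P _ from ⟨F (t.1, ⟨Seven.wTab.getD t.2 0, (hnorm _ (hlt t.2)).1⟩),
        Seven.wTab.getD t.2 0, hlt t.2, rfl,
        (hmem (t.1, ⟨Seven.wTab.getD t.2 0, (hnorm _ (hlt t.2)).1⟩)).2⟩⟩
  have hf : Function.Bijective f := by
    refine ⟨fun s t h => ?_, ?_⟩
    · have h1 := hinj (MonsterFrame.up_inj (congrArg (fun w : W => (w : G)) h))
      simp only [Prod.mk.injEq, Fin.mk.injEq] at h1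
      rw [List.getD_eq_getElem _ 0 (by omega), List.getD_eq_getElem _ 0 (by omega),
        hnd.getElem_inj_iff] at h1
      exact Prod.ext h1.1 (Fin.ext h1.2)
    · rintro ⟨y, hy⟩
      obtain ⟨⟨s, j⟩, hj⟩ := hsur y (hle hy)
      obtain ⟨q, i, hi, rfl, hqi⟩ := hy
      obtain rfl : F (s, j) = q := MonsterFrame.up_inj hj
      have hji : (j : ℕ) = i := Seven.tab.inj cl_ne_zero j.2 (hnorm i hi).1
        ((psi_eq_iff M).1 ((hmem (s, j)).2.trans hqi.symm))
      obtain ⟨k, hk, hki⟩ := List.getElem_of_mem hi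
      refine ⟨(s, ⟨k, hlen ▸ hk⟩), Subtype.ext ?_⟩
      show up (F (s, _)) = up (F (s, j))
      congr 3
      refine Fin.ext ?_
      show Seven.wTab.getD k 0 = j
      rw [List.getD_eq_getElem _ 0 hk, hki, hji]
  rw [← Nat.card_eq_of_bijective f hf, Nat.card_prod, Nat.card_fin, Nat.card_eq_fintype_card,
    Fintype.card_bool]

set_option maxHeartbeats 1000000 in
/-- **Held type with unfused meets.** -/
theorem seven_meet_type (hM : IsOfMonsterType z Q) {s : G}
    (hsQ : ∃ hsc : s ∈ Subgroup.centralizer ({z} : Set G),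
      (⟨s, hsc⟩ : Subgroup.centralizer ({z} : Set G)) ∈ Q)
    (hs : IsConj z s) (hs1 : s ≠ z) {B : Subgroup G}
    (hB : B ≤ Subgroup.centralizer ({z, s} : Set G))
    (hBp : Nat.card B = 7 ^ (Nat.card ↥(Subgroup.centralizer ({z, s} : Set G))).factorization 7)
    [(B.subgroupOf (Subgroup.centralizer (B : Set G))).Normal] :
    ∃ z' : ↥(Subgroup.centralizer (B : Set G)) ⧸ B.subgroupOf (Subgroup.centralizer (B : Set G)),
      HeTri.MeetType z' := by
  obtain ⟨e', ψ', M', b, x, hxs, -, hBb, O, -, hconj⟩ := seven_position hM hsQ hs hs1 hB hBp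
  obtain ⟨hz, R', hR', hset, hcount⟩ := O.local_setting Seven.tab (w := 3) rfl (by norm_num) hBb
    Seven.phi Seven.phi_surjective Seven.phi_ker Seven.phi_faith Seven.sl_no_two hconj
    Seven.count_checks.1
  obtain ⟨hz₂, R, hR, hmem, hEx, hcard, hiso⟩ := O.local_quot Seven.tab (w := 3) rfl (by norm_num) hBb
    Seven.phi Seven.phi_surjective Seven.phi_ker
  have hRR : R = R' := by
    have : Fact (Nat.Prime 2) := ⟨Nat.prime_two⟩
    refine Subgroup.eq_of_le_of_card_ge ?_ (by rw [hset.2.2.2.1, hcard])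
    refine (CfsgLib.Base.le_fittingSubgroup
      (CfsgLib.Base.isNilpotent_of_isPGroup hEx.1.1)).trans (le_trans ?_ hset.2.1.le)
    rw [generalizedFittingSubgroup]
    exact le_sup_right
  subst hRR
  have hodd := O.odd
  have hbp := O.pow_b
  have hCQ : ∀ a, a ∈ CQ M' b ↔ a ∈ qImage Q ∧ b * a = a * b := fun a => by
    rw [Subgroup.mem_inf, Subgroup.mem_centralizer_singleton_iff, eq_comm (a := a * b)]
  have hGbb : ∀ a, a ∈ (Subgroup.centralizer (B : Set G)) → b * a = a * b := fun a ha =>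
    Subgroup.mem_centralizer_iff.1 ha b (hBb ▸ Subgroup.mem_zpowers b)
  have hbGb : ∀ a, b * a = a * b → a ∈ (Subgroup.centralizer (B : Set G)) := fun a ha => by
    rw [hBb, Subgroup.zpowers_eq_closure, Subgroup.centralizer_closure,
      Subgroup.mem_centralizer_singleton_iff]
    exact ha.symm
  have hz4 : z ^ 4 = 1 := qImage_pow_four M' M'.xcent.mem
  refine ⟨((⟨z, hz₂⟩ : ↥(Subgroup.centralizer (B : Set G))) :
    ↥(Subgroup.centralizer (B : Set G)) ⧸ B.subgroupOf (Subgroup.centralizer (B : Set G))), R, hR, hset, hiso, ?_, ?_, ?_⟩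
  · obtain ⟨W, hW, hW16, hW2⟩ := exists_plane M' O
    let ι : W →* ↥(Subgroup.centralizer (B : Set G)) ⧸ B.subgroupOf (Subgroup.centralizer (B : Set G)) :=
      (QuotientGroup.mk' (B.subgroupOf (Subgroup.centralizer (B : Set G)))).comp (Subgroup.inclusion (fun a ha => hbGb a ((hCQ a).1 (hW ha)).2))
    have hιinj : Function.Injective ι := fun a c h => Subtype.ext
      (eq_of_mk_eq hBb hodd hbp h (qImage_pow_four M' ((hCQ _).1 (hW a.2)).1)
        (qImage_pow_four M' ((hCQ _).1 (hW c.2)).1))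
    let κ := (Subgroup.subtype _).comp R.subtype
    have hκ : Function.Injective κ := Subtype.val_injective.comp Subtype.val_injective
    have hle : ι.range ≤ κ.range := by
      rintro _ ⟨a, rfl⟩
      obtain ⟨d, hd, hde⟩ := (hmem (ι a)).2 ⟨⟨a, hbGb a ((hCQ _).1 (hW a.2)).2⟩, hW a.2, rfl⟩
      exact ⟨⟨d, hd⟩, hde⟩
    have hmap : (ι.range.comap κ).map κ = ι.range := Subgroup.map_comap_eq_self hle
    refine ⟨ι.range.comap κ, ⟨⟨⟨fun a c => ?_⟩⟩, fun a ha => ?_⟩, ?_⟩
    · refine Subtype.ext (hκ ?_)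
      obtain ⟨u, hu⟩ := a.2
      obtain ⟨v, hv⟩ := c.2
      rw [Subgroup.coe_mul, Subgroup.coe_mul, map_mul, map_mul, ← hu, ← hv, ← map_mul, ← map_mul]
      congr 1
      refine Subtype.ext ?_
      have h1 := hW2 _ (mul_mem u.2 v.2)
      calc (u : G) * v = ((u : G) * v)⁻¹ := eq_inv_of_mul_eq_one_left h1
        _ = v * u := by
          rw [mul_inv_rev, inv_eq_of_mul_eq_one_right (hW2 _ u.2),
            inv_eq_of_mul_eq_one_right (hW2 _ v.2)]
    · refine hκ ?_
      obtain ⟨u, hu⟩ := ha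
      rw [map_pow, map_one, ← hu, ← map_pow, show u ^ 2 = 1 from Subtype.ext (by
        rw [SubgroupClass.coe_pow, pow_two, hW2 _ u.2, Subgroup.coe_one]), map_one]
    · rw [← Subgroup.card_map_of_injective hκ, hmap,
        Nat.card_congr (MonoidHom.ofInjective hιinj).toEquiv.symm, hW16]
      norm_num
  · exact hcount.trans (by rw [Seven.count_checks.2])
  · intro g hgR hgz
    obtain ⟨a, ha, hae⟩ := (hmem _).1 hgR
    obtain ⟨g, rfl⟩ := QuotientGroup.mk'_surjective (B.subgroupOf (Subgroup.centralizer (B : Set G))) g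
    have hu : (QuotientGroup.mk' (B.subgroupOf (Subgroup.centralizer (B : Set G)))) (g * ⟨z, hz⟩ * g⁻¹) = (QuotientGroup.mk' (B.subgroupOf (Subgroup.centralizer (B : Set G)))) a := by rw [map_mul, map_mul, map_inv]; exact hae.symm
    have hga : (g : G) * z * (g : G)⁻¹ = a := eq_of_mk_eq hBb hodd hbp hu
      (by
        show ((g : G) * z * (g : G)⁻¹) ^ 4 = 1
        rw [conj_pow, hz4, mul_one, mul_inv_cancel])
      (qImage_pow_four M' ((hCQ _).1 ha).1)
    obtain ⟨q, hq, hqa⟩ := ((hCQ _).1 ha).1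
    let x' : Q := ⟨q, hq⟩
    have hx'a : up x' = a := hqa
    have hax : IsConj z (up x') := hx'a ▸ isConj_iff.2 ⟨g, hga⟩
    have haz : up x' ≠ z := by
      intro h
      refine hgz ?_
      rw [← hae]
      exact congrArg (QuotientGroup.mk' (B.subgroupOf (Subgroup.centralizer (B : Set G)))) (Subtype.ext (hx'a.symm.trans h) : a = ⟨z, hz⟩)
    have hBle : B ≤ Subgroup.centralizer ({z, up x'} : Set G) := by
      intro c hc
      refine Subgroup.mem_centralizer_iff.2 ?_
      rintro u (rfl | rfl)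
      · exact (Subgroup.mem_centralizer_iff.1 hz c hc).symm
      · rw [hx'a]; exact (Subgroup.mem_centralizer_iff.1 a.2 c hc).symm
    have hBp' : Nat.card B =
        7 ^ (Nat.card ↥(Subgroup.centralizer ({z, up x'} : Set G))).factorization 7 := by
      have hsx : up x = s := hxs
      rw [card_joint M' hax haz (y := x) (hsx.symm ▸ hs) (hsx.symm ▸ hs1), hsx]
      exact hBp
    obtain ⟨e₂, ψ₂, M₂, b₂, x₂, hx₂, hψ₂, hBb₂, O₂, -, -⟩ :=
      seven_position hM ⟨q.2, hq⟩ hax haz hBle hBp'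
    have hGb₂ : ∀ c, b₂ * c = c * b₂ → c ∈ (Subgroup.centralizer (B : Set G)) := fun c hc => by
      rw [hBb₂, Subgroup.zpowers_eq_closure, Subgroup.centralizer_closure,
        Subgroup.mem_centralizer_singleton_iff]
      exact hc.symm
    obtain ⟨h1, y, hy, hy', hyb, hyy, hy1, hyz⟩ := exists_meet M₂ O₂ hψ₂
      (g := (g : G)) (by rw [hx₂]; exact hga.trans hx'a.symm)
    have hyGb : y ∈ (Subgroup.centralizer (B : Set G)) := hGb₂ y hyb
    have hgg : ∀ c : G, c ∈ (Subgroup.centralizer (B : Set G)) → (g : G)⁻¹ * c * g ∈ (Subgroup.centralizer (B : Set G)) := fun c hc =>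
      mul_mem (mul_mem (inv_mem g.2) hc) g.2
    have hin : ∀ c : ↥(Subgroup.centralizer (B : Set G)), (c : G) ∈ qImage Q → (QuotientGroup.mk' (B.subgroupOf (Subgroup.centralizer (B : Set G)))) c ∈ R.map (Subgroup.subtype _) := fun c hc =>
      (hmem _).2 ⟨c, (hCQ _).2 ⟨hc, hGbb _ c.2⟩, rfl⟩
    refine ⟨?_, (QuotientGroup.mk' (B.subgroupOf (Subgroup.centralizer (B : Set G)))) ⟨y, hyGb⟩, hin _ hy, ?_, ?_, ?_⟩
    · have := hin (g⁻¹ * ⟨z, hz⟩ * g) h1
      rwa [map_mul, map_mul, map_inv] at this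
    · have := hin (g⁻¹ * ⟨y, hyGb⟩ * g) hy'
      rwa [map_mul, map_mul, map_inv] at this
    · intro h
      refine hy1 (eq_of_mk_eq hBb hodd hbp (a := ⟨y, hyGb⟩) (a' := 1) (h.trans (map_one (QuotientGroup.mk' (B.subgroupOf (Subgroup.centralizer (B : Set G))))).symm) ?_
        (one_pow 4))
      exact qImage_pow_four M' hy
    · intro h
      obtain ⟨k, hk⟩ := isConj_iff.1 h.symm
      obtain ⟨k, rfl⟩ := QuotientGroup.mk'_surjective (B.subgroupOf (Subgroup.centralizer (B : Set G))) k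
      refine hyz (isConj_iff.2 ⟨k, eq_of_mk_eq hBb hodd hbp (a := k * ⟨z, hz⟩ * k⁻¹)
        (a' := ⟨y, hyGb⟩) (by rw [map_mul, map_mul, map_inv]; exact hk) ?_
        (qImage_pow_four M' hy)⟩)
      show ((k : G) * z * (k : G)⁻¹) ^ 4 = 1
      rw [conj_pow, hz4, mul_one, mul_inv_cancel]

end CfsgLib.Spor.Loc
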