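import Cfsg.Agent.Lib.Spor.Loc.SevenMain
import Cfsg.Agent.Lib.Spor.Loc.SignLift

/-!
For a conjugate `x ≠ z` of `z` among the fixed points of the element of order seven, the meet of
the two extraspecial groups contains a fixed involution that is not conjugate to `z`.
-/

set_option autoImplicit false
set_option maxRecDepth 100000
set_option linter.unusedSectionVars false

namespace CfsgLib.Spor.Loc

open Cfsg CfsgLib.ThreeTransp
open CfsgLib.ThreeTransp.MonsterFrame (qImage up)
open CfsgLib.ThreeTransp.CoReduce (bigE)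
open scoped Pointwise symmDiff

variable {G : Type*} [Group G] [Finite G] {z : G}
  {Q : Subgroup (Subgroup.centralizer ({z} : Set G))} [Q.Normal]
  {e : (Subgroup.centralizer ({z} : Set G)) ⧸ Q ≃* Cfsg.Spor.Co1}
  {ψ : leechLattice → Q ⧸ Subgroup.center Q}

/-- Every sign change of the frame of `x` is the image of an element of the extraspecial group at
`x` centralising `z`. -/
theorem exists_sign_mem (M : MonsterFrame z Q e ψ) {x : Q} (hx : ψ eTop = QuotientGroup.mk x)
    {g : G} (hg : g * z * g⁻¹ = up x)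
    (c : ↥(supports (golayCode : Set (GolayPt → ZMod 2)))) :
    ∃ a : Subgroup.centralizer ({z} : Set G),
      (a : G) ∈ (qImage Q).map (MulAut.conj g).toMonoidHom ∧
      e (QuotientGroup.mk a) = QuotientGroup.mk (epsEl c) := by
  classical
  have hxz := M.noncentral (Or.inr (Or.inr rfl)) (sqNorm_bigE none) hx
  obtain ⟨-, hEX, hnorm, hEel, hE11, -⟩ := M.frame_structure hx hg _ _ rfl rfl
  set P := (qImage Q).map (MulAut.conj g).toMonoidHom with hP
  set X := ((Subgroup.centralizer ({z} : Set G) ⊓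
      Subgroup.centralizer ({up x} : Set G)).subgroupOf
        (Subgroup.centralizer ({z} : Set G))).map (QuotientGroup.mk' Q) with hX
  set E := ((P ⊓ Subgroup.centralizer ({z} : Set G)).subgroupOf
        (Subgroup.centralizer ({z} : Set G))).map (QuotientGroup.mk' Q) with hE
  let π : Co0 →* Cfsg.Spor.Co1 := QuotientGroup.mk' (Subgroup.center Co0)
  let F : Subgroup Co0 := (E.map e.toMonoidHom).comap π
  have hFcross : F ≤ crossStab := by
    rintro f ⟨k, hk, hkf⟩
    obtain ⟨a, ha, rfl⟩ := hEX hk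
    refine mem_crossStab_of_cl ?_
    rw [← psi_eq_iff M, M.iso.2.2.2 a f hkf.symm eTop x hx, hx]
    congr 1
    exact MonsterFrame.up_inj (mul_inv_eq_iff_eq_mul.2 (Subgroup.mem_centralizer_singleton_iff.1 ha.2))
  have hXfrom : ∀ g' ∈ crossStab, ∃ k ∈ X, (QuotientGroup.mk g' : Cfsg.Spor.Co1) = e k := by
    intro g' hg'
    have hfix : ψ (g' • eTop) = QuotientGroup.mk x := by
      rw [← hx, psi_eq_iff M]
      exact cl_eTop_of_mem hg'
    obtain ⟨a, ha, hax⟩ := M.exists_lift hxz hx hfix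
    exact ⟨QuotientGroup.mk a,
      ⟨a, ⟨a.2, Subgroup.mem_centralizer_singleton_iff.2 (mul_inv_eq_iff_eq_mul.1 hax)⟩, rfl⟩, ha⟩
  have hFnorm : ∀ a ∈ crossStab, ∀ f ∈ F, a * f * a⁻¹ ∈ F := by
    rintro a ha f ⟨k, hk, hkf⟩
    obtain ⟨l, hl, hle⟩ := hXfrom a ha
    refine ⟨l * k * l⁻¹, hnorm l hl k hk, ?_⟩
    show e (l * k * l⁻¹) = π (a * f * a⁻¹)
    rw [map_mul, map_mul, map_inv, map_mul, map_mul, map_inv, ← hle, ← hkf]
    rfl
  have hF4 : ∀ f ∈ F, f ^ 4 = 1 := by
    rintro f ⟨k, hk, hkf⟩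
    have h2 : π (f ^ 2) = 1 := by
      rw [map_pow, ← hkf]
      show (e k) ^ 2 = 1
      rw [← map_pow, hEel.2 k hk, map_one]
    rw [show (4 : ℕ) = 2 * 2 by rfl, pow_mul]
    rcases eq_of_central ((QuotientGroup.eq_one_iff _).1 h2) with h1 | h1
    · rw [h1, one_pow]
    · rw [h1, pow_two]
      exact co0_ext fun i => by rw [mul_smul, negEl_smul, negEl_smul, neg_neg, one_smul]
  have hFcard : Nat.card F = 2 * Nat.card E := by
    have h1 := Subgroup.card_mul_index F
    have h2 := Subgroup.card_mul_index (E.map e.toMonoidHom)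
    have h3 : F.index = (E.map e.toMonoidHom).index :=
      Subgroup.index_comap_of_surjective _ (QuotientGroup.mk'_surjective _)
    rw [natCard_Co0, h3] at h1
    rw [Subgroup.card_map_of_injective e.injective, natCard_co1] at h2
    refine Nat.eq_of_mul_eq_mul_right (Nat.pos_of_ne_zero
      (Subgroup.FiniteIndex.index_ne_zero (H := E.map e.toMonoidHom))) ?_
    rw [h1, mul_assoc, h2]; norm_num
  obtain ⟨k, ⟨a, ⟨haP, -⟩, hak⟩, hkc⟩ := epsEl_mem_of_normal F hFcross hFnorm hF4
    (by rw [hFcard, hE11]; norm_num) c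
  exact ⟨a, haP, by rw [← hak] at hkc; exact hkc⟩

namespace Seven

/-- twice an octad avoiding the last point -/
def vOct : List ℤ :=
  (List.range 24).map fun i => if (140167 : ℕ).testBit i then 2 else 0

theorem meet_checks : inCode 504864 = true ∧ goodB vOct = true ∧ normL vOct = 32 ∧
    decide ((32 : ℤ) ∣ normL (addL vOct (Co1Out.bigL 23))) = true ∧
    runP [Stp.mono CfsgLib.MathieuOut.idP 504864] vOct = addL vOct (tb.getD 5 []) ∧
    normL (tb.getD 5 []) = 32 := by decide +kernel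

theorem lOf_eTop : lOf ((eTop : leechLattice) : GolayPt → ℤ) = Co1Out.bigL 23 := by
  rw [show ((eTop : leechLattice) : GolayPt → ℤ) = ((bigE none : leechLattice) : GolayPt → ℤ) from rfl,
    Co1Out.lOf_bigE]
  rfl

end Seven

/-- **The meet** of the extraspecial groups at `z` and at `x`. -/
theorem exists_meet (M : MonsterFrame z Q e ψ) {b : G} (O : Over M b Seven.bh 7) {x : Q}
    (hx : ψ eTop = QuotientGroup.mk x) {g : G} (hg : g * z * g⁻¹ = up x) :
    g⁻¹ * z * g ∈ qImage Q ∧ ∃ y ∈ qImage Q, g⁻¹ * y * g ∈ qImage Q ∧ b * y = y * b ∧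
      y * y = 1 ∧ y ≠ 1 ∧ ¬ IsConj z y := by
  obtain ⟨c1, c2, c3, c4, c5, c6⟩ := Seven.meet_checks
  have h := M.xcent
  have hmemP : ∀ a : G, a ∈ (qImage Q).map (MulAut.conj g).toMonoidHom ↔
      g⁻¹ * a * g ∈ qImage Q := fun a => by
    rw [Subgroup.mem_map_equiv, MulAut.conj_symm_apply]
  have hzP : z ∈ (qImage Q).map (MulAut.conj g).toMonoidHom :=
    h.mem_conj g (hg.symm ▸ M.mem_QG x)
  refine ⟨(hmemP z).1 hzP, ?_⟩
  have h' : XCent ((qImage Q).map (MulAut.conj g).toMonoidHom) (up x) := hg ▸ h.conj g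
  generalize hP : (qImage Q).map (MulAut.conj g).toMonoidHom = P at h' hmemP
  -- the sign change and the fixed vector
  let c : ↥(supports (golayCode : Set (GolayPt → ZMod 2))) :=
    ⟨toSet 504864, toSet_supports_of_inCode c1 (by norm_num)⟩
  obtain ⟨a, haP, hae⟩ := exists_sign_mem M hx hg c
  rw [hP] at haP
  let v : leechLattice := toL Seven.vOct
  have hv : lOf (v : GolayPt → ℤ) = Seven.vOct := lOf_toL c2
  obtain ⟨q, hq⟩ := M.psi_lift v
  have hqq : up q * up q = 1 := (M.sq_iff hq).2 (by rw [sqNorm_lOf, hv, c3])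
  have hxx : up x * up x = 1 := MonsterFrame.conj_sq hg h.inv
  have hqx : up q * up x = up x * up q := by
    have hsum : ψ (v + eTop) = QuotientGroup.mk (q * x) := by
      rw [M.iso.1, hq, hx, QuotientGroup.mk_mul]
    have h1 : up (q * x) * up (q * x) = 1 := (M.sq_iff hsum).2 (by
      rw [sqNorm_lOf, AddSubgroup.coe_add, lOf_add, hv, Seven.lOf_eTop]
      exact of_decide_eq_true c4)
    rw [MonsterFrame.up_mul] at h1
    calc up q * up x = (up q * up x)⁻¹ := eq_inv_of_mul_eq_one_left h1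
      _ = up x * up q := by
        rw [mul_inv_rev, inv_eq_of_mul_eq_one_right hqq, inv_eq_of_mul_eq_one_right hxx]
  -- the commutator
  let qC : Subgroup.centralizer ({z} : Set G) := q
  let y : Q := ⟨a * qC * a⁻¹, (inferInstance : Q.Normal).conj_mem _ q.2 a⟩ * q⁻¹
  have hy : ψ (tv Seven.tb 5) = QuotientGroup.mk y := by
    have hsum : epsEl c • v = v + tv Seven.tb 5 := by
      refine Subtype.ext (lOf_inj ?_)
      rw [actsAs_epsEl c1 (by norm_num) v, AddSubgroup.coe_add, lOf_add, hv, c5, tv,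
        lOf_toL (Seven.tab.entry 5 (by norm_num))]
    have h1 := M.iso.2.2.2 a (epsEl c) hae.symm v q hq
    rw [hsum, add_comm, M.iso.1, hq] at h1
    rw [show y = ⟨a * qC * a⁻¹, (inferInstance : Q.Normal).conj_mem _ q.2 a⟩ * q⁻¹ from rfl,
      QuotientGroup.mk_mul, QuotientGroup.mk_inv, ← h1, mul_inv_cancel_right]
  have hn : sqNorm ((tv Seven.tb 5 : leechLattice) : GolayPt → ℤ) = 32 := by
    rw [sqNorm_lOf, tv, lOf_toL (Seven.tab.entry 5 (by norm_num)), c6]
  have hord := M.orderOf_of_norm32 hn hy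
  refine ⟨up y, M.mem_QG y, (hmemP _).1 ?_, ?_, ?_, ?_, M.not_conj_of_norm32 hn hy⟩
  · have e1 : up y = (a : G) * (up q * (a : G)⁻¹ * (up q)⁻¹) := by
      show (a : G) * up q * (a : G)⁻¹ * (up q)⁻¹ = _
      group
    rw [e1]
    exact mul_mem haP (h'.norm (up q) hqx _ (inv_mem haP))
  · exact (O.comm_iff M hy).2 (Seven.tab.fixed 5 (by norm_num))
  · rw [← pow_two, ← hord, pow_orderOf_eq_one]
  · intro h1
    rw [h1, orderOf_one] at hord
    norm_num at hord

end CfsgLib.Spor.Loc
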